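import Mathlib

/-!
# Involutions and elements of odd order in the alternating group on seven letters
-/

set_option autoImplicit false

namespace CfsgLib.GW.Dne.SevenFacts

open Equiv Equiv.Perm

abbrev A := alternatingGroup (Fin 7)

theorem val_sq {t : A} (ht : orderOf t = 2) : (t : Perm (Fin 7)) * t = 1 ∧ (t : Perm (Fin 7)) ≠ 1 := by
  have h := pow_orderOf_eq_one t
  rw [ht, pow_two] at h
  refine ⟨congrArg Subtype.val h, fun e => ?_⟩
  rw [show t = 1 from Subtype.ext e, orderOf_one] at ht
  omega

theorem cycleType_involution {t : A} (ht : orderOf t = 2) :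
    (t : Perm (Fin 7)).cycleType = {2, 2} := by
  have ho : orderOf (t : Perm (Fin 7)) = 2 := by rw [Subgroup.orderOf_coe, ht]
  obtain ⟨n, hn⟩ := cycleType_prime_order (by rw [ho]; exact Nat.prime_two :
    (orderOf (t : Perm (Fin 7))).Prime)
  rw [ho] at hn
  have hs := sum_cycleType_le (t : Perm (Fin 7))
  rw [hn, Multiset.sum_replicate, Fintype.card_fin, smul_eq_mul] at hs
  have hsign : sign (t : Perm (Fin 7)) = 1 := mem_alternatingGroup.1 t.2
  rw [sign_of_cycleType, hn, Multiset.sum_replicate, Multiset.card_replicate, smul_eq_mul] at hsign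
  have : n = 1 := by
    rcases n with _ | _ | _ | n
    · exact absurd hsign (by decide)
    · rfl
    · exact absurd hsign (by decide)
    · omega
  subst this
  rw [hn]; rfl

theorem support_card {t : A} (ht : orderOf t = 2) : (t : Perm (Fin 7)).support.card = 4 := by
  rw [← sum_cycleType, cycleType_involution ht]
  rfl

theorem card_involutions : Nat.card {t : A // orderOf t = 2} = 105 := by
  classical
  have hiff : ∀ t : A, orderOf t = 2 ↔ (t : Perm (Fin 7)).cycleType = {2, 2} := fun t => by
    refine ⟨cycleType_involution, fun h => ?_⟩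
    rw [← Subgroup.orderOf_coe, ← lcm_cycleType, h]
    rfl
  rw [Nat.card_congr (Equiv.subtypeEquivRight hiff), Nat.card_eq_fintype_card, Fintype.card_subtype,
    AlternatingGroup.card_of_cycleType]
  rfl

/-- An element of odd order commuting with a fixed-point-free involution of a four-set. -/
theorem four_fix : ∀ s y : Perm (Fin 4), s * s = 1 → (∀ i, s i ≠ i) → y * y * y = 1 →
    s * y = y * s → y = 1 := by
  decide

/-- The fixed-point-free involutions of a four-set. -/
theorem four_invol : ∀ s : Perm (Fin 4), s * s = 1 → (∀ i, s i ≠ i) →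
    s = swap 0 1 * swap 2 3 ∨ s = swap 0 2 * swap 1 3 ∨ s = swap 0 3 * swap 1 2 := by
  decide

theorem cube_eq_one_of_odd (y : Perm (Fin 4)) (ho : Odd (orderOf y)) : y * y * y = 1 := by
  have h : orderOf y ∣ 24 := by
    have := orderOf_dvd_natCard y
    rwa [Nat.card_eq_fintype_card, Fintype.card_perm, Fintype.card_fin] at this
  have h3 : orderOf y ∣ 3 :=
    (Nat.Coprime.pow_right 3 (Nat.coprime_two_right.2 ho)).dvd_of_dvd_mul_left (show orderOf y ∣ 2 ^ 3 * 3 from h)
  have := orderOf_dvd_iff_pow_eq_one.1 h3
  rwa [pow_three', ] at this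

/-- An element of odd order commuting with an involution fixes the support of the involution. -/
theorem fixes_support {t x : A} (ht : orderOf t = 2) (hx : Odd (orderOf x)) (hc : Commute x t) :
    ∀ i ∈ (t : Perm (Fin 7)).support, (x : Perm (Fin 7)) i = i := by
  classical
  set T := (t : Perm (Fin 7))
  set X := (x : Perm (Fin 7))
  have hXT : X * T = T * X := congrArg Subtype.val hc.eq
  have hsX : ∀ i, X i ∈ T.support ↔ i ∈ T.support := fun i => by
    simp only [mem_support, ne_eq]
    rw [not_iff_not, show T (X i) = X (T i) from (Perm.ext_iff.1 hXT i).symm, X.injective.eq_iff]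
  have hsT : ∀ i, T i ∈ T.support ↔ i ∈ T.support := fun i => apply_mem_support
  let e : {i // i ∈ T.support} ≃ Fin 4 :=
    Fintype.equivFinOfCardEq (by rw [Fintype.card_coe]; exact support_card ht)
  set y : Perm (Fin 4) := e.permCongr (X.subtypePerm hsX)
  set s : Perm (Fin 4) := e.permCongr (T.subtypePerm hsT)
  have hy : y = 1 := by
    refine four_fix s y ?_ ?_ ?_ ?_
    · refine Equiv.ext fun i => e.symm.injective (Subtype.ext ?_)
      simp [s, subtypePerm]
      exact Perm.ext_iff.1 (val_sq ht).1 _
    · intro i h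
      have := congrArg (fun k => (e.symm k : Fin 7)) h
      simp [s, subtypePerm] at this
      exact mem_support.1 (e.symm i).2 this
    · refine cube_eq_one_of_odd y (hx.of_dvd_nat ?_)
      refine orderOf_dvd_of_pow_eq_one ?_
      have hX : X ^ orderOf x = 1 := by
        rw [← SubgroupClass.coe_pow, pow_orderOf_eq_one]; rfl
      rw [show y = e.permCongrHom (X.subtypePerm hsX) from rfl, ← map_pow, subtypePerm_pow]
      simp [hX, subtypePerm, Equiv.ext_iff]
    · refine Equiv.ext fun i => e.symm.injective (Subtype.ext ?_)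
      simp [s, y, subtypePerm]
      exact (Perm.ext_iff.1 hXT _).symm
  intro i hi
  have := congrArg (fun p : Perm (Fin 4) => (e.symm (p (e ⟨i, hi⟩)) : Fin 7)) hy
  simpa [y, subtypePerm] using this

/-- The support of a nontrivial odd element commuting with `t` is the fixed set of `t`. -/
theorem support_eq {t x : A} (ht : orderOf t = 2) (hx : Odd (orderOf x)) (hx1 : x ≠ 1)
    (hc : Commute x t) : (x : Perm (Fin 7)).support = ((t : Perm (Fin 7)).support)ᶜ := by
  classical
  refine Finset.eq_of_subset_of_card_le (fun i hi => ?_) ?_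
  · rw [Finset.mem_compl]
    exact fun h => mem_support.1 hi (fixes_support ht hx hc i h)
  · rw [Finset.card_compl, support_card ht, Fintype.card_fin]
    have h2 : (x : Perm (Fin 7)).support.card ≠ 2 := fun h => by
      have := card_support_eq_two.1 h
      rw [isSwap_iff_cycleType] at this
      have hev := mem_alternatingGroup.1 x.2
      rw [sign_of_cycleType, this] at hev
      exact absurd hev (by decide)
    have h0 : (x : Perm (Fin 7)).support.card ≠ 0 := fun h => hx1 (Subtype.ext
      (support_eq_empty_iff.1 (Finset.card_eq_zero.1 h)))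
    have h1 := card_support_ne_one (x : Perm (Fin 7))
    omega

/-- No commuting odd elements `a`, `b` are inverted and centralised crosswise by `t`, `u`. -/
theorem crossed {t u a b : A} (ht : orderOf t = 2) (hu : orderOf u = 2) (ha : Odd (orderOf a))
    (hb : Odd (orderOf b)) (hat : Commute a t) (hua : u * a * u⁻¹ = a⁻¹) (hbu : Commute b u)
    (htb : t * b * t⁻¹ = b⁻¹) (hab : Commute a b) : a = 1 ∨ b = 1 := by
  classical
  by_contra hh
  push Not at hh
  obtain ⟨ha1, hb1⟩ := hh
  set α := (a : Perm (Fin 7))
  set β := (b : Perm (Fin 7))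
  have hSa := support_eq ht ha ha1 hat
  have hSb := support_eq hu hb hb1 hbu
  have hcard : β.support.card = 3 := by
    rw [hSb, Finset.card_compl, support_card hu, Fintype.card_fin]
  -- `a` commutes with `u` on the support of `b`, where `u` is trivial
  have hconj : ∀ {p q : A}, p * q * p⁻¹ = q⁻¹ → ∀ i,
      (p : Perm (Fin 7)) ((q : Perm (Fin 7)) i) = (q : Perm (Fin 7))⁻¹ ((p : Perm (Fin 7)) i) := by
    intro p q h i
    have h' : (p : Perm (Fin 7)) * q = (q : Perm (Fin 7))⁻¹ * p := by
      have := congrArg Subtype.val (mul_inv_eq_iff_eq_mul.1 h)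
      simpa using this
    exact Perm.ext_iff.1 h' i
  by_cases hd : ∃ i, i ∈ α.support ∧ i ∈ β.support
  · obtain ⟨i, hia, hib⟩ := hd
    have hαβ : α * β = β * α := congrArg Subtype.val hab.eq
    have hinv : ∀ j, j ∈ β.support → α j ∈ β.support := fun j hj => by
      rw [mem_support] at hj ⊢
      intro e
      apply hj
      apply α.injective
      rw [← Perm.mul_apply, hαβ, Perm.mul_apply, e]
    have hufix : ∀ j ∈ β.support, (u : Perm (Fin 7)) j = j := fun j hj => by
      rw [hSb, Finset.mem_compl, notMem_support] at hj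
      exact hj
    have e := hconj hua i
    rw [hufix _ (hinv i hib), hufix i hib] at e
    have h2 : (α * α) i = i := by
      rw [Perm.mul_apply, e]
      exact Equiv.apply_symm_apply α i
    obtain ⟨k, hk⟩ := ha
    have h3 : ∀ m : ℕ, ((α * α) ^ m) i = i := fun m => by
      induction m with
      | zero => rfl
      | succ m ih => rw [pow_succ, Perm.mul_apply, h2, ih]
    have h4 : α = (α * α) ^ (k + 1) := by
      have hX : α ^ (2 * k + 1) = 1 := by
        rw [← hk, ← SubgroupClass.coe_pow, pow_orderOf_eq_one]; rfl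
      rw [← pow_two, ← pow_mul, show 2 * (k + 1) = 2 * k + 1 + 1 by omega, pow_succ, hX, one_mul]
    refine mem_support.1 hia ?_
    rw [h4]
    exact h3 _
  · push Not at hd
    have hsub : β.support ⊆ (t : Perm (Fin 7)).support := fun i hi => by
      by_contra h
      exact hd i (by rw [hSa, Finset.mem_compl]; exact h) hi
    have hT : ∀ i, (t : Perm (Fin 7)) ((t : Perm (Fin 7)) i) = i := fun i =>
      Perm.ext_iff.1 (val_sq ht).1 i
    have hinv : ∀ i, (t : Perm (Fin 7)) i ∈ β.support ↔ i ∈ β.support := by
      have hone : ∀ i, i ∈ β.support → (t : Perm (Fin 7)) i ∈ β.support := fun i hi => by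
        rw [mem_support] at hi ⊢
        intro e
        have h' := hconj htb i
        have e' : β⁻¹ ((t : Perm (Fin 7)) i) = (t : Perm (Fin 7)) i := by
          conv_lhs => rw [← e]
          exact Equiv.symm_apply_apply β _
        rw [e'] at h'
        exact hi ((t : Perm (Fin 7)).injective h')
      exact fun i => ⟨fun h => by simpa [hT] using hone _ h, hone i⟩
    let e : {i // i ∈ β.support} ≃ Fin 3 := Fintype.equivFinOfCardEq (by rw [Fintype.card_coe]; exact hcard)
    set s : Perm (Fin 3) := e.permCongr ((t : Perm (Fin 7)).subtypePerm hinv)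
    have key : ∀ s : Perm (Fin 3), s * s = 1 → ∃ i, s i = i := by decide
    obtain ⟨i, hi⟩ := key s (by
      refine Equiv.ext fun i => e.symm.injective (Subtype.ext ?_)
      simp [s, subtypePerm]
      exact hT _)
    have := congrArg (fun k => (e.symm k : Fin 7)) hi
    simp [s, subtypePerm] at this
    exact mem_support.1 (hsub (e.symm i).2) this

/-- The involutions commuting with an odd element `x` of `C(t)` are among three. -/
theorem involutions_commuting {t x : A} (ht : orderOf t = 2) (hx : Odd (orderOf x)) (hx1 : x ≠ 1)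
    (hc : Commute x t) : ∃ a b : A, ∀ j : A, orderOf j = 2 → Commute j x → j = t ∨ j = a ∨ j = b := by
  classical
  set T := (t : Perm (Fin 7))
  have hsupp : ∀ j : A, orderOf j = 2 → Commute j x → (j : Perm (Fin 7)).support = T.support :=
    fun j hj hjx => by
      have h1 := (support_eq hj hx hx1 hjx.symm).symm.trans (support_eq ht hx hx1 hc)
      exact compl_inj_iff.1 h1
  let P := {j : A // orderOf j = 2 ∧ (j : Perm (Fin 7)).support = T.support}
  let e : {i // i ∈ T.support} ≃ Fin 4 :=
    Fintype.equivFinOfCardEq (by rw [Fintype.card_coe]; exact support_card ht)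
  have hst : ∀ j : P, ∀ i, (j.1 : Perm (Fin 7)) i ∈ T.support ↔ i ∈ T.support := fun j i =>
    Iff.trans (Finset.ext_iff.1 j.2.2.symm _) (Iff.trans apply_mem_support (Finset.ext_iff.1 j.2.2 i))
  let φ : P → Perm (Fin 4) := fun j => e.permCongr ((j.1 : Perm (Fin 7)).subtypePerm (hst j))
  have hφ : Function.Injective φ := fun j k h => by
    refine Subtype.ext (Subtype.ext (Equiv.ext fun i => ?_))
    by_cases hi : i ∈ T.support
    · have := congrArg (fun p : Perm (Fin 4) => (e.symm (p (e ⟨i, hi⟩)) : Fin 7)) h
      simpa [φ, subtypePerm] using this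
    · have hj := hi; have hk := hi
      rw [← j.2.2, notMem_support] at hj
      rw [← k.2.2, notMem_support] at hk
      rw [hj, hk]
  have hmem : ∀ j : P, φ j ∈ ({swap 0 1 * swap 2 3, swap 0 2 * swap 1 3, swap 0 3 * swap 1 2} :
      Finset (Perm (Fin 4))) := fun j => by
    simp only [Finset.mem_insert, Finset.mem_singleton]
    refine four_invol _ ?_ ?_
    · refine Equiv.ext fun i => e.symm.injective (Subtype.ext ?_)
      simp [φ, subtypePerm]
      exact Perm.ext_iff.1 (val_sq j.2.1).1 _
    · intro i h
      have := congrArg (fun k => (e.symm k : Fin 7)) h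
      simp [φ, subtypePerm] at this
      exact mem_support.1 (j.2.2.symm ▸ (e.symm i).2 : (e.symm i : Fin 7) ∈ (j.1 : Perm (Fin 7)).support) this
  set s : Finset P := Finset.univ.filter (fun j => j.1 ≠ t)
  have hs : s.card ≤ 2 := by
    have h1 : (Finset.univ : Finset P).card ≤ 3 :=
      (Finset.card_le_card_of_injOn φ (fun j _ => hmem j) hφ.injOn).trans Finset.card_le_three
    have h2 : s ⊂ Finset.univ := Finset.filter_ssubset.2 ⟨⟨t, ht, rfl⟩, Finset.mem_univ _, by simp⟩
    have := Finset.card_lt_card h2
    omega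
  obtain ⟨a, b, hab⟩ : ∃ a b : A, ∀ j ∈ s, j.1 = a ∨ j.1 = b := by
    interval_cases hn : s.card
    · exact ⟨t, t, fun j hj => absurd hj (by rw [Finset.card_eq_zero.1 hn]; simp)⟩
    · obtain ⟨a, ha⟩ := Finset.card_eq_one.1 hn
      exact ⟨a.1, a.1, fun j hj => Or.inl (by rw [ha, Finset.mem_singleton] at hj; rw [hj])⟩
    · obtain ⟨a, b, -, ha⟩ := Finset.card_eq_two.1 hn
      refine ⟨a.1, b.1, fun j hj => ?_⟩
      rw [ha, Finset.mem_insert, Finset.mem_singleton] at hj
      exact hj.imp (congrArg Subtype.val) (congrArg Subtype.val)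
  refine ⟨a, b, fun j hj hjx => ?_⟩
  by_cases hjt : j = t
  · exact Or.inl hjt
  · exact Or.inr (hab ⟨j, hj, hsupp j hj hjx⟩ (by simp [s, hjt]))

end CfsgLib.GW.Dne.SevenFacts
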