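import Cfsg.Agent.Lib.GW.Dne.Model
import Cfsg.Agent.Lib.GW.Dne.SevenFacts

/-!
# Commuting elements of two tori
-/

set_option autoImplicit false

namespace CfsgLib.GW.Dne

open Subgroup CfsgLib.GW
open CfsgLib.Signalizer (involution_sq involution_inv involution_ne_one orderOf_eq_two_of orderOf_conj)

universe u

variable {G : Type u} [Group G] [Finite G]

theorem commutingTori (σ : Hyp G) : CommutingTori G := by
  intro X t u a b r hX htX huX ht hu hne hc hr hr2 haX hbX har hbr hat hua hbu htb hab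
  haveI : Fact r.Prime := ⟨hr⟩
  set t' := bar X ⟨t, htX⟩
  set u' := bar X ⟨u, huX⟩
  set a' := bar X ⟨a, haX⟩
  set b' := bar X ⟨b, hbX⟩
  suffices h : a' = 1 ∨ b' = 1 from h.imp (bar_eq_one haX).1 (bar_eq_one hbX).1
  have hao : Odd (orderOf a') := bar_odd haX (Pair.odd_of_isRElt hr2 har)
  have hbo : Odd (orderOf b') := bar_odd hbX (Pair.odd_of_isRElt hr2 hbr)
  have hat' : Commute a' t' := bar_commute haX htX hat
  have hbu' : Commute b' u' := bar_commute hbX huX hbu
  have hua' : u' * a' * u'⁻¹ = a'⁻¹ :=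
    (bar_conj huX haX (inv_mem haX) hua).trans (bar_inv haX).symm
  have htb' : t' * b' * t'⁻¹ = b'⁻¹ :=
    (bar_conj htX hbX (inv_mem hbX) htb).trans (bar_inv hbX).symm
  have hab' : Commute a' b' := by
    refine commute_of_conj_eq (mul_inv_eq_one.1 ?_)
    have h := (bar_eq_one (mul_mem (mul_mem (mul_mem haX hbX) (inv_mem haX)) (inv_mem hbX))).2 hab
    rw [← bar_mul (mul_mem (mul_mem haX hbX) (inv_mem haX)) (inv_mem hbX),
      ← bar_mul (mul_mem haX hbX) (inv_mem haX), ← bar_mul haX hbX, ← bar_inv haX, ← bar_inv hbX] at h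
    exact h
  by_cases hs : Group.IsSolvable X
  · exact Or.inl (eq_one_of_solvable σ hX hs hao (bar_two_sq htX ht) (bar_two_ne_one htX ht) hat')
  rcases bar_cases σ hX hs with hE | he
  · obtain ⟨E⟩ := hE
    by_contra hh
    push Not at hh
    obtain ⟨ha1, hb1⟩ := hh
    have hsq : E.φ a' * E.φ a' ≠ 1 := fun e => ha1 (by
      rw [← map_mul] at e
      exact eq_one_of_inv_self hao
        (inv_eq_of_mul_eq_one_right (E.φ_injective (e.trans (map_one _).symm))))
    have htb'' := PSLAut.commute_of_commute (E.mem_range_of_mem (E.mem_of_inverted hao hua'))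
      (E.invol_mem σ (bar_two_sq htX ht)) (E.mem_range_of_mem (E.mem_of_inverted hbo htb')) hsq
      (hat'.map E.φ) (hab'.map E.φ)
    refine hb1 (eq_one_of_inv_self hbo ?_)
    rw [← htb']
    refine conj_eq_of_commute (E.φ_injective ?_)
    rw [map_mul, map_mul, htb''.eq]
  · obtain ⟨e⟩ := he
    have ho : ∀ {x : Bar X}, Odd (orderOf x) → Odd (orderOf (e x)) := fun h => by
      rwa [MulEquiv.orderOf_eq]
    have h2 : ∀ {x : G} (hx : x ∈ X), orderOf x = 2 → orderOf (e (bar X ⟨x, hx⟩)) = 2 :=
      fun {x} hx h => by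
        rw [MulEquiv.orderOf_eq]
        exact orderOf_eq_two_of (bar_two_ne_one hx h) (bar_two_sq hx h)
    have := SevenFacts.crossed (h2 htX ht) (h2 huX hu) (ho hao) (ho hbo) (hat'.map e.toMonoidHom)
      (by rw [← map_inv, ← map_mul, ← map_mul, hua', map_inv]) (hbu'.map e.toMonoidHom)
      (by rw [← map_inv, ← map_mul, ← map_mul, htb', map_inv]) (hab'.map e.toMonoidHom)
    exact this.imp (fun h => e.injective (h.trans (map_one e).symm))
      (fun h => e.injective (h.trans (map_one e).symm))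

end CfsgLib.GW.Dne
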