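import Cfsg.Agent.Lib.GW.Dne.CoreFixed
import Cfsg.Agent.Lib.GW.KFactsProof.Main

/-!
# Condition (B), unconditionally

`coreFixed` with the facts about proper subgroups supplied by `KFactsProof.kfacts`.
-/

set_option autoImplicit false

namespace CfsgLib.GW.Dne

universe u

variable {G : Type u} [Group G] [Finite G]

/-- (B) holds in a minimal counterexample. -/
theorem coreFixed_of_hyp (σ : Hyp G) : CoreFixed G :=
  coreFixed σ fun r hr hr2 => by
    haveI := Fact.mk hr
    exact CfsgLib.GW.KFactsProof.kfacts σ hr2

end CfsgLib.GW.Dne
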