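import Cfsg.Agent.Lib.GW.Dne.CountTools

/-!
# The counting lemma

The points of `G / M` fixed by the involutions of `M` number at least `(a - 1) m`, each counted
at most once (three times with quotient `A₇`), while the order bound of the principal block keeps
`|G : M|` too small for that.
-/

set_option autoImplicit false

namespace CfsgLib.GW.Dne.Line

open Subgroup CfsgLib.GW
open CfsgLib.Signalizer (involution_sq involution_inv involution_ne_one orderOf_eq_two_of orderOf_conj)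

universe u

variable {G : Type u} [Group G] [Finite G] {σ : Hyp G} {t u₁ u₂ g₁ g₂ : G} {M : Subgroup G} {w : G}

/-- `O(M) ⊓ C(t) ⊓ C(v)`. -/
noncomputable def fix (M : Subgroup G) (t v : G) : Subgroup G :=
  core M ⊓ centralizer ({t} : Set G) ⊓ centralizer ({v} : Set G)

section

variable (L : LineData σ t u₁ u₂ g₁ g₂ M w)

include L

theorem closure_le : closure ({u₁, u₂} : Set G) ≤ M := by
  rw [Subgroup.closure_le]
  rintro a (rfl | rfl)
  exacts [L.mem_u₁, L.mem_u₂]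

theorem w_U : w ∈ U t := (mem_inf.1 L.w_mem).1
theorem w_M : w ∈ M := (mem_inf.1 L.w_mem).2
theorem w_t : Commute w t := ((σ.mem_U L.frame.ht).1 (w_U L)).1
theorem w_odd : Odd (orderOf w) := ((σ.mem_U L.frame.ht).1 (w_U L)).2

theorem odd_index : Odd (M.relIndex (U t)) := by
  refine (σ.odd_U L.frame.ht).of_dvd_nat ?_
  rw [relIndex]
  exact (M.subgroupOf (U t)).index_dvd_card

theorem three_le_index : 3 ≤ M.relIndex (U t) := by
  obtain ⟨j, hj⟩ := odd_index L
  have := L.index_ne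
  omega

theorem orderOf_w_ne_one : orderOf w ≠ 1 := fun e => by
  have := three_le_index L
  have := L.index_le
  omega

theorem w_not_core : w ∉ core M := fun h => orderOf_w_ne_one L (orderOf_eq_one_iff.2 (by
  simpa using L.w_core 1 (by simpa using h)))

/-- The involutions of `M` are conjugate to `t` in `M`. -/
theorem conj_t {j : G} (hj : j ∈ M) (hjo : orderOf j = 2) : ∃ m ∈ M, m * t * m⁻¹ = j := by
  haveI : Fact (Nat.Prime 2) := ⟨Nat.prime_two⟩
  obtain ⟨P, hP⟩ := L.frame.exists_sylow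
  have hPM : (P : Subgroup G) ≤ M := hP ▸ closure_le L
  have hz : IsPGroup 2 (zpowers (⟨j, hj⟩ : M)) :=
    IsPGroup.of_card (n := 1) (by rw [Nat.card_zpowers, pow_one, Subgroup.orderOf_mk]; exact hjo)
  obtain ⟨k, hk⟩ := CfsgLib.TwoGroups.exists_conj_le_sylow (P.subtype hPM) hz
  have h1 := hk (CfsgLib.TwoGroups.conj_mem_map_conj (mem_zpowers (⟨j, hj⟩ : M)))
  rw [Sylow.coe_subtype, mem_subgroupOf, hP] at h1
  have h1o : orderOf ((k : G) * j * (k : G)⁻¹) = 2 := by rw [orderOf_conj]; exact hjo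
  have hfin : ∀ (c g : G), c ∈ M → g ∈ M → c * ((k : G) * j * (k : G)⁻¹) * c⁻¹ = g * t * g⁻¹ →
      ∃ m ∈ M, m * t * m⁻¹ = j := fun c g hc hg e =>
    ⟨(k : G)⁻¹ * c⁻¹ * g, mul_mem (mul_mem (inv_mem k.2) (inv_mem hc)) hg, by
      calc (k : G)⁻¹ * c⁻¹ * g * t * ((k : G)⁻¹ * c⁻¹ * g)⁻¹
          = (k : G)⁻¹ * c⁻¹ * (g * t * g⁻¹) * c * k := by group
        _ = j := by rw [← e]; group⟩
  rcases L.frame.involution_cases h1 h1o with e | ⟨c, hc, e | e⟩
  · exact hfin 1 1 (one_mem M) (one_mem M) (by simp only [one_mul, inv_one, mul_one]; exact e)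
  · exact hfin c g₁ (closure_le L hc) L.mem_g₁ (e.trans L.frame.rot₁.conj1.symm)
  · exact hfin c g₂ (closure_le L hc) L.mem_g₂ (e.trans L.frame.rot₂.conj1.symm)

/-- Congruent conjugates of `t` are conjugate by the core. -/
theorem mem_of_congr {n : G} (hn : n ∈ M) (h : n * t * n⁻¹ * t ∈ core M) :
    n ∈ (centralizer ({t} : Set G) ⊓ M) ⊔ core M := by
  set t' := n * t * n⁻¹ with ht'
  have ht'o : orderOf t' = 2 := by rw [ht', orderOf_conj]; exact L.frame.ht
  obtain ⟨d, hd⟩ : ∃ d, d = t' * t := ⟨_, rfl⟩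
  rw [← hd] at h
  have hinv : t * d * t⁻¹ = d⁻¹ := by
    rw [hd, mul_inv_rev, involution_inv L.frame.ht, involution_inv ht'o,
      show t * (t' * t) * t = t * t' * (t * t) by group, involution_sq L.frame.ht, mul_one]
  obtain ⟨j, hj⟩ := odd_orderOf_of_mem (odd_core M) h
  obtain ⟨i, hi⟩ : ∃ i, i = d ^ (j + 1) := ⟨_, rfl⟩
  have hii : i * i = d := by
    rw [hi, ← pow_add, show j + 1 + (j + 1) = orderOf d + 1 by omega, pow_succ, pow_orderOf_eq_one,
      one_mul]
  have hic : i ∈ core M := hi ▸ pow_mem h _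
  have hti : t * i * t⁻¹ = i⁻¹ := by rw [hi, ← conj_pow, hinv, inv_pow]
  have hit : i * t * i⁻¹ = t' := by
    calc i * t * i⁻¹ = i * (t * i * t⁻¹)⁻¹ * t := by group
      _ = t' := by
        rw [hti, inv_inv, hii, hd, mul_assoc, involution_sq L.frame.ht, mul_one]
  have hcomm : Commute (i⁻¹ * n) t := by
    refine commute_of_conj_eq ?_
    rw [show i⁻¹ * n * t * (i⁻¹ * n)⁻¹ = i⁻¹ * (n * t * n⁻¹) * i by group, ← ht', ← hit]
    group
  have := mul_mem (mem_sup_right (S := centralizer ({t} : Set G) ⊓ M) hic)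
    (mem_sup_left (T := core M) (mem_inf.2 ⟨mem_centralizer_of_commute hcomm,
      mul_mem (inv_mem (core_le M hic)) hn⟩))
  rwa [mul_inv_cancel_left] at this

/-- Each involution of `M` fixes `a - 1` points besides `M`; each point is fixed by few. -/
theorem pairs_le {x : G} {c : ℕ} (hx : ∀ h ∈ U t, h ∉ M → ∀ j ∈ M, orderOf j = 2 → h⁻¹ * j * h ∈ M →
      Commute j x) (cls : Fin c → G)
    (hcls : ∀ j ∈ M, orderOf j = 2 → Commute j x → ∃ k, j * cls k ∈ core M) :
    (M.relIndex (U t) - 1) * ((centralizer ({t} : Set G) ⊓ M) ⊔ core M).relIndex M ≤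
      c * (M.index - 1) := by
  classical
  haveI := Fintype.ofFinite G
  set H := (centralizer ({t} : Set G) ⊓ M) ⊔ core M with hH
  let A := M ⧸ H.subgroupOf M
  let B := U t ⧸ M.subgroupOf (U t)
  haveI : Fintype A := Fintype.ofFinite A
  haveI : Fintype B := Fintype.ofFinite B
  haveI : Fintype (G ⧸ M) := Fintype.ofFinite _
  set one : B := QuotientGroup.mk 1 with hone
  set pt : G ⧸ M := QuotientGroup.mk 1 with hpt
  let F : A × B → G ⧸ M := fun p => QuotientGroup.mk (((p.1.out : M) : G) * ((p.2.out : U t) : G))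
  set s : Finset (A × B) := (Finset.univ : Finset A) ×ˢ ((Finset.univ : Finset B).erase one) with hs
  have hmem : ∀ p ∈ s, ((p.2.out : U t) : G) ∉ M := by
    intro p hp hM
    have h2 := (Finset.mem_erase.1 (Finset.mem_product.1 hp).2).1
    refine h2 ?_
    rw [hone, ← QuotientGroup.out_eq' p.2, QuotientGroup.eq, mem_subgroupOf]
    simpa using inv_mem hM
  have hinj2 : ∀ p ∈ s, ∀ q ∈ s, p.1 = q.1 → F p = F q → p = q := by
    intro p _ q _ e1 e
    refine Prod.ext e1 ?_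
    simp only [F, e1] at e
    rw [QuotientGroup.eq] at e
    rw [← QuotientGroup.out_eq' p.2, ← QuotientGroup.out_eq' q.2, QuotientGroup.eq, mem_subgroupOf]
    have e' : ((p.2.out : U t) : G)⁻¹ * ((q.2.out : U t) : G) ∈ M := by
      have := e
      simpa [mul_assoc] using this
    simpa using e'
  -- every point is fixed by few
  have hfib : ∀ b ∈ (Finset.univ : Finset (G ⧸ M)).erase pt,
      (s.filter fun p => F p = b).card ≤ c := by
    intro b _
    rcases (s.filter fun p => F p = b).eq_empty_or_nonempty with he | ⟨p₀, hp₀⟩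
    · rw [he]; simp
    obtain ⟨hp₀s, hp₀b⟩ := Finset.mem_filter.1 hp₀
    set m₀ : G := ((p₀.1.out : M) : G) with hm₀
    set h₀ : G := ((p₀.2.out : U t) : G) with hh₀
    have hcat : ∀ p ∈ s.filter (fun p => F p = b), ∃ k : Fin c,
        m₀⁻¹ * (((p.1.out : M) : G) * t * ((p.1.out : M) : G)⁻¹) * m₀ * cls k ∈ core M := by
      intro p hp
      obtain ⟨hps, hpb⟩ := Finset.mem_filter.1 hp
      set l : G := ((p.1.out : M) : G) with hl
      set h : G := ((p.2.out : U t) : G) with hh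
      have hlM : l ∈ M := (p.1.out : M).2
      have hjM : m₀⁻¹ * (l * t * l⁻¹) * m₀ ∈ M :=
        mul_mem (mul_mem (inv_mem (p₀.1.out : M).2) (mul_mem (mul_mem hlM L.mem_t) (inv_mem hlM)))
          (p₀.1.out : M).2
      have hjo : orderOf (m₀⁻¹ * (l * t * l⁻¹) * m₀) = 2 := by
        have := orderOf_conj m₀⁻¹ (l * t * l⁻¹)
        rw [inv_inv] at this
        rw [this, orderOf_conj]; exact L.frame.ht
      refine hcls _ hjM hjo (hx h₀ (p₀.2.out : U t).2 (hmem p₀ hp₀s) _ hjM hjo ?_)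
      have e : (m₀ * h₀)⁻¹ * (l * h) ∈ M := QuotientGroup.eq.1 (hp₀b.trans hpb.symm)
      have hth : Commute t h := (((σ.mem_U L.frame.ht).1 (p.2.out : U t).2).1).symm
      have := mul_mem (mul_mem e L.mem_t) (inv_mem e)
      convert this using 1
      calc h₀⁻¹ * (m₀⁻¹ * (l * t * l⁻¹) * m₀) * h₀
          = h₀⁻¹ * m₀⁻¹ * l * (h * (h⁻¹ * t * h) * h⁻¹) * l⁻¹ * m₀ * h₀ := by group
        _ = h₀⁻¹ * m₀⁻¹ * l * (h * t * h⁻¹) * l⁻¹ * m₀ * h₀ := by
          rw [show h⁻¹ * t * h = t by rw [mul_assoc, hth.eq, inv_mul_cancel_left]]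
        _ = _ := by group
    choose k hk using hcat
    have hcard : c = (Finset.univ : Finset (Fin c)).card := by simp
    rw [hcard]
    obtain ⟨k₀, -⟩ : ∃ k₀ : Fin c, True := ⟨k p₀ hp₀, trivial⟩
    refine Finset.card_le_card_of_injOn
      (fun p => if hp : p ∈ s.filter (fun p => F p = b) then k p hp else k₀)
      (fun _ _ => Finset.mem_coe.2 (Finset.mem_univ _)) ?_
    intro p hp q hq e
    rw [Finset.mem_coe] at hp hq
    simp only [dif_pos hp, dif_pos hq] at e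
    obtain ⟨hps, hpb⟩ := Finset.mem_filter.1 hp
    obtain ⟨hqs, hqb⟩ := Finset.mem_filter.1 hq
    refine hinj2 p hps q hqs ?_ (hpb.trans hqb.symm)
    have h1 := hk p hp
    rw [e] at h1
    have h2 := mul_mem h1 (inv_mem (hk q hq))
    set l : G := ((p.1.out : M) : G) with hl
    set l' : G := ((q.1.out : M) : G) with hl'
    have h3 : m₀⁻¹ * (l * t * l⁻¹ * (l' * t * l'⁻¹)⁻¹) * m₀ ∈ core M := by
      convert h2 using 1; group
    have hnc := le_normalizer_core M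
    have h4 := (mem_normalizer_iff.1 (hnc (mul_mem (inv_mem (q.1.out : M).2) (p₀.1.out : M).2)) _).1 h3
    have h5 : l'⁻¹ * l * t * (l'⁻¹ * l)⁻¹ * t ∈ core M := by
      rw [← hl', ← hm₀] at h4
      convert h4 using 1
      calc l'⁻¹ * l * t * (l'⁻¹ * l)⁻¹ * t
          = l'⁻¹ * (l * t * l⁻¹) * l' * t := by group
        _ = l'⁻¹ * (l * t * l⁻¹) * l' * t⁻¹ := by rw [involution_inv L.frame.ht]
        _ = _ := by group
    have h6 := mem_of_congr L (mul_mem (inv_mem (q.1.out : M).2) (p.1.out : M).2) h5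
    rw [← QuotientGroup.out_eq' p.1, ← QuotientGroup.out_eq' q.1, QuotientGroup.eq, mem_subgroupOf]
    have h7 := inv_mem h6
    simpa using h7
  have hmaps : ∀ p ∈ s, F p ∈ (Finset.univ : Finset (G ⧸ M)).erase pt := by
    intro p hp
    refine Finset.mem_erase.2 ⟨fun e => hmem p hp ?_, Finset.mem_univ _⟩
    simp only [F, hpt] at e
    rw [QuotientGroup.eq, mul_one] at e
    have := mul_mem (inv_mem (p.1.out : M).2) (inv_mem e)
    simpa using this
  have hmain := Finset.card_le_mul_card_image_of_maps_to hmaps c hfib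
  rw [hs, Finset.card_product, Finset.card_erase_of_mem (Finset.mem_univ _),
    Finset.card_erase_of_mem (Finset.mem_univ _), Finset.card_univ, Finset.card_univ,
    Finset.card_univ, ← Nat.card_eq_fintype_card, ← Nat.card_eq_fintype_card,
    ← Nat.card_eq_fintype_card] at hmain
  calc (M.relIndex (U t) - 1) * H.relIndex M
      = Nat.card A * (Nat.card B - 1) := mul_comm _ _
    _ ≤ c * (M.index - 1) := hmain

theorem card_eq_mul : Nat.card M = ((centralizer ({t} : Set G) ⊓ M) ⊔ core M).relIndex M *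
    Nat.card ((centralizer ({t} : Set G) ⊓ M) ⊔ core M : Subgroup G) := by
  rw [← relIndex_bot_left, ← relIndex_bot_left, mul_comm,
    relIndex_mul_relIndex _ _ _ bot_le (sup_le inf_le_right (core_le M))]

theorem card_H : Nat.card ((centralizer ({t} : Set G) ⊓ M) ⊔ core M : Subgroup G) *
      Nat.card (core M ⊓ centralizer ({t} : Set G) : Subgroup G) =
    2 ^ (σ.n + 1) * Nat.card (U t ⊓ M : Subgroup G) * Nat.card (core M) := by
  have h := CfsgLib.Core.card_sup_mul_card_inf (centralizer ({t} : Set G) ⊓ M) (core M)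
    (inf_le_right.trans (le_normalizer_core M))
  rw [card_centralizer_t_inf L.frame L.mem_u₁ L.mem_u₂] at h
  rw [← h]
  congr 1
  have e : core M ⊓ centralizer ({t} : Set G) = centralizer ({t} : Set G) ⊓ M ⊓ core M :=
    le_antisymm (le_inf (le_inf inf_le_right (inf_le_left.trans (core_le M))) inf_le_left)
      (le_inf inf_le_right (inf_le_left.trans inf_le_left))
  rw [e]

theorem card_U : Nat.card (U t) = M.relIndex (U t) * Nat.card (U t ⊓ M : Subgroup G) := by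
  rw [← inf_relIndex_right M (U t), inf_comm M (U t), ← relIndex_bot_left, ← relIndex_bot_left,
    mul_comm, relIndex_mul_relIndex _ _ _ bot_le inf_le_left]

/-- The index bound. -/
theorem index_bound {v g : G} (hR : Rot t v g) (hv : v ∈ M) (hg : g ∈ M) :
    2 * (M.index : ℚ) * (((centralizer ({t} : Set G) ⊓ M) ⊔ core M).relIndex M : ℚ) *
        (Nat.card (core M ⊓ centralizer ({t} : Set G) : Subgroup G) : ℚ) ^ 2 ≤
      15 / 8 * (2 ^ σ.n) ^ 2 * (M.relIndex (U t) : ℚ) * (Nat.card (U t) : ℚ) ^ 2 *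
        (1 / (Nat.card (D t u₁) : ℚ) + 1 / (Nat.card (D t u₂) : ℚ)) ^ 2 *
        (Nat.card (fix M t v) : ℚ) ^ 2 := by
  have hcube := cube_le (odd_core M) hR (le_normalizer_core M L.mem_t) (le_normalizer_core M hv)
    (le_normalizer_core M hg)
  have hG := order_bound L.frame
  have hM := card_eq_mul L
  have hH := card_H L
  have hU := card_U L
  set i := (M.index : ℚ) with hi
  set m := (((centralizer ({t} : Set G) ⊓ M) ⊔ core M).relIndex M : ℚ) with hm
  set o := (Nat.card (core M ⊓ centralizer ({t} : Set G) : Subgroup G) : ℚ) with ho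
  set S := (1 / (Nat.card (D t u₁) : ℚ) + 1 / (Nat.card (D t u₂) : ℚ)) ^ 2 with hS
  set T := (Nat.card (fix M t v) : ℚ) with hT
  set N := (2 : ℚ) ^ σ.n with hN
  set c := (Nat.card (core M) : ℚ) with hc
  set h := (Nat.card ((centralizer ({t} : Set G) ⊓ M) ⊔ core M : Subgroup G) : ℚ) with hh
  set uM := (Nat.card (U t ⊓ M : Subgroup G) : ℚ) with huM
  set a := (M.relIndex (U t) : ℚ) with ha
  have e1 : (Nat.card G : ℚ) = i * (m * h) := by
    rw [← M.index_mul_card, hM]; push_cast; rfl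
  have e2 : h * o = 2 * N * uM * c := by
    have := congrArg (fun z : ℕ => (z : ℚ)) hH
    push_cast [pow_succ] at this
    rw [← hh, ← ho, ← huM, ← hc, ← hN] at this
    linarith
  have e3 : (Nat.card (U t) : ℚ) = a * uM := by rw [hU]; push_cast; rfl
  have e4 : o ^ 3 ≤ c * T ^ 2 := by
    have : ((Nat.card (core M ⊓ centralizer ({t} : Set G) : Subgroup G) ^ 3 : ℕ) : ℚ) ≤
        ((Nat.card (core M) * Nat.card (fix M t v) ^ 2 : ℕ) : ℚ) := Nat.cast_le.2 hcube
    push_cast at this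
    exact this
  rw [e1, e3] at hG
  have ho0 : 0 < o := by rw [ho]; exact Nat.cast_pos.2 Nat.card_pos
  have hN0 : 0 < N := by rw [hN]; positivity
  have huM0 : 0 < uM := by rw [huM]; exact Nat.cast_pos.2 Nat.card_pos
  have hi0 : 0 ≤ i := Nat.cast_nonneg _
  have hm0 : 0 ≤ m := Nat.cast_nonneg _
  refine le_of_mul_le_mul_left ?_ (mul_pos (mul_pos hN0 huM0) ho0)
  rw [e3]
  calc N * uM * o * (2 * i * m * o ^ 2) = i * m * (2 * N * uM) * o ^ 3 := by ring
    _ ≤ i * m * (2 * N * uM) * (c * T ^ 2) :=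
      mul_le_mul_of_nonneg_left e4 (by positivity)
    _ = i * (m * h) * (o * T ^ 2) := by
      linear_combination (-(i * m * T ^ 2)) * e2
    _ ≤ 15 / 8 * N ^ 3 * (a * uM) ^ 3 * S * (o * T ^ 2) :=
      mul_le_mul_of_nonneg_right hG (by positivity)
    _ = N * uM * o * (15 / 8 * N ^ 2 * a * (a * uM) ^ 2 * S * T ^ 2) := by ring

theorem inf_fix {v : G} :
    D t v ⊓ M ⊓ (core M ⊓ centralizer ({t} : Set G)) = fix M t v := by
  refine le_antisymm (fun a ha => ?_) (fun a ha => ?_)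
  · simp only [mem_inf] at ha
    exact mem_inf.2 ⟨mem_inf.2 ha.2, (mem_inf.1 (show a ∈ U t ⊓ centralizer ({v} : Set G) from ha.1.1)).2⟩
  · simp only [fix, mem_inf] at ha
    obtain ⟨⟨h1, h2⟩, h3⟩ := ha
    exact mem_inf.2 ⟨mem_inf.2 ⟨(σ.mem_D L.frame.ht).2 ⟨commute_of_mem_centralizer h2,
      commute_of_mem_centralizer h3, odd_orderOf_of_mem (odd_core M) h1⟩, core_le M h1⟩,
      mem_inf.2 ⟨h1, h2⟩⟩

theorem le_normalizer_coreC :
    D t u₁ ⊓ M ≤ normalizer ((core M ⊓ centralizer ({t} : Set G) : Subgroup G) : Set G) :=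
  (le_inf (inf_le_right.trans (le_normalizer_core M))
    ((inf_le_left.trans ((Hyp.D_le_U t u₁).trans (U_le t))).trans le_normalizer)).trans
    CfsgLib.Transfer.normalizer_le_normalizer_inf

theorem coreC_le : core M ⊓ centralizer ({t} : Set G) ≤ U t ⊓ M := fun a ha =>
  mem_inf.2 ⟨(σ.mem_U L.frame.ht).2 ⟨commute_of_mem_centralizer (mem_inf.1 ha).2,
    odd_orderOf_of_mem (odd_core M) (mem_inf.1 ha).1⟩, core_le M (mem_inf.1 ha).1⟩

theorem base_le :
    (D t u₁ ⊓ M) ⊔ (core M ⊓ centralizer ({t} : Set G)) ≤ U t ⊓ M :=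
  sup_le (inf_le_inf_right M (Hyp.D_le_U t u₁)) (coreC_le L)

theorem card_K : Nat.card (U t ⊓ M : Subgroup G) * Nat.card (fix M t u₁) =
    ((D t u₁ ⊓ M) ⊔ (core M ⊓ centralizer ({t} : Set G))).relIndex (U t ⊓ M) *
      (Nat.card (D t u₁ ⊓ M : Subgroup G) *
        Nat.card (core M ⊓ centralizer ({t} : Set G) : Subgroup G)) := by
  rw [← CfsgLib.Core.card_sup_mul_card_inf _ _ (le_normalizer_coreC L), inf_fix L, ← mul_assoc]
  congr 1
  rw [← relIndex_bot_left, ← relIndex_bot_left, mul_comm,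
    relIndex_mul_relIndex _ _ _ bot_le (base_le L)]

theorem order_le : orderOf w ≤
    ((D t u₁ ⊓ M) ⊔ (core M ⊓ centralizer ({t} : Set G))).relIndex (U t ⊓ M) := by
  set S := (D t u₁ ⊓ M) ⊔ (core M ⊓ centralizer ({t} : Set G)) with hS
  rw [relIndex, Subgroup.index_eq_card, ← Nat.card_zpowers]
  refine Nat.card_le_card_of_injective
    (fun p => QuotientGroup.mk ⟨p.1, zpowers_le.2 L.w_mem p.2⟩) ?_
  rintro ⟨p, i, rfl⟩ ⟨q, j, rfl⟩ e
  have h1 : w ^ (j - i) ∈ S := by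
    have h0 := mem_subgroupOf.1 (QuotientGroup.eq.1 e)
    have : (w ^ i)⁻¹ * w ^ j ∈ S := h0
    rwa [← zpow_neg, ← zpow_add, neg_add_eq_sub] at this
  obtain ⟨d, hd, o, ho, e'⟩ := (CfsgLib.Core.mem_sup_iff_mul (le_normalizer_coreC L)).1 h1
  -- the reflection
  set z := w ^ (j - i) with hz
  have hzi : u₁ * z * u₁⁻¹ = z⁻¹ := by rw [hz, ← conj_zpow, L.w_inv, inv_zpow]
  have hdu : u₁ * d * u₁⁻¹ = d := conj_eq_of_commute (Hyp.D_commute (mem_inf.1 hd).1).symm
  set o' := u₁ * o * u₁⁻¹ with ho'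
  have ho'c : o' ∈ core M :=
    (mem_normalizer_iff.1 (le_normalizer_core M L.mem_u₁) o).1 (mem_inf.1 ho).1
  have hsq : z * z ∈ core M := by
    have h2 : z⁻¹ = d * o' := by
      rw [← hzi, e', show u₁ * (d * o) * u₁⁻¹ = u₁ * d * u₁⁻¹ * (u₁ * o * u₁⁻¹) by group, hdu, ← ho']
    have h3 := (mem_normalizer_iff.1 (le_normalizer_core M (mem_inf.1 hd).2) _).1
      (mul_mem (mem_inf.1 ho).1 (inv_mem ho'c))
    have h4 : z * z = d * (o * o'⁻¹) * d⁻¹ := by
      calc z * z = z * (z⁻¹)⁻¹ := by rw [inv_inv]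
        _ = d * o * (d * o')⁻¹ := by rw [h2, e']
        _ = _ := by group
    rwa [h4]
  have h5 : z * z = 1 := by
    rw [hz, ← zpow_add] at hsq ⊢
    exact L.w_core _ hsq
  have hzo : Odd (orderOf z) := ((σ.mem_U L.frame.ht).1 (zpow_mem (w_U L) _)).2
  have h6 : z = 1 := eq_one_of_inv_self hzo (inv_eq_of_mul_eq_one_right h5)
  refine Subtype.ext ?_
  show w ^ i = w ^ j
  rw [hz, zpow_sub, mul_inv_eq_one] at h6
  exact h6.symm

theorem fix_le_D {v : G} : fix M t v ≤ D t v := by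
  rw [← inf_fix L]; exact inf_le_left.trans inf_le_left

theorem u₂_inverts
    (hcl : ∀ x ∈ U t ⊓ M, u₁ * x * u₁⁻¹ = x⁻¹ → x ∉ core M →
      ∀ j ∈ M, orderOf j = 2 → Commute j x → j * t ∈ core M) :
    u₂ * w * u₂⁻¹ = w⁻¹ := by
  refine L.w_side.resolve_right fun hc => ?_
  have h := hcl w L.w_mem L.w_inv (w_not_core L) u₂ L.mem_u₂ L.frame.hu₂ hc.symm
  have ho : orderOf (u₂ * t) = 2 := by
    rw [L.frame.commute₂.eq]; exact L.frame.rot₂.prod_order
  have h2 := odd_orderOf_of_mem (odd_core M) h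
  rw [ho] at h2
  exact absurd h2 (by decide)

/-- The generic case. -/
theorem q_contra {q : ℕ} {ε : ℤ} (hε : ε = 1 ∨ ε = -1)
    (hq : (q : ℤ) - ε = 2 * 2 ^ σ.n *
      (((D t u₁ ⊓ M) ⊔ (core M ⊓ centralizer ({t} : Set G))).relIndex (U t ⊓ M) : ℤ))
    (hm : 2 * ((((centralizer ({t} : Set G) ⊓ M) ⊔ core M).relIndex M : ℕ) : ℤ) = q * (q + ε))
    (hcl : ∀ x ∈ U t ⊓ M, u₁ * x * u₁⁻¹ = x⁻¹ → x ∉ core M →
      ∀ j ∈ M, orderOf j = 2 → Commute j x → j * t ∈ core M)
    (hle : Nat.card (D t u₁) ≤ Nat.card (D t u₂)) : False := by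
  obtain ⟨k, hk1, hk⟩ := L.pair
  have hxc : w ^ k ∉ core M := fun h => hk1 (L.w_core k h)
  have hcnt := pairs_le L hk (fun _ : Fin 1 => t) fun j hj hjo hjx =>
    ⟨0, hcl (w ^ k) (zpow_mem L.w_mem k) (by rw [← conj_zpow, L.w_inv, inv_zpow]) hxc j hj hjo hjx⟩
  rw [one_mul] at hcnt
  have hb := index_bound L L.frame.rot₁ L.mem_u₁ L.mem_g₁
  have hK := card_K L
  have hU := card_U L
  have hRK := order_le L
  have hD : Nat.card (D t u₁ ⊓ M : Subgroup G) ≤ Nat.card (D t u₁) :=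
    Nat.le_of_dvd Nat.card_pos (card_dvd_of_le inf_le_left)
  set a := M.relIndex (U t) with ha
  set m := ((centralizer ({t} : Set G) ⊓ M) ⊔ core M).relIndex M with hm'
  set K := ((D t u₁ ⊓ M) ⊔ (core M ⊓ centralizer ({t} : Set G))).relIndex (U t ⊓ M) with hKdef
  set o := Nat.card (core M ⊓ centralizer ({t} : Set G) : Subgroup G) with ho
  set T := Nat.card (fix M t u₁) with hT
  set d₁ := Nat.card (D t u₁) with hd₁
  set d₂ := Nat.card (D t u₂) with hd₂
  set i := M.index with hi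
  have ha3 : 3 ≤ a := three_le_index L
  have haK : a ≤ K := le_trans L.index_le hRK
  -- `u T ≤ a K d₁ o`
  have h1 : Nat.card (U t) * T ≤ a * (K * d₁ * o) := by
    rw [hU, mul_assoc, hK, ← mul_assoc K]
    gcongr
  have h1q : (Nat.card (U t) : ℚ) * T ≤ (a : ℚ) * (K * d₁ * o) := by exact_mod_cast h1
  have hd1 : (0 : ℚ) < d₁ := by rw [hd₁]; exact Nat.cast_pos.2 Nat.card_pos
  have hd2 : (d₁ : ℚ) ≤ d₂ := Nat.cast_le.2 hle
  have hsum : 1 / (d₁ : ℚ) + 1 / (d₂ : ℚ) ≤ 2 / d₁ := by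
    have := one_div_le_one_div_of_le hd1 hd2
    rw [show (2 : ℚ) / d₁ = 1 / d₁ + 1 / d₁ by ring]
    linarith
  have hprod : (Nat.card (U t) : ℚ) * T * (1 / (d₁ : ℚ) + 1 / (d₂ : ℚ)) ≤ 2 * a * K * o := by
    calc (Nat.card (U t) : ℚ) * T * (1 / (d₁ : ℚ) + 1 / (d₂ : ℚ))
        ≤ (a : ℚ) * (K * d₁ * o) * (2 / d₁) :=
          mul_le_mul h1q hsum (by positivity) (by positivity)
      _ = 2 * a * K * o := by field_simp
  have hnn : 0 ≤ (Nat.card (U t) : ℚ) * T * (1 / (d₁ : ℚ) + 1 / (d₂ : ℚ)) := by positivity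
  set P : ℚ := 2 ^ σ.n * K with hP
  have hbound : 2 * (i : ℚ) * m * (o : ℚ) ^ 2 ≤ 15 / 2 * a ^ 3 * P ^ 2 * (o : ℚ) ^ 2 := by
    refine hb.trans ?_
    calc 15 / 8 * (2 ^ σ.n) ^ 2 * (a : ℚ) * (Nat.card (U t) : ℚ) ^ 2 *
          (1 / (d₁ : ℚ) + 1 / (d₂ : ℚ)) ^ 2 * (T : ℚ) ^ 2
        = 15 / 8 * (2 ^ σ.n) ^ 2 * (a : ℚ) *
            ((Nat.card (U t) : ℚ) * T * (1 / (d₁ : ℚ) + 1 / (d₂ : ℚ))) ^ 2 := by ring
      _ ≤ 15 / 8 * (2 ^ σ.n) ^ 2 * (a : ℚ) * (2 * a * K * o) ^ 2 := by gcongr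
      _ = 15 / 2 * a ^ 3 * P ^ 2 * (o : ℚ) ^ 2 := by rw [hP]; ring
  have ho0 : (0 : ℚ) < (o : ℚ) ^ 2 := by
    have : (0 : ℚ) < o := by rw [ho]; exact Nat.cast_pos.2 Nat.card_pos
    positivity
  have hb2 := le_of_mul_le_mul_right hbound ho0
  -- counting
  have hi0 : 1 ≤ i := Nat.one_le_iff_ne_zero.2 index_ne_zero_of_finite
  have hcq : ((a : ℚ) - 1) * m ≤ i := by
    have : ((((a - 1) * m : ℕ)) : ℚ) ≤ (i : ℚ) := Nat.cast_le.2 (hcnt.trans (Nat.sub_le _ _))
    rwa [Nat.cast_mul, Nat.cast_sub (by omega : 1 ≤ a), Nat.cast_one] at this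
  have hqq : (q : ℚ) - ε = 2 * P := by
    have := congrArg (fun z : ℤ => (z : ℚ)) hq
    push_cast at this
    rw [this, hP]; ring
  have hmq : 2 * (m : ℚ) = (q : ℚ) * (q + ε) := by
    have := congrArg (fun z : ℤ => (z : ℚ)) hm
    push_cast at this
    exact this
  have haq : (3 : ℚ) ≤ a := by exact_mod_cast ha3
  have hPa : 2 * (a : ℚ) ≤ P := by
    have h2 : (2 : ℚ) ≤ 2 ^ σ.n := by
      calc (2 : ℚ) = 2 ^ 1 := (pow_one _).symm
        _ ≤ 2 ^ σ.n := pow_le_pow_right₀ one_le_two σ.pos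
    have h3 : (a : ℚ) ≤ K := by exact_mod_cast haK
    rw [hP]; exact mul_le_mul h2 h3 (Nat.cast_nonneg _) (by positivity)
  have hεq : (ε : ℚ) = 1 ∨ (ε : ℚ) = -1 := by rcases hε with e | e <;> simp [e]
  have hmlow : P * (4 * a - 3) ≤ (m : ℚ) := by
    have h2 : (2 * P - 1) * (P - 1) ≤ (m : ℚ) := by
      rcases hεq with e | e <;> rw [e] at hqq hmq
      · rw [show (q : ℚ) = 2 * P + 1 by linarith] at hmq
        nlinarith
      · rw [show (q : ℚ) = 2 * P - 1 by linarith] at hmq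
        nlinarith
    nlinarith
  have hP0 : 0 < P := by linarith
  have h4 : ((a : ℚ) - 1) * m * m ≤ 15 / 4 * a ^ 3 * P ^ 2 := by
    have : (0 : ℚ) ≤ m := Nat.cast_nonneg _
    nlinarith
  have hm0 : 0 ≤ P * (4 * (a : ℚ) - 3) := mul_nonneg hP0.le (by linarith)
  have h5 : ((a : ℚ) - 1) * (P * (4 * a - 3)) ^ 2 ≤ 15 / 4 * a ^ 3 * P ^ 2 := by
    refine le_trans ?_ h4
    rw [mul_assoc ((a : ℚ) - 1) (m : ℚ) m, ← pow_two]
    exact mul_le_mul_of_nonneg_left (pow_le_pow_left₀ hm0 hmlow 2) (by linarith)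
  have h6 : ((a : ℚ) - 1) * (4 * a - 3) ^ 2 ≤ 15 / 4 * a ^ 3 := by
    refine le_of_mul_le_mul_right ?_ (pow_pos hP0 2)
    linarith
  nlinarith [mul_nonneg (sub_nonneg.2 haq) (sub_nonneg.2 haq),
    mul_nonneg (mul_nonneg (sub_nonneg.2 haq) (sub_nonneg.2 haq)) (sub_nonneg.2 haq)]

/-- The case of `A₇`. -/
theorem seven_contra (hX : Seven M) (hn : σ.n = 2)
    (hm : ((centralizer ({t} : Set G) ⊓ M) ⊔ core M).relIndex M = 105)
    (hK : ((D t u₁ ⊓ M) ⊔ (core M ⊓ centralizer ({t} : Set G))).relIndex (U t ⊓ M) ∣ 3)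
    (hcl : ∀ x ∈ U t ⊓ M, u₁ * x * u₁⁻¹ = x⁻¹ → x ∉ core M → ∃ a b : G,
      ∀ j ∈ M, orderOf j = 2 → Commute j x →
        j * t ∈ core M ∨ j * a ∈ core M ∨ j * b ∈ core M) : False := by
  obtain ⟨k, hk1, hk⟩ := L.pair
  have hxc : w ^ k ∉ core M := fun h => hk1 (L.w_core k h)
  obtain ⟨a', b', hab⟩ := hcl (w ^ k) (zpow_mem L.w_mem k)
    (by rw [← conj_zpow, L.w_inv, inv_zpow]) hxc
  have hcnt := pairs_le L hk (![t, a', b'] : Fin 3 → G) fun j hj hjo hjx => by
    rcases hab j hj hjo hjx with h | h | h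
    exacts [⟨0, h⟩, ⟨1, h⟩, ⟨2, h⟩]
  have ha3 : 3 ≤ M.relIndex (U t) := three_le_index L
  have hRK := order_le L
  have hK3 := Nat.le_of_dvd (by norm_num) hK
  have hle := L.index_le
  have ha : M.relIndex (U t) = 3 := by omega
  have hwo : orderOf w = 3 := by omega
  -- `u₂` centralises `w`
  obtain ⟨e⟩ := hX
  set O := Cfsg.oddCore M with hO
  set π : M →* alternatingGroup (Fin 7) := e.toMonoidHom.comp (QuotientGroup.mk' O) with hπ
  have hker : ∀ z : M, π z = 1 → (z : G) ∈ core M := fun z hz =>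
    mem_core_iff.2 ⟨z.2, (QuotientGroup.eq_one_iff z).1 (e.injective (hz.trans e.map_one.symm))⟩
  have hw2 : Commute w u₂ := by
    refine L.w_side.resolve_left fun hinv => ?_
    set ρ : M := ⟨u₁ * u₂, mul_mem L.mem_u₁ L.mem_u₂⟩ with hρ
    set ω : M := ⟨w, w_M L⟩ with hω
    have hcomm : Commute ρ ω := by
      refine Subtype.ext (commute_of_conj_eq (t := u₁ * u₂) ?_).eq
      rw [show u₁ * u₂ * w * (u₁ * u₂)⁻¹ = u₁ * (u₂ * w * u₂⁻¹) * u₁⁻¹ by group, hinv,
        show u₁ * w⁻¹ * u₁⁻¹ = (u₁ * w * u₁⁻¹)⁻¹ by group, L.w_inv, inv_inv]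
    have hρ2 : (u₁ * u₂) ^ 2 = t := by
      have := L.frame.pow; rw [hn] at this; simpa using this
    haveI : Fact (Nat.Prime 2) := ⟨Nat.prime_two⟩
    haveI : Fact (Nat.Prime 3) := ⟨Nat.prime_three⟩
    have hρo : orderOf (π ρ) = 2 ^ (1 + 1) := by
      refine orderOf_eq_prime_pow ?_ ?_
      · rw [pow_one, ← map_pow]
        intro h1
        have h2 : t ∈ core M := by
          have := hker _ h1
          rwa [coe_pow, hρ2] at this
        have h3 := odd_orderOf_of_mem (odd_core M) h2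
        rw [L.frame.ht] at h3
        exact absurd h3 (by decide)
      · rw [← map_pow, show ρ ^ 2 ^ (1 + 1) = 1 from Subtype.ext (by
          rw [coe_pow, coe_one, show (2 : ℕ) ^ (1 + 1) = 2 * 2 from rfl, pow_mul]
          show ((u₁ * u₂) ^ 2) ^ 2 = 1
          rw [hρ2, pow_two]; exact involution_sq L.frame.ht), map_one]
    have hωo : orderOf (π ω) = 3 := by
      refine orderOf_eq_prime ?_ fun h1 => w_not_core L (hker _ h1)
      rw [← map_pow, show ω ^ 3 = 1 from Subtype.ext (by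
        rw [coe_pow, coe_one]; show w ^ 3 = 1; rw [← hwo]; exact pow_orderOf_eq_one w), map_one]
    refine alt_seven_ne_twelve (π ρ * π ω) ?_
    rw [(hcomm.map π).orderOf_mul_eq_mul_orderOf_of_coprime (by rw [hρo, hωo]; decide), hρo, hωo]
    rfl
  -- `|U ⊓ M| = 3 |O(M) ⊓ C(t)|`
  set o := Nat.card (core M ⊓ centralizer ({t} : Set G) : Subgroup G) with ho
  set uM := Nat.card (U t ⊓ M : Subgroup G) with huM
  have huM3 : uM = 3 * o := by
    have hcard : Nat.card (M ⧸ O) = 2520 := by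
      rw [Nat.card_congr e.toEquiv, nat_card_alternatingGroup, Nat.card_eq_fintype_card,
        Fintype.card_fin]
      rfl
    have h1 : Nat.card M = 2520 * Nat.card (core M) := by
      rw [← O.index_mul_card, Subgroup.index_eq_card, hcard, core,
        card_map_of_injective M.subtype_injective]
    have h2 := card_eq_mul L
    rw [hm, h1] at h2
    have h3 := card_H L
    rw [hn, ← huM, ← ho] at h3
    set H := Nat.card ((centralizer ({t} : Set G) ⊓ M) ⊔ core M : Subgroup G)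
    set c := Nat.card (core M) with hc
    have hc0 : 0 < c := Nat.card_pos
    have h4 : 2520 * o * c = 840 * uM * c := by
      calc 2520 * o * c = 2520 * c * o := by ring
        _ = 105 * (H * o) := by rw [h2]; ring
        _ = 840 * uM * c := by rw [h3]; ring
    have h5 := Nat.eq_of_mul_eq_mul_right hc0 h4
    omega
  have hU : Nat.card (U t) = 9 * o := by
    rw [card_U L, ha, ← huM, huM3]; ring
  -- the fixed points of `u₂` on `U ⊓ M`
  set T₁ := Nat.card (fix M t u₁) with hT₁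
  set T₂ := Nat.card (fix M t u₂) with hT₂
  have hd1 : T₁ ≤ Nat.card (D t u₁) := Nat.le_of_dvd Nat.card_pos (card_dvd_of_le (fix_le_D L))
  have hd2 : 3 * T₂ ≤ Nat.card (D t u₂) := by
    have hwD : w ∈ D t u₂ := (σ.mem_D L.frame.ht).2 ⟨w_t L, hw2, w_odd L⟩
    have hwN : zpowers w ≤ normalizer (fix M t u₂ : Set G) := by
      rw [zpowers_le]
      exact mem_normalizer_of_conj fun z hz => by
        simp only [fix, mem_inf] at hz ⊢
        refine ⟨⟨(mem_normalizer_iff.1 (le_normalizer_core M (w_M L)) z).1 hz.1.1, ?_⟩, ?_⟩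
        · exact mul_mem (mul_mem (mem_centralizer_of_commute (w_t L)) hz.1.2)
            (inv_mem (mem_centralizer_of_commute (w_t L)))
        · exact mul_mem (mul_mem (mem_centralizer_of_commute hw2) hz.2)
            (inv_mem (mem_centralizer_of_commute hw2))
    have hdis : zpowers w ⊓ fix M t u₂ = ⊥ := by
      rw [eq_bot_iff]
      intro z hz
      simp only [fix, mem_inf] at hz
      obtain ⟨⟨j, rfl⟩, ⟨hz', -⟩, -⟩ := hz
      exact mem_bot.2 (L.w_core j hz')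
    have hc := CfsgLib.Core.card_sup_of_disjoint _ _ hwN hdis
    rw [Nat.card_zpowers, hwo] at hc
    rw [← hc]
    exact Nat.le_of_dvd Nat.card_pos (card_dvd_of_le (sup_le (zpowers_le.2 hwD) (fix_le_D L)))
  -- the bound with the smaller fixed group
  obtain ⟨v, g, hR, hv, hg, hv1, hv2⟩ : ∃ v g, Rot t v g ∧ v ∈ M ∧ g ∈ M ∧
      Nat.card (fix M t v) ≤ Nat.card (D t u₁) ∧ 3 * Nat.card (fix M t v) ≤ Nat.card (D t u₂) := by
    rcases le_total T₁ T₂ with h | h
    · exact ⟨u₁, g₁, L.frame.rot₁, L.mem_u₁, L.mem_g₁, hd1, by omega⟩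
    · exact ⟨u₂, g₂, L.frame.rot₂, L.mem_u₂, L.mem_g₂, by omega, hd2⟩
  have hb := index_bound L hR hv hg
  rw [hm, ha, hn, hU, ← ho] at hb
  push_cast at hb
  set d₁ := (Nat.card (D t u₁) : ℚ) with hd₁
  set d₂ := (Nat.card (D t u₂) : ℚ) with hd₂
  set T := (Nat.card (fix M t v) : ℚ) with hT
  have hT0 : 0 ≤ T := Nat.cast_nonneg _
  have hd10 : 0 < d₁ := by rw [hd₁]; exact Nat.cast_pos.2 Nat.card_pos
  have hd20 : 0 < d₂ := by rw [hd₂]; exact Nat.cast_pos.2 Nat.card_pos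
  have hv1q : T ≤ d₁ := Nat.cast_le.2 hv1
  have hv2q : 3 * T ≤ d₂ := by rw [hT, hd₂]; exact_mod_cast hv2
  have hprod : T * (1 / d₁ + 1 / d₂) ≤ 4 / 3 := by
    have e1 : T * (1 / d₁) ≤ 1 := by rw [mul_one_div, div_le_one hd10]; exact hv1q
    have e2 : T * (1 / d₂) ≤ 1 / 3 := by rw [mul_one_div, div_le_iff₀ hd20]; linarith
    rw [mul_add]; linarith
  set oq := (o : ℚ) with hoq
  have ho0 : 0 < oq ^ 2 := by
    have : (0 : ℚ) < oq := by rw [hoq, ho]; exact Nat.cast_pos.2 Nat.card_pos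
    positivity
  have hnn : 0 ≤ T * (1 / d₁ + 1 / d₂) := by positivity
  have hb2 : 2 * (M.index : ℚ) * 105 * oq ^ 2 ≤ 12960 * oq ^ 2 := by
    refine hb.trans ?_
    calc 15 / 8 * (2 ^ 2) ^ 2 * 3 * (9 * oq) ^ 2 * (1 / d₁ + 1 / d₂) ^ 2 * T ^ 2
        = 7290 * oq ^ 2 * (T * (1 / d₁ + 1 / d₂)) ^ 2 := by ring
      _ ≤ 7290 * oq ^ 2 * (4 / 3) ^ 2 := by gcongr
      _ = 12960 * oq ^ 2 := by ring
  have hb3 := le_of_mul_le_mul_right hb2 ho0
  have hi : (M.index : ℚ) * 210 ≤ 12960 := by linarith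
  have hi' : M.index * 210 ≤ 12960 := by exact_mod_cast hi
  rw [ha, hm] at hcnt
  omega

/-- The data with the two classes exchanged. -/
theorem lineData_symm (hinv : u₂ * w * u₂⁻¹ = w⁻¹) : LineData σ t u₂ u₁ g₂ g₁ M w where
  frame := L.frame.symm
  ne_top := L.ne_top
  mem_t := L.mem_t
  mem_u₁ := L.mem_u₂
  mem_u₂ := L.mem_u₁
  mem_g₁ := L.mem_g₂
  mem_g₂ := L.mem_g₁
  not_solvable := L.not_solvable
  w_mem := L.w_mem
  w_inv := hinv
  w_core := L.w_core
  w_side := Or.inl L.w_inv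
  index_ne := L.index_ne
  index_le := L.index_le
  pair := L.pair

end

end CfsgLib.GW.Dne.Line

namespace CfsgLib.GW.Dne

universe u

variable {G : Type u} [Group G]

/-- The counting lemma. -/
theorem lineCount [Finite G] (hC : CountData G) : LineCount G := by
  intro σ t u₁ u₂ g₁ g₂ M w L
  rcases hC σ M t u₁ u₂ g₁ g₂ L.frame L.ne_top L.mem_t L.mem_u₁ L.mem_u₂ L.mem_g₁ L.mem_g₂
      L.not_solvable with ⟨q, ε, -, hε, hq, hm, -, hcl⟩ | ⟨hX, hn, hm, hK, -, hcl⟩
  · have hinv := Line.u₂_inverts L hcl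
    rcases le_total (Nat.card (D t u₁)) (Nat.card (D t u₂)) with hle | hle
    · exact Line.q_contra L hε hq hm hcl hle
    · have L' := Line.lineData_symm L hinv
      rcases hC σ M t u₂ u₁ g₂ g₁ L'.frame L'.ne_top L'.mem_t L'.mem_u₁ L'.mem_u₂ L'.mem_g₁
          L'.mem_g₂ L'.not_solvable with ⟨q', ε', -, hε', hq', hm', -, hcl'⟩ |
          ⟨hX, hn, hm', hK, -, hcl'⟩
      · exact Line.q_contra L' hε' hq' hm' hcl' hle
      · exact Line.seven_contra L' hX hn hm' hK hcl'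
  · exact Line.seven_contra L hX hn hm hK hcl

end CfsgLib.GW.Dne
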