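import Cfsg.Agent.Lib.GW.Dne.Index
import Cfsg.Agent.Lib.PGroups.Omega
import Cfsg.Agent.Lib.PLocal.PStable
import Mathlib.GroupTheory.Transfer

/-!
# Local tools: involutions on subgroups of odd order, linear characters
-/

set_option autoImplicit false

namespace CfsgLib.GW.Dne

open Subgroup CfsgLib.GW
open CfsgLib.Signalizer (involution_sq involution_inv involution_ne_one orderOf_eq_two_of orderOf_conj)

universe u

variable {G : Type u} [Group G]

theorem coprime_zpowers_two {u : G} (hu : orderOf u = 2) {K : Subgroup G}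
    (hK : Odd (Nat.card K)) : (Nat.card (zpowers u)).Coprime (Nat.card K) := by
  rw [Nat.card_zpowers, hu]
  exact Nat.coprime_two_left.2 hK

/-- An element of a subgroup of odd order is a fixed element times an inverted one. -/
theorem decomp [Finite G] {K : Subgroup G} (hK : Odd (Nat.card K)) {u : G} (hu : orderOf u = 2)
    (huK : u ∈ normalizer (K : Set G)) {x : G} (hx : x ∈ K) :
    ∃ c ∈ K, ∃ i ∈ K, Commute c u ∧ u * i * u⁻¹ = i⁻¹ ∧ x = c * i := by
  set b : G := u * x * u⁻¹ with hb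
  have hbK : b ∈ K := (mem_normalizer_iff.1 huK x).1 hx
  set d : G := b⁻¹ * x with hd
  have hdK : d ∈ K := mul_mem (inv_mem hbK) hx
  have hud : u * d * u⁻¹ = d⁻¹ := by
    have h2 : u * b * u⁻¹ = x := by
      rw [hb, show u * (u * x * u⁻¹) * u⁻¹ = u * u * x * (u * u)⁻¹ by group, involution_sq hu]
      simp
    rw [hd, show u * (b⁻¹ * x) * u⁻¹ = (u * b * u⁻¹)⁻¹ * (u * x * u⁻¹) by group, h2, ← hb,
      mul_inv_rev, inv_inv]
  obtain ⟨j, hj⟩ := odd_orderOf_of_mem hK hdK
  set i : G := d ^ (j + 1) with hi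
  have hui : u * i * u⁻¹ = i⁻¹ := by rw [hi, ← conj_pow, hud, inv_pow]
  have hii : i * i = d := by
    rw [hi, ← pow_add, show j + 1 + (j + 1) = orderOf d + 1 by omega, pow_succ,
      pow_orderOf_eq_one, one_mul]
  refine ⟨x * i⁻¹, mul_mem hx (inv_mem (pow_mem hdK _)), i, pow_mem hdK _, ?_, hui, by group⟩
  refine (commute_of_conj_eq ?_).symm
  rw [show u * (x * i⁻¹) * u⁻¹ = (u * x * u⁻¹) * (u * i * u⁻¹)⁻¹ by group, hui, inv_inv, ← hb]
  calc b * i = b * (i * i) * i⁻¹ := by group
    _ = x * i⁻¹ := by rw [hii, hd]; group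

/-- A fixed inverted element of odd order is trivial. -/
theorem eq_one_of_fixed_inverted [Finite G] {u x : G} (ho : Odd (orderOf x)) (h1 : Commute x u)
    (h2 : u * x * u⁻¹ = x⁻¹) : x = 1 :=
  eq_one_of_inv_self ho (by rw [← h2]; exact conj_eq_of_commute h1.symm)

/-- An inverted element normalising a centralised subgroup centralises it. -/
theorem commute_of_inverted_normalizer [Finite G] {u x y : G} (hxo : Odd (orderOf x))
    (hx : u * x * u⁻¹ = x⁻¹) (hy : Commute y u) (hxy : Commute (x * y * x⁻¹) u) : Commute x y := by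
  have h1 : x * y * x⁻¹ = x⁻¹ * y * x := by
    calc x * y * x⁻¹ = u * (x * y * x⁻¹) * u⁻¹ := (conj_eq_of_commute hxy.symm).symm
      _ = u * x * u⁻¹ * (u * y * u⁻¹) * (u * x * u⁻¹)⁻¹ := by group
      _ = x⁻¹ * y * x := by rw [hx, conj_eq_of_commute hy.symm, inv_inv]
  have h2 : Commute (x ^ 2) y := by
    refine commute_of_conj_eq ?_
    rw [pow_two]
    calc x * x * y * (x * x)⁻¹ = x * (x * y * x⁻¹) * x⁻¹ := by group
      _ = y := by rw [h1]; group
  obtain ⟨j, hj⟩ := hxo
  have h3 : x = (x ^ 2) ^ (j + 1) := by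
    rw [← pow_mul, show 2 * (j + 1) = orderOf x + 1 by omega, pow_succ, pow_orderOf_eq_one, one_mul]
  rw [h3]
  exact h2.pow_left _

/-- In a larger invariant `r`-group some inverted element normalises a subgroup containing all
fixed points. -/
theorem exists_inverted_normalizer [Finite G] {r : ℕ} [Fact r.Prime] {P A : Subgroup G}
    (hP : IsPGroup r P) (hr : r ≠ 2) {u : G} (hu : orderOf u = 2)
    (huP : u ∈ normalizer (P : Set G)) (huA : u ∈ normalizer (A : Set G)) (hAP : A < P)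
    (hfix : ∀ x ∈ P, Commute x u → x ∈ A) :
    ∃ v ∈ P, v ∉ A ∧ v ∈ normalizer (A : Set G) ∧ u * v * u⁻¹ = v⁻¹ := by
  haveI : Group.IsNilpotent P := hP.isNilpotent
  have hlt : A.subgroupOf P < ⊤ :=
    lt_top_iff_ne_top.2 fun e => hAP.not_ge (subgroupOf_eq_top.1 e)
  obtain ⟨x, hxN, hxA⟩ := SetLike.exists_of_lt (Group.normalizerCondition_of_isNilpotent _ hlt)
  set K := P ⊓ normalizer (A : Set G) with hK
  have hxK : (x : G) ∈ K := by
    refine ⟨x.2, mem_normalizer_iff.2 fun a => ⟨fun ha => ?_, fun ha => ?_⟩⟩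
    · exact (mem_normalizer_iff.1 hxN ⟨a, hAP.le ha⟩).1 ha
    · have haP : a ∈ P := by
        have := mul_mem (mul_mem (inv_mem x.2) (hAP.le ha)) x.2
        simpa [mul_assoc] using this
      exact (mem_normalizer_iff.1 hxN ⟨a, haP⟩).2 ha
  have hKo : Odd (Nat.card K) :=
    (Setting.odd_of_pGroup hr hP).of_dvd_nat (card_dvd_of_le inf_le_left)
  have huK : u ∈ normalizer (K : Set G) :=
    mem_normalizer_of_conj fun y hy => ⟨(mem_normalizer_iff.1 huP y).1 hy.1,
      (normalizer (A : Set G)).mul_mem ((normalizer (A : Set G)).mul_mem huA hy.2)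
        ((normalizer (A : Set G)).inv_mem huA)⟩
  obtain ⟨c, hc, i, hi, hcu, hiu, e⟩ := decomp hKo hu huK hxK
  refine ⟨i, hi.1, fun hiA => hxA ?_, hi.2, hiu⟩
  show (x : G) ∈ A
  rw [e]
  exact mul_mem (hfix c hc.1 hcu) hiA

/-- Subgroups of a cyclic group are determined by their orders. -/
theorem eq_of_card_eq_of_cyclic {H : Type*} [Group H] [Finite H] [IsCyclic H] (A B : Subgroup H)
    (h : Nat.card A = Nat.card B) : A = B := by
  classical
  haveI := Fintype.ofFinite H
  set m := Nat.card A with hm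
  have hsub : ∀ C : Subgroup H, Nat.card C = m → (C : Set H).toFinset =
      Finset.univ.filter (fun x : H => x ^ m = 1) := fun C hC => by
    refine Finset.eq_of_subset_of_card_le (fun x hx => ?_) ?_
    · simp only [Finset.mem_filter, Finset.mem_univ, true_and]
      rw [Set.mem_toFinset, SetLike.mem_coe] at hx
      have := congrArg Subtype.val (pow_card_eq_one' (x := (⟨x, hx⟩ : C)))
      rwa [hC] at this
    · refine (IsCyclic.card_pow_eq_one_le Nat.card_pos).trans ?_
      rw [Set.toFinset_card, ← Nat.card_eq_fintype_card]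
      exact le_of_eq hC.symm
  refine SetLike.coe_injective (Set.toFinset_inj.1 ?_)
  rw [hsub A rfl, hsub B h.symm]

/-- A cyclic `r`-group of odd order is fixed or inverted by an involution. -/
theorem not_isCyclic_of_fixed_inverted [Finite G] {r : ℕ} [Fact r.Prime] {P : Subgroup G}
    (hP : IsPGroup r P) (hr : r ≠ 2) {u a b : G} (ha : a ∈ P) (hb : b ∈ P) (ha1 : a ≠ 1)
    (hb1 : b ≠ 1) (hau : Commute a u) (hbu : u * b * u⁻¹ = b⁻¹) : ¬ IsCyclic P := by
  intro hc
  have key : ∀ z : G, z ∈ P → z ≠ 1 → ∃ m : ℕ, z ^ m ∈ P ∧ orderOf (z ^ m) = r := fun z hz hz1 => by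
    obtain ⟨k, hk⟩ := (IsPGroup.iff_orderOf.1 hP) ⟨z, hz⟩
    rw [Subgroup.orderOf_mk] at hk
    rcases k with _ | k
    · exact absurd (orderOf_eq_one_iff.1 hk) hz1
    refine ⟨r ^ k, pow_mem hz _, ?_⟩
    rw [orderOf_pow_of_dvd (pow_ne_zero _ (Fact.out : r.Prime).ne_zero) (hk ▸ pow_dvd_pow r k.le_succ),
      hk, pow_succ, Nat.mul_div_cancel_left _ (pow_pos (Fact.out : r.Prime).pos k)]
  obtain ⟨m, ham, hmo⟩ := key a ha ha1
  obtain ⟨l, hbl, hlo⟩ := key b hb hb1
  have hle : ∀ z : G, z ∈ P → orderOf z = r → zpowers z ≤ P := fun z hz _ => zpowers_le.2 hz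
  have heq : (zpowers (a ^ m)).subgroupOf P = (zpowers (b ^ l)).subgroupOf P := by
    haveI := hc
    haveI := Fintype.ofFinite P
    refine eq_of_card_eq_of_cyclic _ _ ?_
    rw [Nat.card_congr (subgroupOfEquivOfLe (hle _ ham hmo)).toEquiv,
      Nat.card_congr (subgroupOfEquivOfLe (hle _ hbl hlo)).toEquiv, Nat.card_zpowers,
      Nat.card_zpowers, hmo, hlo]
  have hmem : b ^ l ∈ zpowers (a ^ m) := by
    have h1 : (⟨b ^ l, hbl⟩ : P) ∈ (zpowers (b ^ l)).subgroupOf P := mem_zpowers _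
    rwa [← heq] at h1
  obtain ⟨k, hk⟩ := hmem
  have hfix : Commute (b ^ l) u := by rw [← hk]; exact ((hau.pow_left m).zpow_left k)
  have hinv : u * b ^ l * u⁻¹ = (b ^ l)⁻¹ := by rw [← conj_pow, hbu, inv_pow]
  have h1 := eq_one_of_fixed_inverted (by rw [hlo]; exact (Fact.out : r.Prime).odd_of_ne_two hr)
    hfix hinv
  rw [h1, orderOf_one] at hlo
  exact (Fact.out : r.Prime).one_lt.ne hlo

/-! ### Characters of exponent `r` -/

/-- A homomorphism with `r`-th power trivial is trivial if it kills a Sylow `r`-subgroup. -/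
theorem eq_one_of_sylow {H A : Type*} [Group H] [Finite H] [CommGroup A] {r : ℕ} [Fact r.Prime]
    (φ : H →* A) (hφ : ∀ x, φ x ^ r = 1) (P : Sylow r H) (hP : ∀ x ∈ (P : Subgroup H), φ x = 1)
    (x : H) : φ x = 1 := by
  have h1 : φ x ∈ φ.range := ⟨x, rfl⟩
  have hrange : Nat.card φ.range ∣ (P : Subgroup H).index := by
    rw [← Subgroup.index_ker]
    exact index_dvd_of_le (fun y hy => hP y hy)
  have h2 : orderOf (φ x) ∣ (P : Subgroup H).index :=
    (Subgroup.orderOf_dvd_natCard _ h1).trans hrange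
  have h3 : orderOf (φ x) ∣ r := orderOf_dvd_of_pow_eq_one (hφ x)
  rcases (Nat.dvd_prime (Fact.out : r.Prime)).1 h3 with e | e
  · exact orderOf_eq_one_iff.1 e
  · rw [e] at h2
    exact absurd h2 P.not_dvd_index

/-- The transfer of a fusion invariant homomorphism. -/
theorem transfer_apply_of_invariant {H : Type*} [Group H] [Finite H] {A : Type*} [CommGroup A]
    {K : Subgroup H} (ψ : K →* A)
    (hinv : ∀ (y z : K) (g : H), (z : H) = g⁻¹ * y * g → ψ z = ψ y) (x : K) :
    ψ.transfer (x : H) = ψ x ^ K.index := by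
  classical
  haveI := Fintype.ofFinite (H ⧸ K)
  haveI := Fintype.ofFinite (Quotient (MulAction.orbitRel (zpowers (x : H)) (H ⧸ K)))
  rw [MonoidHom.transfer_eq_prod_quotient_orbitRel_zpowers_quot,
    index_eq_sum_minimalPeriod K (x : H), ← Finset.prod_pow_eq_pow_sum]
  refine Finset.prod_congr rfl fun q _ => ?_
  rw [← map_pow]
  exact hinv _ _ q.out.out (by rw [coe_pow])

end CfsgLib.GW.Dne
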