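import Cfsg.Agent.Lib.GW.Dne.Model
import Cfsg.Agent.Lib.GW.Dne.SevenFacts
import Cfsg.Agent.Lib.GW.Dne.Local

/-!
# Numerical data of a subgroup fusing both classes of four-groups
-/

set_option autoImplicit false

namespace CfsgLib.GW.Dne

open Subgroup CfsgLib.GW CfsgLib.GW.KFactsProof CfsgLib.Known.AutPSL
open CfsgLib.Signalizer (involution_sq involution_inv involution_ne_one orderOf_eq_two_of orderOf_conj)

universe u

/-- The involutions form one class: their number is the index of a centraliser. -/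
theorem card_involutions_eq_index {K : Type*} [Group K] [Finite K] {z : K} (hz : orderOf z = 2)
    (hall : ∀ j : K, orderOf j = 2 → IsConj z j) :
    Nat.card {j : K // orderOf j = 2} = (centralizer ({z} : Set K)).index := by
  rw [Subgroup.index]
  symm
  set C := centralizer ({z} : Set K)
  refine Nat.card_eq_of_bijective
    (fun q : K ⧸ C => (⟨q.out * z * q.out⁻¹, by rw [orderOf_conj]; exact hz⟩ : {j : K // orderOf j = 2}))
    ⟨?_, ?_⟩
  · intro q q' e
    have e' : q.out * z * q.out⁻¹ = q'.out * z * q'.out⁻¹ := congrArg Subtype.val e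
    rw [← QuotientGroup.out_eq' q, ← QuotientGroup.out_eq' q', QuotientGroup.eq,
      mem_centralizer_singleton_iff]
    calc q.out⁻¹ * q'.out * z = q.out⁻¹ * (q'.out * z * q'.out⁻¹) * q'.out := by group
      _ = z * (q.out⁻¹ * q'.out) := by rw [← e']; group
  · rintro ⟨j, hj⟩
    obtain ⟨g, rfl⟩ := isConj_iff.1 (hall j hj)
    refine ⟨(g : K ⧸ C), Subtype.ext ?_⟩
    obtain ⟨⟨x, hx⟩, hgx⟩ := QuotientGroup.mk_out_eq_mul C g
    show (g : K ⧸ C).out * z * (g : K ⧸ C).out⁻¹ = g * z * g⁻¹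
    rw [hgx, show g * x * z = g * (x * z) by group, mem_centralizer_singleton_iff.1 hx]
    group

variable {G : Type u} [Group G] [Finite G]

/-- An involution of `X ⧸ O(X)` is the image of an involution. -/
theorem exists_lift_involution {X : Subgroup G} {z : Bar X} (hz : orderOf z = 2) :
    ∃ (j : G) (hj : j ∈ X), orderOf j = 2 ∧ bar X ⟨j, hj⟩ = z := by
  obtain ⟨x, rfl⟩ := bar_surjective X z
  have hz2 : bar X x * bar X x = 1 := by
    have h := pow_orderOf_eq_one (bar X x)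
    rwa [hz, pow_two] at h
  obtain ⟨a, m, hm, ho⟩ := Nat.exists_eq_two_pow_mul_odd (orderOf_pos x).ne'
  set y : X := x ^ m with hy
  have hy' : bar X y = bar X x := by
    obtain ⟨k, rfl⟩ := hm
    rw [hy, map_pow, pow_succ, pow_mul, pow_two, hz2, one_pow, one_mul]
  have hy2 : y * y = 1 := by
    have h1 : y * y ∈ Cfsg.oddCore X :=
      (QuotientGroup.eq_one_iff _).1 (show bar X (y * y) = 1 by rw [map_mul, hy', hz2])
    have h2 : orderOf (y * y) ∣ 2 ^ a := orderOf_dvd_of_pow_eq_one (by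
      have hy1 : y ^ 2 ^ a = 1 := by rw [hy, ← pow_mul, mul_comm, ← ho, pow_orderOf_eq_one]
      rw [(Commute.refl y).mul_pow, hy1, one_mul])
    exact orderOf_eq_one_iff.1 (Nat.eq_one_of_dvd_coprimes
      ((Nat.coprime_two_right.2 (odd_orderOf_of_mem (CfsgLib.ZStar.odd_card_oddCore X) h1)).pow_right a)
      dvd_rfl h2)
  have hy1 : (y : G) ≠ 1 := fun e => by
    rw [← hy', show y = 1 from Subtype.ext e, map_one, orderOf_one] at hz
    omega
  exact ⟨y, y.2, orderOf_eq_two_of hy1 (congrArg Subtype.val hy2), hy'⟩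

omit [Finite G] in
/-- Orders of images. -/
theorem card_eq_mul_of_ker_le {H : Type*} [Group H] {N : Subgroup H} {K : Type*} [Group K] (f : H →* K)
    (hle : f.ker ≤ N) : Nat.card N = Nat.card f.ker * Nat.card (N.map f) := by
  rw [← (f.comp N.subtype).ker.card_mul_index, index_ker, MonoidHom.range_comp, range_subtype]
  congr 1
  rw [← card_map_of_injective N.subtype_injective]
  refine congrArg (fun S : Subgroup H => Nat.card S) (Subgroup.ext fun x => ?_)
  constructor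
  · rintro ⟨y, hy, rfl⟩; exact hy
  · exact fun hx => ⟨⟨x, hle hx⟩, hx, rfl⟩

omit [Finite G] in
theorem mem_sup_core_iff {A X : Subgroup G} {x : G} :
    x ∈ (A ⊓ X) ⊔ core X ↔ ∃ a ∈ A ⊓ X, ∃ n ∈ core X, x = a * n :=
  CfsgLib.Core.mem_sup_iff_mul (inf_le_right.trans (le_normalizer_core X))

/-- Setting of `CountData`. -/
structure CountSetting (σ : Hyp G) (X : Subgroup G) (t u₁ u₂ g₁ g₂ : G) : Prop where
  frame : Frame σ t u₁ u₂ g₁ g₂
  ne_top : X ≠ ⊤
  mem_t : t ∈ X
  mem_u₁ : u₁ ∈ X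
  mem_u₂ : u₂ ∈ X
  mem_g₁ : g₁ ∈ X
  mem_g₂ : g₂ ∈ X

namespace CountSetting

variable {σ : Hyp G} {X : Subgroup G} {t u₁ u₂ g₁ g₂ : G} (h : CountSetting σ X t u₁ u₂ g₁ g₂)

/-- The image of `t`. -/
def tb (h : CountSetting σ X t u₁ u₂ g₁ g₂) : Bar X := bar X ⟨t, h.mem_t⟩

/-- The image of `u₁`. -/
def ub (h : CountSetting σ X t u₁ u₂ g₁ g₂) : Bar X := bar X ⟨u₁, h.mem_u₁⟩

/-- The image of the odd part of `C_X(t)`. -/
noncomputable def oddImg (X : Subgroup G) (t : G) : Subgroup (Bar X) :=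
  ((U t).subgroupOf X).map (bar X)

include h

theorem orderOf_tb : orderOf h.tb = 2 :=
  orderOf_eq_two_of (bar_two_ne_one h.mem_t h.frame.ht) (bar_two_sq h.mem_t h.frame.ht)

theorem tb_ne_ub : h.tb ≠ h.ub :=
  bar_pair_ne h.mem_t h.mem_u₁ h.frame.ht h.frame.hu₁ h.frame.rot₁.ne h.frame.rot₁.comm

/-- All involutions of `X ⧸ O(X)` are conjugate to the image of `t`. -/
theorem all_conj {z : Bar X} (hz : orderOf z = 2) : IsConj h.tb z := by
  obtain ⟨j, hj, hjo, rfl⟩ := exists_lift_involution hz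
  obtain ⟨x, hx, e⟩ := h.frame.conj_t_of_sylow_mem
    ((closure_le X).2 (by simp [Set.insert_subset_iff, h.mem_u₁, h.mem_u₂])) h.mem_g₁ h.mem_g₂ hj hjo
  exact isConj_iff.2 ⟨bar X ⟨x, hx⟩, bar_conj hx h.mem_t hj e⟩

/-- The image of `C_X(t)` is the centraliser of the image of `t`. -/
theorem comap_centralizer :
    ((centralizer ({t} : Set G) ⊓ X) ⊔ core X).subgroupOf X =
      (centralizer ({h.tb} : Set (Bar X))).comap (bar X) := by
  have : Fact (Nat.Prime 2) := ⟨Nat.prime_two⟩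
  ext x
  obtain ⟨x, hx⟩ := x
  rw [mem_subgroupOf, mem_comap, mem_centralizer_singleton_iff]
  show x ∈ _ ↔ _
  constructor
  · intro hm
    rw [mem_sup_core_iff] at hm
    obtain ⟨a, ha, n, hn, rfl⟩ := hm
    have e : bar X ⟨a * n, hx⟩ = bar X ⟨a, ha.2⟩ := by
      rw [← bar_mul ha.2 (core_le X hn), (bar_eq_one _).2 hn, mul_one]
    rw [e]
    exact (bar_commute ha.2 h.mem_t (commute_of_mem_centralizer ha.1)).eq
  · intro hm
    have hcop : (Nat.card (zpowers t)).Coprime (Nat.card (core X)) :=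
      coprime_zpowers_two h.frame.ht (odd_core X)
    have hfix : ∀ a ∈ zpowers t, x⁻¹ * (a * x * a⁻¹) ∈ core X := by
      rintro _ ⟨k, rfl⟩
      show x⁻¹ * (t ^ k * x * (t ^ k)⁻¹) ∈ core X
      have hk : t ^ k ∈ X := zpow_mem h.mem_t k
      rw [← bar_eq_one (mul_mem (inv_mem hx) (mul_mem (mul_mem hk hx) (inv_mem hk))),
        ← bar_mul (inv_mem hx) (mul_mem (mul_mem hk hx) (inv_mem hk)),
        ← bar_mul (mul_mem hk hx) (inv_mem hk), ← bar_mul hk hx, ← bar_inv hk, ← bar_inv hx]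
      have hc : Commute (bar X ⟨x, hx⟩) (bar X ⟨t ^ k, hk⟩) := by
        rw [show (⟨t ^ k, hk⟩ : X) = ⟨t, h.mem_t⟩ ^ k from Subtype.ext (by simp), map_zpow]
        exact (show Commute (bar X ⟨x, hx⟩) h.tb from hm).zpow_right k
      rw [conj_eq_of_commute hc.symm, inv_mul_cancel]
    obtain ⟨n, hn, hxn⟩ := CfsgLib.Core.exists_centralizing_in_coset
      ((zpowers_le.2 h.mem_t).trans (le_normalizer_core X)) hcop
      (Or.inl inferInstance) hfix
    have hxn' : x * n ∈ centralizer ({t} : Set G) :=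
      mem_centralizer_singleton_iff.2 (mem_centralizer_iff.1 hxn t (mem_zpowers t)).symm
    rw [show x = x * n * n⁻¹ by group]
    exact mul_mem (mem_sup_left ⟨hxn', mul_mem hx (core_le X hn)⟩) (mem_sup_right (inv_mem hn))

/-- `m` is the index of the centraliser of the image of `t`. -/
theorem m_eq : ((centralizer ({t} : Set G) ⊓ X) ⊔ core X).relIndex X =
    (centralizer ({h.tb} : Set (Bar X))).index := by
  show (((centralizer ({t} : Set G) ⊓ X) ⊔ core X).subgroupOf X).index = _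
  rw [h.comap_centralizer, index_comap_of_surjective _ (bar_surjective X)]

theorem m_eq_card : ((centralizer ({t} : Set G) ⊓ X) ⊔ core X).relIndex X =
    Nat.card {z : Bar X // orderOf z = 2} := by
  rw [h.m_eq, card_involutions_eq_index h.orderOf_tb fun z hz => h.all_conj hz]

/-- The Sylow subgroup in the image. -/
theorem exists_two_image : ∃ P : Subgroup (Bar X), Nat.card P = 2 ^ (σ.n + 1) ∧
    P ≤ centralizer ({h.tb} : Set (Bar X)) ∧ P ≤ normalizer (oddImg X t : Set (Bar X)) ∧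
    (centralizer ({h.tb} : Set (Bar X)) ≤ P ⊔ oddImg X t) ∧
    P ≤ closure {z : Bar X | orderOf z = 2} := by
  have : Fact (Nat.Prime 2) := ⟨Nat.prime_two⟩
  set Q := closure ({u₁, u₂} : Set G)
  have hQX : Q ≤ X := (closure_le X).2 (by simp [Set.insert_subset_iff, h.mem_u₁, h.mem_u₂])
  have hQp : IsPGroup 2 (Q.subgroupOf X) :=
    (IsPGroup.of_card h.frame.card_closure).comap_of_injective _ X.subtype_injective
  refine ⟨(Q.subgroupOf X).map (bar X), ?_, ?_, ?_, ?_, ?_⟩
  · rw [← range_subtype (Q.subgroupOf X), MonoidHom.map_range,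
      ← Nat.card_congr (MonoidHom.ofInjective (bar_injOn hQp)).toEquiv,
      Nat.card_congr (subgroupOfEquivOfLe hQX).toEquiv, h.frame.card_closure]
  · rintro _ ⟨w, hw, rfl⟩
    rw [mem_centralizer_singleton_iff]
    exact (bar_commute w.2 h.mem_t (commute_of_mem_centralizer (h.frame.closure_le_centralizer hw))).eq
  · rintro _ ⟨w, hw, rfl⟩
    refine le_normalizer_map _ ⟨w, ?_, rfl⟩
    show w ∈ normalizer ((U t).subgroupOf X : Set X)
    rw [mem_normalizer_iff]
    intro y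
    exact mem_normalizer_iff.1 (Setting.le_normalizer_U t (h.frame.closure_le_centralizer hw)) y
  · intro z hz
    obtain ⟨⟨x, hx⟩, rfl⟩ := bar_surjective X z
    have hm : x ∈ (centralizer ({t} : Set G) ⊓ X) ⊔ core X :=
      (SetLike.ext_iff.1 h.comap_centralizer ⟨x, hx⟩).2 hz
    obtain ⟨c, hc, n, hn, rfl⟩ := mem_sup_core_iff.1 hm
    obtain ⟨a, ha, s, hs, rfl⟩ := h.frame.exists_mul (commute_of_mem_centralizer hc.1)
    have hsX : s ∈ X := hQX hs
    have haX : a ∈ X := by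
      have := X.mul_mem hc.2 (X.inv_mem hsX)
      rwa [mul_inv_cancel_right] at this
    rw [show bar X ⟨a * s * n, hx⟩ = bar X ⟨a, haX⟩ * bar X ⟨s, hsX⟩ by
      rw [← bar_mul (mul_mem haX hsX) (core_le X hn), (bar_eq_one _).2 hn, mul_one, bar_mul]]
    exact mul_mem (mem_sup_right ⟨⟨a, haX⟩, ha, rfl⟩) (mem_sup_left ⟨⟨s, hsX⟩, hs, rfl⟩)
  · rintro _ ⟨w, hw, rfl⟩
    have key : ∀ v ∈ Q, ∀ hv : v ∈ X, bar X ⟨v, hv⟩ ∈ closure {z : Bar X | orderOf z = 2} := by
      intro v hv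
      induction hv using closure_induction with
      | mem y hy =>
        intro hyX
        refine subset_closure ?_
        rcases hy with rfl | rfl
        · exact orderOf_eq_two_of (bar_two_ne_one hyX h.frame.hu₁) (bar_two_sq hyX h.frame.hu₁)
        · exact orderOf_eq_two_of (bar_two_ne_one hyX h.frame.hu₂) (bar_two_sq hyX h.frame.hu₂)
      | one => intro h1; rw [show (⟨1, h1⟩ : X) = 1 from rfl, map_one]; exact one_mem _
      | mul a b ha hb iha ihb =>
        intro _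
        rw [← bar_mul (hQX ha) (hQX hb)]
        exact mul_mem (iha _) (ihb _)
      | inv a ha iha =>
        intro _
        rw [← bar_inv (hQX ha)]
        exact inv_mem (iha _)
    exact key _ hw w.2

theorem oddImg_le : oddImg X t ≤ centralizer ({h.tb} : Set (Bar X)) := by
  rintro _ ⟨w, hw, rfl⟩
  rw [mem_centralizer_singleton_iff]
  exact (bar_commute w.2 h.mem_t ((σ.mem_U h.frame.ht).1 hw).1).eq

theorem odd_oddImg : Odd (Nat.card (oddImg X t)) := by
  refine (σ.odd_U h.frame.ht).of_dvd_nat ?_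
  refine (card_map_dvd _ _).trans ?_
  rw [← card_map_of_injective X.subtype_injective, subgroupOf_map_subtype]
  exact card_dvd_of_le inf_le_left

/-- The image of the fixed part of `u₁`. -/
theorem card_oddImg : Nat.card (oddImg X t) = Nat.card (((D t u₁).subgroupOf X).map (bar X)) *
    ((D t u₁ ⊓ X) ⊔ (core X ⊓ centralizer ({t} : Set G))).relIndex (U t ⊓ X) := by
  set H := U t ⊓ X with hH
  set B := core X ⊓ centralizer ({t} : Set G)
  set A := (D t u₁ ⊓ X) ⊔ B
  have hBH : B ≤ H := fun x hx => ⟨(σ.mem_U h.frame.ht).2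
    ⟨commute_of_mem_centralizer hx.2, odd_orderOf_of_mem (odd_core X) hx.1⟩, core_le X hx.1⟩
  have hAH : A ≤ H := sup_le (inf_le_inf_right _ (Hyp.D_le_U t u₁)) hBH
  let f : H →* Bar X := (bar X).comp (inclusion (inf_le_right : H ≤ X))
  have hker : f.ker ≤ A.subgroupOf H := fun x hx => by
    refine mem_sup_right ⟨(bar_eq_one (x.2.2 : (x : G) ∈ X)).1 hx,
      mem_centralizer_of_commute ((σ.mem_U h.frame.ht).1 x.2.1).1⟩
  have h1 := card_eq_mul_of_ker_le f (le_top : f.ker ≤ ⊤)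
  have h2 := card_eq_mul_of_ker_le f hker
  have e1 : (⊤ : Subgroup H).map f = oddImg X t := by
    rw [← MonoidHom.range_eq_map]
    ext z
    constructor
    · rintro ⟨x, rfl⟩; exact ⟨⟨x, x.2.2⟩, x.2.1, rfl⟩
    · rintro ⟨x, hx, rfl⟩; exact ⟨⟨x, hx, x.2⟩, rfl⟩
  have e2 : (A.subgroupOf H).map f = ((D t u₁).subgroupOf X).map (bar X) := by
    refine le_antisymm ?_ ?_
    · rw [← map_map, map_le_iff_le_comap]
      rintro _ ⟨x, hx, rfl⟩
      have hle : A ≤ (((((D t u₁).subgroupOf X).map (bar X)).comap (bar X)).map X.subtype) := by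
        refine sup_le (fun y hy => ⟨⟨y, hy.2⟩, mem_comap.2 ⟨⟨y, hy.2⟩, hy.1, rfl⟩, rfl⟩) ?_
        intro y hy
        refine ⟨⟨y, core_le X hy.1⟩, mem_comap.2 ?_, rfl⟩
        rw [(bar_eq_one _).2 hy.1]
        exact one_mem _
      obtain ⟨z, hz, e⟩ := hle hx
      exact (show z = inclusion (inf_le_right : H ≤ X) x from Subtype.ext e) ▸ hz
    · rintro _ ⟨x, hx, rfl⟩
      exact ⟨⟨x, Hyp.D_le_U t u₁ hx, x.2⟩, mem_sup_left (show (x : G) ∈ D t u₁ ⊓ X from ⟨hx, x.2⟩), rfl⟩
  rw [e1, card_top] at h1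
  rw [e2] at h2
  have h3 := (A.subgroupOf H).card_mul_index
  rw [h1, h2, mul_assoc] at h3
  exact (Nat.eq_of_mul_eq_mul_left Nat.card_pos h3).symm

/-- `|Ĥ|` is the index of the kernel. -/
theorem card_oddImg_eq_relIndex :
    (core X ⊓ centralizer ({t} : Set G)).relIndex (U t ⊓ X) = Nat.card (oddImg X t) := by
  let f : (U t ⊓ X : Subgroup G) →* Bar X := (bar X).comp (inclusion inf_le_right)
  have e1 : f.range = oddImg X t := by
    ext z
    constructor
    · rintro ⟨x, rfl⟩; exact ⟨⟨x, x.2.2⟩, x.2.1, rfl⟩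
    · rintro ⟨x, hx, rfl⟩; exact ⟨⟨x, hx, x.2⟩, rfl⟩
  have e2 : f.ker = (core X ⊓ centralizer ({t} : Set G)).subgroupOf (U t ⊓ X) := by
    ext x
    rw [MonoidHom.mem_ker, mem_subgroupOf]
    show bar X ⟨x, x.2.2⟩ = 1 ↔ _
    rw [bar_eq_one]
    exact ⟨fun hx => ⟨hx, mem_centralizer_of_commute ((σ.mem_U h.frame.ht).1 x.2.1).1⟩, And.left⟩
  rw [← e1, ← index_ker, e2]
  rfl

/-- The facts in the linear case. -/
theorem linear (E : LinBar X) :
    ∃ (q : ℕ) (ε : ℤ), IsPrimePow q ∧ (ε = 1 ∨ ε = -1) ∧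
      (q : ℤ) - ε = 2 * 2 ^ σ.n *
        ((D t u₁ ⊓ X) ⊔ (core X ⊓ centralizer ({t} : Set G))).relIndex (U t ⊓ X) ∧
      2 * ((((centralizer ({t} : Set G) ⊓ X) ⊔ core X).relIndex X : ℕ) : ℤ) = q * (q + ε) ∧
      q ∣ Nat.card X ∧
      ∀ x ∈ U t ⊓ X, u₁ * x * u₁⁻¹ = x⁻¹ → x ∉ core X →
        ∀ j ∈ X, orderOf j = 2 → Commute j x → j * t ∈ core X := by
  have : Fact (Nat.Prime 2) := ⟨Nat.prime_two⟩
  set T := h.tb
  -- all involutions lie in `L`
  have hinvL : ∀ z : Bar X, orderOf z = 2 → z ∈ E.L := by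
    intro z hz
    obtain ⟨v, hv, w, -, hvw⟩ := four_mem E.lin
    obtain ⟨c, hc⟩ := isConj_iff.1 ((h.all_conj hvw.hv).symm.trans (h.all_conj hz))
    rw [← hc]
    exact E.normal.conj_mem _ hv c
  have hTL : T ∈ E.L := hinvL T h.orderOf_tb
  have hUo : orderOf h.ub = 2 := orderOf_eq_two_of
    (bar_two_ne_one h.mem_u₁ h.frame.hu₁) (bar_two_sq h.mem_u₁ h.frame.hu₁)
  -- at most one involution commutes with a non-trivial element of odd order of `L`
  have hone : ∀ {a y z : Bar X}, Odd (orderOf a) → a ≠ 1 → a ∈ E.L → orderOf y = 2 → orderOf z = 2 →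
      Commute a y → Commute a z → y = z := by
    intro a y z ha ha1 haL hy hz hay haz
    refine E.φ_injective (PSLAut.eq_of_commute E.h2 (E.mem_range_of_mem haL)
      (E.mem_range_of_mem (hinvL y hy)) (E.mem_range_of_mem (hinvL z hz)) (fun e => ha1 ?_)
      (by rw [← map_mul, involution_sq hy, map_one])
      (fun e => involution_ne_one hy (E.φ_injective (e.trans (map_one _).symm)))
      (by rw [← map_mul, involution_sq hz, map_one])
      (fun e => involution_ne_one hz (E.φ_injective (e.trans (map_one _).symm)))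
      (hay.map E.φ) (haz.map E.φ))
    rw [← map_mul] at e
    exact eq_one_of_inv_self ha (inv_eq_of_mul_eq_one_right (E.φ_injective (e.trans (map_one _).symm)))
  -- the number of involutions
  have hm : ((centralizer ({t} : Set G) ⊓ X) ⊔ core X).relIndex X =
      (centralizer ({E.e ⟨T, hTL⟩} : Set (PSL 2 E.F))).index := by
    have hTo : orderOf (E.e ⟨T, hTL⟩) = 2 := by
      rw [MulEquiv.orderOf_eq, Subgroup.orderOf_mk]; exact h.orderOf_tb
    rw [h.m_eq_card, ← card_involutions_eq_index hTo fun z hz => PSLAut.isConj_involutions E.h2 hTo hz]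
    refine Nat.card_congr
      { toFun := fun z => ⟨E.e ⟨z.1, hinvL z.1 z.2⟩, by
          rw [MulEquiv.orderOf_eq, Subgroup.orderOf_mk]; exact z.2⟩
        invFun := fun z => ⟨(E.e.symm z.1 : Bar X), by
          rw [Subgroup.orderOf_coe, MulEquiv.orderOf_eq]; exact z.2⟩
        left_inv := fun z => by simp
        right_inv := fun z => by simp }
  obtain ⟨ε, hε, -, hidx, hcard⟩ := PSLAut.card_centralizer_involution E.h2 (x := E.e ⟨T, hTL⟩) (by
    rw [MulEquiv.orderOf_eq, Subgroup.orderOf_mk]; exact h.orderOf_tb)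
  -- the odd part of the centraliser in `L`
  set O := oddImg X t ⊓ E.L
  obtain ⟨P, hPc, hPC, hPN, hCP, hPcl⟩ := h.exists_two_image
  have hPL : P ≤ E.L := hPcl.trans ((closure_le _).2 fun z hz => hinvL z hz)
  have hPO : P ≤ normalizer (O : Set (Bar X)) := fun p hp => mem_normalizer_of_conj fun y hy =>
    ⟨(mem_normalizer_iff.1 (hPN hp) y).1 hy.1, E.normal.conj_mem y hy.2 p⟩
  have hOo : Odd (Nat.card O) := h.odd_oddImg.of_dvd_nat (card_dvd_of_le inf_le_left)
  have hCL : centralizer ({T} : Set (Bar X)) ⊓ E.L = P ⊔ O := by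
    refine le_antisymm (fun z hz => ?_)
      (sup_le (le_inf hPC hPL) (inf_le_inf_right _ h.oddImg_le))
    obtain ⟨p, hp, o, ho, rfl⟩ := (CfsgLib.Core.mem_sup_iff_mul hPN).1 (hCP hz.1)
    exact mul_mem (mem_sup_left hp)
      (mem_sup_right ⟨ho, by simpa using mul_mem (inv_mem (hPL hp)) hz.2⟩)
  have hcardC : Nat.card (centralizer ({E.e ⟨T, hTL⟩} : Set (PSL 2 E.F))) =
      2 ^ (σ.n + 1) * Nat.card O := by
    rw [← hPc, ← CfsgLib.Core.card_sup_of_coprime P O hPO
      (by rw [hPc]; exact (Nat.coprime_two_left.2 hOo).pow_left _), ← hCL]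
    refine Nat.card_congr
      { toFun := fun z => ⟨(E.e.symm z.1 : Bar X), ?_, (E.e.symm z.1).2⟩
        invFun := fun z => ⟨E.e ⟨z.1, z.2.2⟩, ?_⟩
        left_inv := fun z => by simp
        right_inv := fun z => by simp }
    · have h1 : E.e.symm z.1 * ⟨T, hTL⟩ = ⟨T, hTL⟩ * E.e.symm z.1 := E.e.injective (by
        rw [map_mul, map_mul, E.e.apply_symm_apply]; exact mem_centralizer_singleton_iff.1 z.2)
      exact mem_centralizer_singleton_iff.2 (congrArg Subtype.val h1)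
    · rw [mem_centralizer_singleton_iff, ← map_mul, ← map_mul]
      exact congrArg E.e (Subtype.ext (mem_centralizer_singleton_iff.1 z.2.1))
  -- `K = |O|`
  set Db := ((D t u₁).subgroupOf X).map (bar X)
  have hDbO : Db ≤ oddImg X t :=
    map_mono fun x hx => Hyp.D_le_U t u₁ hx
  have hDbL : ∀ a ∈ Db, a ∈ E.L → a = 1 := by
    rintro _ ⟨x, hx, rfl⟩ hxL
    by_contra hne
    have hxU := (σ.mem_U h.frame.ht).1 (Hyp.D_le_U t u₁ hx)
    exact h.tb_ne_ub (hone (bar_odd x.2 hxU.2) hne hxL h.orderOf_tb hUo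
      (bar_commute x.2 h.mem_t hxU.1) (bar_commute x.2 h.mem_u₁ (Hyp.D_commute hx)))
  have hK : ((D t u₁ ⊓ X) ⊔ (core X ⊓ centralizer ({t} : Set G))).relIndex (U t ⊓ X) = Nat.card O := by
    let π := (QuotientGroup.mk' E.L).comp (oddImg X t).subtype
    have hπ : Nat.card π.range = Nat.card Db := by
      have hr : π.range = Db.map (QuotientGroup.mk' E.L) := by
        rw [MonoidHom.range_comp, range_subtype]
        refine le_antisymm ?_ (map_mono hDbO)
        rintro _ ⟨_, ⟨⟨x, hxX⟩, hxU, rfl⟩, rfl⟩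
        have huU : u₁ ∈ normalizer ((U t ⊓ X : Subgroup G) : Set G) := mem_normalizer_of_conj fun y hy =>
          ⟨(mem_normalizer_iff.1 (Setting.le_normalizer_U t
              (mem_centralizer_of_commute h.frame.commute₁)) y).1 hy.1,
            X.mul_mem (X.mul_mem h.mem_u₁ hy.2) (X.inv_mem h.mem_u₁)⟩
        obtain ⟨c, hc, i, hi, hcu, hiu, rfl⟩ := decomp
          ((σ.odd_U h.frame.ht).of_dvd_nat (card_dvd_of_le inf_le_left)) h.frame.hu₁ huU
          (show x ∈ U t ⊓ X from ⟨hxU, hxX⟩)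
        refine ⟨bar X ⟨c, hc.2⟩, ⟨⟨c, hc.2⟩, ⟨hc.1, mem_centralizer_of_commute hcu⟩, rfl⟩, ?_⟩
        have hiL : bar X ⟨i, hi.2⟩ ∈ E.L :=
          E.mem_of_inverted (bar_odd hi.2 ((σ.mem_U h.frame.ht).1 hi.1).2)
            ((bar_conj h.mem_u₁ hi.2 (inv_mem hi.2) hiu).trans (bar_inv hi.2).symm)
        rw [← bar_mul hc.2 hi.2, map_mul, show QuotientGroup.mk' E.L (bar X ⟨i, hi.2⟩) = 1 from
          (QuotientGroup.eq_one_iff _).2 hiL, mul_one]
      rw [hr]
      refine Nat.card_congr (Equiv.Set.imageOfInjOn _ _ ?_).symm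
      intro a ha b hb e
      exact (inv_mul_eq_one.1 (hDbL _ (mul_mem (inv_mem ha) hb) (QuotientGroup.eq.1 e)))
    have hkerπ : Nat.card π.ker = Nat.card O := by
      rw [← card_map_of_injective (oddImg X t).subtype_injective]
      congr 2
      ext z
      constructor
      · rintro ⟨y, hy, rfl⟩
        exact ⟨y.2, (QuotientGroup.eq_one_iff _).1 hy⟩
      · exact fun hz => ⟨⟨z, hz.1⟩, (QuotientGroup.eq_one_iff _).2 hz.2, rfl⟩
    have h3 := π.ker.card_mul_index
    rw [index_ker, hπ, hkerπ, h.card_oddImg, mul_comm] at h3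
    exact (Nat.eq_of_mul_eq_mul_left Nat.card_pos h3).symm
  have hqodd : Odd (Fintype.card E.F) := E.lin.odd
  refine ⟨Fintype.card E.F, ε, FiniteField.isPrimePow_card E.F, hε, ?_, by rw [hm]; exact hidx, ?_, ?_⟩
  · rw [hK, ← hcard, hcardC, pow_succ']
    push_cast
    ring
  · have h1 : ((centralizer ({t} : Set G) ⊓ X) ⊔ core X).relIndex X ∣ Nat.card X := relIndex_dvd_card _ _
    refine dvd_trans ?_ h1
    have h2 : (Fintype.card E.F : ℤ) ∣
        2 * ((((centralizer ({t} : Set G) ⊓ X) ⊔ core X).relIndex X : ℕ) : ℤ) := by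
      rw [hm, hidx]; exact dvd_mul_right _ _
    refine (Nat.coprime_two_right.2 hqodd).dvd_of_dvd_mul_left ?_
    exact_mod_cast h2
  · intro x hx hinv hxc j hj hjo hjx
    have hxo : Odd (orderOf (bar X ⟨x, hx.2⟩)) := bar_odd hx.2 ((σ.mem_U h.frame.ht).1 hx.1).2
    have hxL := E.mem_of_inverted hxo
      ((bar_conj h.mem_u₁ hx.2 (inv_mem hx.2) hinv).trans (bar_inv hx.2).symm)
    have e : bar X ⟨j, hj⟩ = T := hone hxo (fun e => hxc ((bar_eq_one hx.2).1 e)) hxL
      (orderOf_eq_two_of (bar_two_ne_one hj hjo) (bar_two_sq hj hjo)) h.orderOf_tb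
      (bar_commute hx.2 hj hjx.symm) (bar_commute hx.2 h.mem_t ((σ.mem_U h.frame.ht).1 hx.1).1)
    rw [← bar_eq_one (mul_mem hj h.mem_t), ← bar_mul hj h.mem_t, e]
    exact bar_two_sq h.mem_t h.frame.ht

/-- The facts for `A₇`. -/
theorem seven (hS : Seven X) :
    σ.n = 2 ∧ ((centralizer ({t} : Set G) ⊓ X) ⊔ core X).relIndex X = 105 ∧
      ((D t u₁ ⊓ X) ⊔ (core X ⊓ centralizer ({t} : Set G))).relIndex (U t ⊓ X) ∣ 3 ∧
      (core X ⊓ centralizer ({t} : Set G)).relIndex (U t ⊓ X) ∣ 3 ∧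
      ∀ x ∈ U t ⊓ X, u₁ * x * u₁⁻¹ = x⁻¹ → x ∉ core X →
        ∃ a b : G, ∀ j ∈ X, orderOf j = 2 → Commute j x →
          j * t ∈ core X ∨ j * a ∈ core X ∨ j * b ∈ core X := by
  have : Fact (Nat.Prime 2) := ⟨Nat.prime_two⟩
  obtain ⟨e⟩ := hS
  have hm : ((centralizer ({t} : Set G) ⊓ X) ⊔ core X).relIndex X = 105 := by
    rw [h.m_eq_card, ← SevenFacts.card_involutions]
    exact Nat.card_congr (e.toEquiv.subtypeEquiv fun z => by
      show _ ↔ orderOf (e z) = 2; rw [MulEquiv.orderOf_eq])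
  obtain ⟨P, hPc, hPC, hPN, hCP, -⟩ := h.exists_two_image
  have hC : Nat.card (centralizer ({h.tb} : Set (Bar X))) = 24 := by
    have h1 := (centralizer ({h.tb} : Set (Bar X))).index_mul_card
    rw [← h.m_eq, hm, Nat.card_congr e.toEquiv, nat_card_alternatingGroup, Nat.card_fin] at h1
    norm_num [Nat.factorial] at h1
    omega
  have hCeq : centralizer ({h.tb} : Set (Bar X)) = P ⊔ oddImg X t :=
    le_antisymm hCP (sup_le hPC h.oddImg_le)
  have hprod : 24 = 2 ^ (σ.n + 1) * Nat.card (oddImg X t) := by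
    rw [← hC, hCeq, CfsgLib.Core.card_sup_of_coprime P _ hPN
      (by rw [hPc]; exact (Nat.coprime_two_left.2 h.odd_oddImg).pow_left _), hPc]
  obtain ⟨k, hk⟩ := h.odd_oddImg
  have hn : σ.n = 2 := by
    have hle : σ.n ≤ 4 := by
      by_contra hlt
      have h32 : 2 ^ 6 ≤ 2 ^ (σ.n + 1) := Nat.pow_le_pow_right two_pos (by omega)
      nlinarith [hprod, h32]
    have := σ.pos
    rw [hk] at hprod
    interval_cases hh : σ.n <;> simp at hprod <;> omega
  have h3 : Nat.card (oddImg X t) = 3 := by rw [hn] at hprod; omega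
  refine ⟨hn, hm, ?_, by rw [h.card_oddImg_eq_relIndex, h3], ?_⟩
  · rw [← h3, h.card_oddImg]
    exact dvd_mul_left _ _
  · intro x hx _ hxc
    have hxo : Odd (orderOf (e (bar X ⟨x, hx.2⟩))) := by
      rw [MulEquiv.orderOf_eq]; exact bar_odd hx.2 ((σ.mem_U h.frame.ht).1 hx.1).2
    obtain ⟨a, b, hab⟩ := SevenFacts.involutions_commuting (t := e h.tb)
      (by rw [MulEquiv.orderOf_eq]; exact h.orderOf_tb) hxo
      (fun e1 => hxc ((bar_eq_one hx.2).1 (e.injective (e1.trans (map_one e).symm))))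
      ((bar_commute hx.2 h.mem_t ((σ.mem_U h.frame.ht).1 hx.1).1).map e.toMonoidHom)
    obtain ⟨⟨a', ha'⟩, hae⟩ := bar_surjective X (e.symm a)
    obtain ⟨⟨b', hb'⟩, hbe⟩ := bar_surjective X (e.symm b)
    refine ⟨a', b', fun j hj hjo hjx => ?_⟩
    have hsq := bar_two_sq hj hjo
    have key : ∀ (y : G) (hy : y ∈ X), bar X ⟨y, hy⟩ = bar X ⟨j, hj⟩ → j * y ∈ core X := fun y hy hh => by
      rw [← bar_eq_one (mul_mem hj hy), ← bar_mul hj hy, hh, hsq]
    rcases hab (e (bar X ⟨j, hj⟩))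
      (by rw [MulEquiv.orderOf_eq]; exact orderOf_eq_two_of (bar_two_ne_one hj hjo) hsq)
      ((bar_commute hj hx.2 hjx).map e.toMonoidHom) with e1 | e1 | e1
    · exact Or.inl (key t h.mem_t (e.injective e1).symm)
    · exact Or.inr (Or.inl (key a' ha' (by rw [hae, ← e1, e.symm_apply_apply])))
    · exact Or.inr (Or.inr (key b' hb' (by rw [hbe, ← e1, e.symm_apply_apply])))

end CountSetting

theorem countData : CountData G := by
  intro σ X t u₁ u₂ g₁ g₂ hF hX ht hu₁ hu₂ hg₁ hg₂ hns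
  have h : CountSetting σ X t u₁ u₂ g₁ g₂ := ⟨hF, hX, ht, hu₁, hu₂, hg₁, hg₂⟩
  rcases bar_cases σ hX hns with hE | hS
  · obtain ⟨E⟩ := hE
    exact Or.inl (h.linear E)
  · exact Or.inr ⟨hS, h.seven hS⟩

end CfsgLib.GW.Dne
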