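import Cfsg.Agent.Lib.GW.Dne.OneComponent

/-!
# The H-lemma

If an element `e` with non-solvable centraliser is fixed by a rotated four-group through `t` and
inverted by an involution `i` commuting with `t`, then no non-trivial `r`-element of `O(C(t))`
inverted by `i` commutes with all elements of `O(C(t))` inverted by `i`.
-/

set_option autoImplicit false

namespace CfsgLib.GW.Dne

open Subgroup CfsgLib.GW CfsgLib.GW.Pair
open CfsgLib.Signalizer (involution_sq involution_inv involution_ne_one orderOf_conj)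
open CfsgLib.TwoGroups CfsgLib.TwoGroups.Dihedral

universe u

variable {G : Type u} [Group G] [Finite G]

/-- An element of odd order is not normalised by the whole group. -/
theorem normalizer_zpowers_ne_top (σ : Hyp G) {x : G} (hx : Odd (orderOf x)) (hx1 : x ≠ 1) {t : G}
    (ht : orderOf t = 2) : normalizer (zpowers x : Set G) ≠ ⊤ := by
  intro e
  haveI := σ.simple
  haveI : (zpowers x).Normal := normalizer_eq_top_iff.1 e
  rcases Subgroup.Normal.eq_bot_or_eq_top (H := zpowers x) inferInstance with h | h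
  · exact hx1 (zpowers_eq_bot.1 h)
  · have h1 : orderOf t ∣ orderOf x := by
      rw [← Nat.card_zpowers x]
      exact orderOf_dvd_natCard _ (h ▸ mem_top t)
    rw [ht] at h1
    exact hx.not_two_dvd_nat h1

theorem four_le_normalizer_zpowers {t i e : G} (het : Commute e t) (hie : i * e * i⁻¹ = e⁻¹) :
    four t i ≤ normalizer (zpowers e : Set G) := by
  refine CfsgLib.GW.four_le (mem_normalizer_of_conj ?_) (mem_normalizer_of_conj ?_) <;>
    rintro _ ⟨j, rfl⟩
  · refine ⟨j, ?_⟩
    show e ^ j = t * e ^ j * t⁻¹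
    rw [conj_eq_of_commute (het.zpow_left j).symm]
  · refine ⟨-j, ?_⟩
    show e ^ (-j) = i * e ^ j * i⁻¹
    rw [← conj_zpow, hie, inv_zpow', zpow_neg]

theorem hLemma (σ : Hyp G) (hC : Components G) : HLemma G := by
  intro r k t u g i e e' hr hr2 hB hRot hi hit he1 hek het heu heg hie hns he'U he'1 he'r hie' hall
  classical
  haveI : Fact r.Prime := ⟨hr⟩
  have h2 : Fact (Nat.Prime 2) := ⟨Nat.prime_two⟩
  have her : IsRElt r e := ⟨k, hek⟩
  have heo : Odd (orderOf e) := odd_of_isRElt hr2 her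
  have ht := hRot.ht
  set X : Subgroup G := centralizer ({e} : Set G) with hX
  have hiX : i ∉ X := fun hiX => he1 (eq_one_of_inv_self heo (by
    rw [← hie]; exact conj_eq_of_commute (commute_of_mem_centralizer hiX)))
  have htX : t ∈ X := mem_centralizer_of_commute het.symm
  have h : Four t i := ⟨ht, hi, fun e0 => hiX (e0 ▸ htX), hit.symm⟩
  have hXN : X ≤ normalizer (zpowers e : Set G) := by
    intro x hx
    refine mem_normalizer_of_conj ?_
    rintro _ ⟨j, rfl⟩
    refine ⟨j, ?_⟩
    show e ^ j = x * e ^ j * x⁻¹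
    rw [conj_eq_of_commute ((commute_of_mem_centralizer hx).zpow_right j)]
  have hiN : i ∈ normalizer (zpowers e : Set G) :=
    four_le_normalizer_zpowers het hie (subset_closure (by simp))
  have hiX' : i ∈ normalizer (X : Set G) := mem_normalizer_of_conj fun x hx => by
    refine mem_centralizer_of_commute ?_
    have h1 := (commute_of_mem_centralizer hx).map (MulAut.conj i).toMonoidHom
    rw [show (MulAut.conj i).toMonoidHom e = e⁻¹ from hie] at h1
    simpa using h1.inv_right
  have htopN := normalizer_zpowers_ne_top σ heo he1 ht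
  have hXtop : X ≠ ⊤ := fun e0 => htopN (top_le_iff.1 (e0 ▸ hXN))
  have hXi : X ⊔ zpowers i ≠ ⊤ := fun e0 =>
    htopN (top_le_iff.1 (e0 ▸ sup_le hXN (zpowers_le.2 hiN)))
  have hF : Fused X t u g :=
    ⟨hXtop, htX, mem_centralizer_of_commute heu.symm, mem_centralizer_of_commute heg.symm, hRot⟩
  obtain ⟨a, haX, hao, hai, hta, hacore⟩ :=
    hC.outerTorus X t u g i hF hns hi hiX hit hiX' hXi
  have ha1 : a ≠ 1 := fun e0 => hacore (e0 ▸ one_mem _)
  -- a rotation of `⟨t, i⟩`
  obtain ⟨c, hc⟩ := isConj_iff.1 (σ.one_class t i ht hi)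
  have hRi : Rot i (c * u * c⁻¹) (c * g * c⁻¹) := by
    have := rot_conj hRot c
    rwa [hc] at this
  obtain ⟨γ, -, hγ⟩ := fused_of_two σ (H := ⊤) h (mem_top _) (mem_top _) (mem_top _) (mem_top _) hRot
    (mem_top _) (mem_top _) hRi
  have hγti : γ * (t * i) * γ⁻¹ = t := (rot_rotate hγ).conj2.trans (by
    rw [← mul_assoc, hit.eq, mul_assoc, involution_sq hi, mul_one])
  -- `x = γ e' γ⁻¹` commutes with `a`
  set a' : G := γ⁻¹ * a * γ with ha'
  have eγ : ∀ z : G, (MulAut.conj γ⁻¹).toMonoidHom z = γ⁻¹ * z * γ := fun z => by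
    show γ⁻¹ * z * γ⁻¹⁻¹ = γ⁻¹ * z * γ
    rw [inv_inv]
  have hγi : γ⁻¹ * i * γ = t := by
    nth_rewrite 1 [← hγ.conj1]; group
  have hγt : γ⁻¹ * t * γ = t * i := by
    nth_rewrite 1 [← hγti]; group
  have ha't : Commute a' t := by
    have h1 := hai.map (MulAut.conj γ⁻¹).toMonoidHom
    rwa [eγ, eγ, hγi] at h1
  have ha'inv : i * a' * i⁻¹ = a'⁻¹ := by
    have h1 : (t * i) * a' * (t * i)⁻¹ = a'⁻¹ := by
      rw [← hγt, ha', show γ⁻¹ * t * γ * (γ⁻¹ * a * γ) * (γ⁻¹ * t * γ)⁻¹ = γ⁻¹ * (t * a * t⁻¹) * γ by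
        group, hta]
      group
    have h3 : i * a' * i⁻¹ = t⁻¹ * a'⁻¹ * t := by
      rw [← h1]; group
    rw [h3, mul_assoc, ha't.inv_left.eq, inv_mul_cancel_left]
  have hcC := centralizer_complement σ.inj σ.range σ.pos ht
  have ha'U : a' ∈ U t := (mem_oddPart hcC).2 ⟨mem_centralizer_of_commute ha't, by
    rw [ha', ← orderOf_conj γ, show γ * (γ⁻¹ * a * γ) * γ⁻¹ = a by group]; exact hao⟩
  have he't : Commute e' t := commute_of_mem_centralizer ((mem_oddPart hcC).1 he'U).1
  set x : G := γ * e' * γ⁻¹ with hx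
  have hax : Commute a x := by
    have h1 := (hall a' ha'U ha'inv).map (MulAut.conj γ).toMonoidHom
    rwa [show (MulAut.conj γ).toMonoidHom a' = a by
      show γ * (γ⁻¹ * a * γ) * γ⁻¹ = a
      group] at h1
  have hxi : Commute x i := by
    have h1 := he't.map (MulAut.conj γ).toMonoidHom
    rwa [show (MulAut.conj γ).toMonoidHom t = i from hγ.conj1] at h1
  have hxt : t * x * t⁻¹ = x⁻¹ := by
    have h1 : (t * i) * x * (t * i)⁻¹ = x⁻¹ := by
      rw [← hγ.conj2, hx, show γ * i * γ⁻¹ * (γ * e' * γ⁻¹) * (γ * i * γ⁻¹)⁻¹ =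
        γ * (i * e' * i⁻¹) * γ⁻¹ by group, hie']
      group
    rwa [show t * i * x * (t * i)⁻¹ = t * (i * x * i⁻¹) * t⁻¹ by group,
      conj_eq_of_commute hxi.symm] at h1
  have hx1 : x ≠ 1 := fun e0 => he'1 (conj_eq_one_iff.1 e0)
  have hxr : IsRElt r x := by
    obtain ⟨m, hm⟩ := he'r
    exact ⟨m, by rw [hx, conj_pow, hm, mul_one, mul_inv_cancel]⟩
  have hxo : Odd (orderOf x) := odd_of_isRElt hr2 hxr
  -- the normaliser of `⟨a⟩`
  set Ca : Subgroup G := centralizer (zpowers a : Set G) with hCa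
  have hmemCa : ∀ {y : G}, Commute a y → y ∈ Ca := fun hy => mem_centralizer_iff.2 fun z hz => by
    obtain ⟨j, rfl⟩ := hz
    exact (hy.zpow_left j).eq
  set M : Subgroup G := normalizer (zpowers a : Set G) with hM
  have hTM : four i t ≤ M := four_le_normalizer_zpowers hai hta
  have hTM' : four t i ≤ M :=
    (CfsgLib.GW.four_le (subset_closure (by simp)) (subset_closure (by simp))).trans hTM
  have heCa : e ∈ Ca := hmemCa (commute_of_mem_centralizer haX)
  have hxCa : x ∈ Ca := hmemCa hax
  have hT2 : IsPGroup 2 (four t i) := isPGroup_four h.ht h.hu h.comm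
  -- two components in one odd invariant subgroup
  have hfinal : ∀ K : Subgroup G, Odd (Nat.card K) → four t i ≤ normalizer (K : Set G) → e ∈ K →
      x ∈ K → False := by
    intro K hK hTK heK hxK
    have hTe := four_le_normalizer_zpowers het hie
    have hTx : four t i ≤ normalizer (zpowers x : Set G) :=
      (CfsgLib.GW.four_le (subset_closure (by simp)) (subset_closure (by simp))).trans
        (four_le_normalizer_zpowers hxi hxt)
    obtain ⟨P, heP, hPK, hP, hPT, hPmax⟩ := exists_invSylow hT2 hK hTK (isPGroup_zpowers her)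
      (zpowers_le.2 heK) hTe
    obtain ⟨d, -, hdT, hdx⟩ := exists_conj_into hT2 hK hTK hP hPK hPT hPmax (isPGroup_zpowers hxr)
      (zpowers_le.2 hxK) hTx
    obtain ⟨hdt, hdi⟩ := Four.mem_centralizer_iff'.1 hdT
    rcases oneComponent σ hC r P t i γ hr hr2 hB hγ hP (hPT (subset_closure (by simp)))
      (hPT (subset_closure (by simp))) with h1 | h1
    · refine he1 (eq_one_of_inv_self heo ?_)
      rw [← hie]
      exact conj_eq_of_commute (h1 e (heP (mem_zpowers e)) het).symm
    · have h3 := h1 _ (hdx (CfsgLib.TwoGroups.conj_mem_map_conj (mem_zpowers x)))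
        ((hdi.mul_left hxi).mul_left hdi.inv_left)
      refine hx1 (eq_one_of_inv_self hxo ?_)
      rw [← hxt]
      refine conj_eq_of_commute ?_
      have h4 := h3.map (MulAut.conj d⁻¹).toMonoidHom
      rw [show (MulAut.conj d⁻¹).toMonoidHom (d * x * d⁻¹) = x by
          show d⁻¹ * (d * x * d⁻¹) * d⁻¹⁻¹ = x
          group,
        show (MulAut.conj d⁻¹).toMonoidHom t = t from conj_eq_of_commute hdt.inv_left] at h4
      exact h4.symm
  by_cases hc' : Cfsg.HasNormalPComplement 2 Ca
  · exact hfinal (oddPart Ca) (odd_oddPart hc')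
      (hTM'.trans ((normalizer_le_normalizer_centralizer _).trans (normalizer_le_oddPart hc')))
      ((mem_oddPart hc').2 ⟨heCa, heo⟩) ((mem_oddPart hc').2 ⟨hxCa, hxo⟩)
  · have hI : Inner M Ca i t := ⟨h.swap, normalizer_zpowers_ne_top σ hao ha1 ht,
      Subgroup.centralizer_le_normalizer _, normalizer_le_normalizer_centralizer _, hc', hmemCa hai,
      hTM (subset_closure (by simp)), fun htC => ha1 (eq_one_of_inv_self hao (by
        rw [← hta]
        exact conj_eq_of_commute (show Commute t a from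
          ((mem_centralizer_iff.1 htC a (mem_zpowers a)) : a * t = t * a).symm)))⟩
    have heM : e ∈ M := hI.le heCa
    have hxcore : x ∈ core M :=
      hI.coprime σ hC hr2 hB heM he1 her het hie (hI.le hxCa) hxr hxi hxt
    set Z : Subgroup G := zpowers e ⊔ core M with hZ
    have hen : zpowers e ≤ normalizer (core M : Set G) :=
      zpowers_le.2 (le_normalizer_core M heM)
    have hZodd : Odd (Nat.card Z) := by
      have h1 := CfsgLib.Core.card_sup_mul_card_inf (zpowers e) (core M) hen
      rw [Nat.card_zpowers] at h1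
      exact (heo.mul (odd_core M)).of_dvd_nat (h1 ▸ dvd_mul_right _ _)
    refine hfinal Z hZodd (fun w hw => mem_normalizer_of_conj fun z hz => ?_)
      (mem_sup_left (mem_zpowers e)) (mem_sup_right hxcore)
    obtain ⟨a₁, ha₁, k₁, hk₁, rfl⟩ := (CfsgLib.Core.mem_sup_iff_mul hen).1 hz
    rw [show w * (a₁ * k₁) * w⁻¹ = w * a₁ * w⁻¹ * (w * k₁ * w⁻¹) by group]
    exact mul_mem
      (mem_sup_left ((mem_normalizer_iff.1 (four_le_normalizer_zpowers het hie hw) a₁).1 ha₁))
      (mem_sup_right ((mem_normalizer_iff.1 (le_normalizer_core M (hTM' hw)) k₁).1 hk₁))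

end CfsgLib.GW.Dne
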