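import Cfsg.Agent.Lib.GW.Dne.Basic
import Cfsg.Agent.Lib.GW.Two.Linear
import Cfsg.Agent.Lib.TwoGroups.FourSubgroups

/-!
# Gorenstein–Walter, Klein case: no fixed linear character with extendible translates

Adaptor from `CfsgLib.GW.Two.no_fixed_linear` to the interface `NoTriple`.
-/

set_option autoImplicit false

namespace CfsgLib.GW.Dne

open Subgroup CfsgLib.GW
open CfsgLib.Signalizer (involution_sq involution_ne_one)

universe u

variable {G : Type u} [Group G] [Finite G]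

theorem fixed_eq_one_of_D_eq_bot {t u : G} (hc : Commute u t) (hD : D t u = ⊥) {l : U t →* ℂˣ}
    (hl : Fixed t u l) : l = 1 := by
  have hn : ∀ x : U t, u * (x : G) * u⁻¹ ∈ U t := fun x =>
    (mem_normalizer_iff.1 (Setting.le_normalizer_U t (mem_centralizer_of_commute hc)) x).1 x.2
  let f : U t → U t := fun x => x⁻¹ * ⟨u * x * u⁻¹, hn x⟩
  have hf : Function.Injective f := by
    intro x y h
    have h' : (x : G)⁻¹ * (u * x * u⁻¹) = (y : G)⁻¹ * (u * y * u⁻¹) := congrArg Subtype.val h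
    have e : u * ((y : G) * (x : G)⁻¹) * u⁻¹ = (y : G) * (x : G)⁻¹ := by
      calc u * ((y : G) * (x : G)⁻¹) * u⁻¹
          = (y : G) * ((y : G)⁻¹ * (u * y * u⁻¹)) * (u * x * u⁻¹)⁻¹ := by group
        _ = (y : G) * ((x : G)⁻¹ * (u * x * u⁻¹)) * (u * x * u⁻¹)⁻¹ := by rw [h']
        _ = (y : G) * (x : G)⁻¹ := by group
    have hmem : (y : G) * (x : G)⁻¹ ∈ D t u :=
      ⟨mul_mem y.2 ((U t).inv_mem x.2), mem_centralizer_of_commute (commute_of_conj_eq e).symm⟩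
    rw [hD, mem_bot, mul_inv_eq_one] at hmem
    exact (Subtype.ext hmem).symm
  refine MonoidHom.ext fun z => ?_
  obtain ⟨x, rfl⟩ := (Finite.surjective_of_injective hf) z
  rw [map_mul, map_inv, hl x ⟨_, hn x⟩ rfl, inv_mul_cancel, MonoidHom.one_apply]

theorem Frame.klein {σ : Hyp G} {t u₁ u₂ g₁ g₂ : G} (h : Frame σ t u₁ u₂ g₁ g₂) (hn : σ.n = 1) :
    ∃ P : Sylow 2 G, IsKleinFour (P : Subgroup G) ∧ t ∈ (P : Subgroup G) ∧ u₁ ∈ (P : Subgroup G) := by
  obtain ⟨P, hP⟩ := h.exists_sylow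
  have ht : t ∈ (P : Subgroup G) := hP ▸ h.t_mem_closure
  have hu : u₁ ∈ (P : Subgroup G) := hP ▸ subset_closure (by simp)
  have hK := CfsgLib.TwoGroups.isKleinFour_fourOf (involution_sq h.ht) (involution_sq h.hu₁)
    h.rot₁.comm (involution_ne_one h.ht) (involution_ne_one h.hu₁) h.rot₁.ne
  refine ⟨P, ?_, ht, hu⟩
  have hle := CfsgLib.TwoGroups.fourOf_le (involution_sq h.ht) (involution_sq h.hu₁) h.rot₁.comm ht hu
  have heq := eq_of_le_of_card_ge hle (by rw [hK.card_four, hP, h.card_closure, hn]; norm_num)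
  rw [← heq]; exact hK

/-- The Klein slice. -/
theorem noTriple : NoTriple G := by
  intro σ t u₁ u₂ g₁ g₂ l hn h hl hT
  obtain ⟨l₁, l₂, hl₁, hl₂, h1, h2⟩ := hT
  by_cases hD : D t u₁ = ⊥
  · exact fixed_eq_one_of_D_eq_bot h.commute₁ hD hl
  obtain ⟨P, hP, htP, huP⟩ := h.klein hn
  obtain ⟨d, hd, hd1⟩ := (bot_or_exists_ne_one (D t u₁)).resolve_left hD
  haveI := σ.simple
  exact CfsgLib.GW.Two.no_fixed_linear P hP σ.one_class htP huP h.ht h.hu₁ h.rot₁.ne (U t) (U_le t)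
    (σ.odd_U h.ht) (fun y hy ho => (σ.mem_U h.ht).2 ⟨hy, ho⟩)
    ⟨d, hd.1, hd1, Hyp.D_commute hd⟩ h.rot₁.conj1 h.rot₁.conj2 l l₁ l₂ hl hl₁ hl₂
    (fun y z hy e => h1 y z ⟨y.2, mem_centralizer_of_commute hy⟩ e)
    (fun y z hy e => h2 y z ⟨y.2, mem_centralizer_of_commute hy⟩ e)

end CfsgLib.GW.Dne
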