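import Cfsg.Agent.Lib.GW.Dne.LinearTwo
import Cfsg.Agent.Lib.GW.Dne.Linear.TriEnd

/-!
# Gorenstein–Walter, Sylow 2-subgroups of order eight: invariance for one class suffices
-/

set_option autoImplicit false

namespace CfsgLib.GW.Dne

open Subgroup CfsgLib.GW
open CfsgLib.Signalizer (orderOf_conj)

universe u

variable {G : Type u} [Group G] [Finite G]

/-- Order eight, non-abelian core: a fixed linear character invariant for one class with a fixed
extension of the rotated character for the other is invariant for both. -/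
theorem invOn_of_triple {σ : Hyp G} {t u₁ u₂ g₁ g₂ : G} (h : Frame σ t u₁ u₂ g₁ g₂) (hn : σ.n = 2)
    {l : U t →* ℂˣ} (hU : ∃ a b : U t, a * b ≠ b * a) (hl₁ : Fixed t u₁ l) (hl₂ : Fixed t u₂ l)
    (hi₂ : InvOn t u₂ g₂ l) (hT : TripleOn t u₁ g₁ l) : InvOn t u₁ g₁ l := by
  classical
  haveI := Fintype.ofFinite G
  haveI := σ.simple
  obtain ⟨l₁, -, hf₁, -, he₁, -⟩ := hT
  have hn' : 2 ≤ σ.n := hn.ge
  by_contra hno
  set K := h.ctx hn' with hK
  haveI := Fintype.ofFinite (Cfsg.IrrCharacter K.R)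
  haveI := Fintype.ofFinite (Cfsg.IrrCharacter G)
  have hw : K.w false = u₁ := h.ctx_w hn' false
  refine DLin.Ctx.Tri.false (K := K) (l := l) (l₁ := l₁) ⟨hn, h.ctx_good hn' hl₁ hl₂,
    h.ctx_inv hn' (i := true) hi₂, fun x y e => hf₁ x y (hw ▸ e), fun x y hx e => ?_, fun hi => hno ?_⟩ hU
  · exact he₁ x y ⟨x.2, mem_centralizer_of_commute (hw ▸ hx)⟩ e
  · intro x y hx e
    exact hi x y (hw.symm ▸ commute_of_mem_centralizer hx.2) e

/-- The dihedral character slice. -/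
theorem noTripleTwo : NoTripleTwo G := by
  intro σ t u₁ u₂ g₁ g₂ l hn h hU hl₁ hl₂ hi₂ hor
  refine noInvTwo σ t u₁ u₂ g₁ g₂ l hn h hU hl₁ hl₂ ?_ hi₂
  rcases hor with hi₁ | ⟨hn2, hT⟩
  · exact hi₁
  · exact invOn_of_triple h hn2 hU hl₁ hl₂ hi₂ hT

end CfsgLib.GW.Dne
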