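import Cfsg.Agent.Lib.GW.Dne.FixedAbelian

/-!
# No linear character of `O(C(t))` is fixed by the `2`-part of `C(t)`: the case division
-/

set_option autoImplicit false

namespace CfsgLib.GW.Dne

open Subgroup CfsgLib.GW

universe u

variable {G : Type u} [Group G] [Finite G]

/-- The characters of exponent `r`. -/
theorem noFixedLinear_prime (C : Components G) (hB : CoreFixed G) (h1 : NoTriple G)
    (h2 : NoTripleTwo G) {σ : Hyp G} {t u₁ u₂ g₁ g₂ : G} (h : Frame σ t u₁ u₂ g₁ g₂) (l : U t →* ℂˣ)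
    (hf₁ : Fixed t u₁ l) (hf₂ : Fixed t u₂ l) {r : ℕ} [Fact r.Prime] (hr : r ≠ 2)
    (hl : ∀ x, l x ^ r = 1) : l = 1 := by
  classical
  obtain ⟨P, hPS⟩ := h.exists_invariant_sylow r
  have hPS' : closure ({u₂, u₁} : Set G) ≤
      normalizer ((P : Subgroup (U t)).map (U t).subtype : Set G) := by
    rwa [Set.pair_comm]
  have hP₁ : u₁ ∈ normalizer ((P : Subgroup (U t)).map (U t).subtype : Set G) :=
    hPS (subset_closure (by simp))
  have hT₁ : TripleOn t u₁ g₁ l := by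
    by_cases hm : ∃ x ∈ (P : Subgroup (U t)).map (U t).subtype, ¬ Commute x u₁
    · exact h.tripleOn_of_invOn l hf₁ (h.invOn_of_moved C hB hr hPS l hl hm)
    · push Not at hm
      exact h.tripleOn_of_inert hr hP₁ hm l hl
  rcases Nat.lt_or_ge σ.n 2 with hn | hn
  · exact h1 σ t u₁ u₂ g₁ g₂ l (by have := σ.pos; omega) h hf₁ hT₁
  · by_cases hab : ∀ x y : U t, x * y = y * x
    · exact h.eq_one_of_comm C hB hr hn hab hPS l hl hf₁ hf₂
    push Not at hab
    by_cases hm₂ : ∃ x ∈ (P : Subgroup (U t)).map (U t).subtype, ¬ Commute x u₂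
    · refine h2 σ t u₁ u₂ g₁ g₂ l hn h hab hf₁ hf₂ (h.symm.invOn_of_moved C hB hr hPS' l hl hm₂) ?_
      by_cases hm₁ : ∃ x ∈ (P : Subgroup (U t)).map (U t).subtype, ¬ Commute x u₁
      · exact Or.inl (h.invOn_of_moved C hB hr hPS l hl hm₁)
      · push Not at hm₁
        rcases Nat.lt_or_ge σ.n 3 with hn3 | hn3
        · exact Or.inr ⟨by omega, hT₁⟩
        · exact Or.inl (h.invOn_of_inert_three C hr hn3 hPS hm₁ l hl)
    · push Not at hm₂
      by_cases hm₁ : ∃ x ∈ (P : Subgroup (U t)).map (U t).subtype, ¬ Commute x u₁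
      · refine h2 σ t u₂ u₁ g₂ g₁ l hn h.symm hab hf₂ hf₁ (h.invOn_of_moved C hB hr hPS l hl hm₁) ?_
        rcases Nat.lt_or_ge σ.n 3 with hn3 | hn3
        · exact Or.inr ⟨by omega, h.symm.tripleOn_of_inert hr (hPS (subset_closure (by simp))) hm₂ l hl⟩
        · exact Or.inl (h.symm.invOn_of_inert_three C hr hn3 hPS' hm₂ l hl)
      · push Not at hm₁
        exact h2 σ t u₁ u₂ g₁ g₂ l hn h hab hf₁ hf₂
          (h.symm.invOn_of_centralized C hr hn hPS' hm₂ hm₁ l hl)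
          (Or.inl (h.invOn_of_centralized C hr hn hPS hm₁ hm₂ l hl))

/-- No fixed linear character. -/
theorem noFixedLinear (C : Components G) (hB : CoreFixed G) (h1 : NoTriple G) (h2 : NoTripleTwo G) :
    NoFixedLinear G := by
  classical
  intro σ t u₁ u₂ g₁ g₂ l h hf₁ hf₂
  by_contra hne
  obtain ⟨x, hx⟩ : ∃ x, l x ≠ 1 := by
    by_contra hall
    push Not at hall
    exact hne (MonoidHom.ext hall)
  set m := Nat.card (U t) with hm
  obtain ⟨r, hr, hrd⟩ := Nat.exists_prime_and_dvd (n := orderOf (l x))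
    (fun e => hx (orderOf_eq_one_iff.1 e))
  haveI : Fact r.Prime := ⟨hr⟩
  -- a power of exponent `r`
  have hfin : ∀ y, l y ^ m = 1 := fun y => by rw [← map_pow, pow_card_eq_one', map_one]
  have hex : ∃ k, ∀ y, (l ^ k) y = 1 := ⟨m, fun y => hfin y⟩
  have hox : orderOf (l x) ∣ m := orderOf_dvd_of_pow_eq_one (hfin x)
  have hr2 : r ≠ 2 := fun e => by
    subst e
    exact (Nat.not_even_iff_odd.2 (σ.odd_U h.ht)) (even_iff_two_dvd.2 (hrd.trans hox))
  -- exponent of `l`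
  obtain ⟨e, he, hemin⟩ : ∃ e, (0 < e ∧ ∀ y, l y ^ e = 1) ∧ ∀ e', 0 < e' → (∀ y, l y ^ e' = 1) → e ≤ e' := by
    have h0 : ∃ e, 0 < e ∧ ∀ y, l y ^ e = 1 := ⟨m, Nat.card_pos, hfin⟩
    exact ⟨Nat.find h0, Nat.find_spec h0, fun e' h1 h2 => Nat.find_min' h0 ⟨h1, h2⟩⟩
  have hre : r ∣ e := hrd.trans (orderOf_dvd_of_pow_eq_one (he.2 x))
  obtain ⟨f, rfl⟩ := hre
  have hf0 : 0 < f := Nat.pos_of_ne_zero fun e0 => by
    have := he.1
    rw [e0] at this
    simp at this
  have key := noFixedLinear_prime C hB h1 h2 h (l ^ f)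
    (fun a b hab => by rw [MonoidHom.pow_apply, MonoidHom.pow_apply, hf₁ a b hab])
    (fun a b hab => by rw [MonoidHom.pow_apply, MonoidHom.pow_apply, hf₂ a b hab]) hr2
    (fun y => by rw [MonoidHom.pow_apply, ← pow_mul, mul_comm]; exact he.2 y)
  have := hemin f hf0 fun y => by rw [← MonoidHom.pow_apply, key, MonoidHom.one_apply]
  have h3 := hr.two_le
  nlinarith

end CfsgLib.GW.Dne
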