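import Cfsg.Agent.Lib.GW.Pair.Contradiction

/-!
# One component

A four-group invariant `r`-subgroup moves `r`-elements in at most one component.
-/

set_option autoImplicit false

namespace CfsgLib.GW.Dne

open Subgroup CfsgLib.GW CfsgLib.GW.Pair

universe u

variable {G : Type u} [Group G] [Finite G]

theorem oneComponent (σ : Hyp G) (hC : Components G) : OneComponent G := by
  intro r R t u g hr hr2 hB hRot hR htR huR
  haveI : Fact r.Prime := ⟨hr⟩
  by_contra hno
  push Not at hno
  obtain ⟨⟨a, ha, hat, hau⟩, b, hb, hbu, hbt⟩ := hno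
  obtain ⟨t', u', E, hE⟩ := exists_good σ hr2 hB hRot hR (CfsgLib.GW.four_le htR huR)
    ha hat hau hb hbu hbt
  exact not_good σ hC hr2 hB hE

end CfsgLib.GW.Dne
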