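import Cfsg.Agent.Lib.GW.Dne.FixedLinear
import Cfsg.Agent.Lib.GW.Pair.Fusion
import Mathlib.GroupTheory.FiniteAbelian.Duality

/-!
# Four-groups with fixed points of odd order: conclusion from the interfaces

With no mixed prime every `O_r(O(C(t)))` is centralised or inverted by each reflection, so
`O(C(t))` is abelian.  Then `N(D t u₁)` is solvable, `D t u₁ = O(C(t))`, the Sylow
`2`-subgroup has order eight and the centraliser of every element of `O(C(t))` other than `1`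
lies in `O(C(t)) ⋊ A₄`.
-/

set_option autoImplicit false

namespace CfsgLib.GW.Dne.Concl

open Subgroup CfsgLib.GW
open CfsgLib.Signalizer (involution_sq involution_inv involution_ne_one orderOf_eq_two_of orderOf_conj)

universe u

variable {G : Type u} [Group G]

theorem rCore_le (r : ℕ) (t : G) : rCore r t ≤ U t := map_subtype_le _

theorem isPGroup_rCore (r : ℕ) (t : G) : IsPGroup r (rCore r t) :=
  (CfsgLib.Core.isPGroup_pCore r _).map _

theorem centralizer_le_normalizer_rCore [Finite G] (r : ℕ) (t : G) :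
    centralizer ({t} : Set G) ≤ normalizer (rCore r t : Set G) := by
  intro c hc
  have hU := Setting.le_normalizer_U t hc
  refine mem_normalizer_of_conj fun x hx => ?_
  obtain ⟨q, hq, rfl⟩ := hx
  let φ : MulAut (U t) := normalizerMonoidHom (U t) ⟨c, hU⟩
  have h1 : φ q ∈ Cfsg.pCore r (U t) := by
    rw [← CfsgLib.Core.map_equiv_pCore φ]
    exact mem_map_of_mem _ hq
  exact ⟨φ q, h1, rfl⟩

/-- A linear character trivial on a proper normal subgroup of a solvable group. -/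
theorem exists_char {H : Type*} [Group H] [Finite H] [Group.IsSolvable H] (N : Subgroup H)
    [N.Normal] (hN : N ≠ ⊤) : ∃ l : H →* ℂˣ, l ≠ 1 ∧ ∀ x ∈ N, l x = 1 := by
  haveI : Nontrivial (H ⧸ N) := QuotientGroup.nontrivial_iff.2 hN
  haveI : Group.IsSolvable (H ⧸ N) :=
    solvable_of_surjective (QuotientGroup.mk'_surjective N)
  have hlt := Group.IsSolvable.commutator_lt_top_of_nontrivial (G := H ⧸ N)
  obtain ⟨a, ha⟩ : ∃ a, a ∉ commutator (H ⧸ N) := by
    by_contra hall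
    push Not at hall
    exact hlt.ne (eq_top_iff.2 fun a _ => hall a)
  have ha' : Abelianization.of a ≠ 1 := fun e => ha ((QuotientGroup.eq_one_iff a).1 e)
  haveI : Finite (Abelianization (H ⧸ N)) := Quotient.finite _
  obtain ⟨φ, hφ⟩ := CommGroup.exists_apply_ne_one_of_hasEnoughRootsOfUnity
    (Abelianization (H ⧸ N)) ℂ ha'
  refine ⟨(φ.comp Abelianization.of).comp (QuotientGroup.mk' N), fun e => ?_, fun x hx => ?_⟩
  · obtain ⟨b, rfl⟩ := QuotientGroup.mk'_surjective N a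
    exact hφ (DFunLike.congr_fun e b)
  · rw [MonoidHom.comp_apply, QuotientGroup.mk'_apply, (QuotientGroup.eq_one_iff x).2 hx, map_one]

/-- Conjugation of `O(C(t))` by an element centralising `t`. -/
noncomputable def conjHom [Finite G] {t w : G} (hw : Commute w t) : U t →* U t where
  toFun x := ⟨w * x * w⁻¹,
    (mem_normalizer_iff.1 (Setting.le_normalizer_U t (mem_centralizer_of_commute hw)) x).1 x.2⟩
  map_one' := Subtype.ext (by simp)
  map_mul' a b := Subtype.ext (by simp [mul_assoc])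

/-- A normal solvable subgroup of a non-solvable fused subgroup does not contain `t`. -/
theorem not_solvable_cover [Finite G] (hNC : NormalCover G) {X : Subgroup G} {t u g : G}
    (hF : Fused X t u g) (hX : ¬ Group.IsSolvable X) (N : Subgroup G) (hN : N ≤ X)
    (hn : X ≤ normalizer (N : Set G)) (ht : t ∈ N) : ¬ Group.IsSolvable N := by
  induction N using WellFoundedLT.induction with
  | ind N ih =>
    intro hs
    haveI := hs
    haveI : Nontrivial N :=
      ⟨⟨⟨t, ht⟩, 1, fun e => involution_ne_one hF.rot.ht (congrArg Subtype.val e)⟩⟩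
    have hlt : ⁅N, N⁆ < N := by
      rw [← N.map_subtype_commutator]
      conv_rhs => rw [← N.range_subtype, MonoidHom.range_eq_map]
      exact (map_lt_map_iff_of_injective N.subtype_injective).2
        (Group.IsSolvable.commutator_lt_top_of_nontrivial (G := N))
    have hnn : X ≤ normalizer ((⁅N, N⁆ : Subgroup G) : Set G) := fun x hx =>
      mem_normalizer_of_conj fun z hz => by
        have h1 : N.map (MulAut.conj x).toMonoidHom ≤ N := by
          rintro _ ⟨y, hy, rfl⟩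
          exact (mem_normalizer_iff.1 (hn hx) y).1 hy
        have h2 : (MulAut.conj x).toMonoidHom z ∈ ⁅N, N⁆.map (MulAut.conj x).toMonoidHom :=
          mem_map_of_mem _ hz
        rw [map_commutator] at h2
        exact commutator_mono h1 h1 h2
    obtain ⟨g', hg'N, hR⟩ := hNC X N t u g hF hX hN hn ht
    have hu : u ∈ N := hR.conj1 ▸ mul_mem (mul_mem hg'N ht) (inv_mem hg'N)
    have ht' : t ∈ ⁅N, N⁆ := by
      have h := commutator_mem_commutator hg'N hu (H₁ := N) (H₂ := N)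
      rwa [commutatorElement_def, hR.conj2, mul_assoc, involution_inv hR.hu, involution_sq hR.hu,
        mul_one] at h
    exact ih _ hlt (hlt.le.trans hN) hnn ht' (CfsgLib.Core.isSolvable_of_le hs hlt.le)

variable [Finite G]

/-- The core of a fused subgroup lies in `O(C(t))`. -/
theorem core_le_U (σ : Hyp G) (hB : ∀ r, r.Prime → CFixed G r) {X : Subgroup G} {t u g : G}
    (hF : Fused X t u g) : core X ≤ U t := by
  have ht := hF.rot.ht
  have hN : zpowers t ≤ normalizer (core X : Set G) :=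
    (zpowers_le.2 hF.mem_t).trans (le_normalizer_core X)
  have hcop := coprime_zpowers_two ht (odd_core X)
  have h1 : (centralizer ({t} : Set G)).subgroupOf (core X) = ⊤ := by
    refine CfsgLib.Core.eq_top_of_forall_exists_sylow_le _ fun p hp _ => ?_
    haveI := Fact.mk hp
    obtain ⟨P, hP⟩ := CfsgLib.Core.exists_invariant_sylow hN hcop
      (Or.inr (CfsgLib.OddLocal.FTFinal.odd_order_solvable (odd_core X))) p
    refine ⟨P, fun x hx => ?_⟩
    rw [mem_subgroupOf]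
    exact mem_centralizer_of_commute (hB p hp X _ t u g hF (P.2.map _) (map_subtype_le _)
      (hP (mem_zpowers t)) _ (mem_map_of_mem _ hx))
  intro x hx
  exact (σ.mem_U ht).2 ⟨commute_of_mem_centralizer (subgroupOf_eq_top.1 h1 hx),
    odd_orderOf_of_mem (odd_core X) hx⟩

/-- A solvable fused subgroup containing `O(C(t))` has it as core. -/
theorem core_eq_U (σ : Hyp G) (C : Components G) (hB : ∀ r, r.Prime → CFixed G r) {X : Subgroup G}
    {t u g : G} (hF : Fused X t u g) (hs : Group.IsSolvable X) (hU : U t ≤ X) : core X = U t :=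
  le_antisymm (core_le_U σ hB hF) fun x hx => C.solvableLocal X t u g x hF hs hx (hU hx)

end CfsgLib.GW.Dne.Concl

namespace CfsgLib.GW.Dne

open Subgroup CfsgLib.GW Concl
open CfsgLib.Signalizer (involution_sq involution_inv involution_ne_one orderOf_eq_two_of orderOf_conj)

universe u

variable {G : Type u} [Group G] [Finite G]

namespace Frame

variable {σ : Hyp G} {t u₁ u₂ g₁ g₂ : G} (h : Frame σ t u₁ u₂ g₁ g₂)

include h

theorem u₁_normalizer_rCore (r : ℕ) : u₁ ∈ normalizer (rCore r t : Set G) :=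
  centralizer_le_normalizer_rCore r t (mem_centralizer_of_commute h.commute₁)

/-- Without mixed primes each `O_r` is centralised or inverted. -/
theorem rCore_cases (hM : NoMixed G) {r : ℕ} (hr : r.Prime) :
    (∀ x ∈ rCore r t, Commute x u₁) ∨ ∀ x ∈ rCore r t, u₁ * x * u₁⁻¹ = x⁻¹ := by
  refine (hM σ t u₁ u₂ g₁ g₂ r h hr).imp id fun hbot x hx => ?_
  obtain ⟨c, hc, i, -, hcu, hiu, rfl⟩ := decomp
    ((σ.odd_U h.ht).of_dvd_nat (card_dvd_of_le (rCore_le r t))) h.hu₁ (h.u₁_normalizer_rCore r) hx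
  have : c = 1 := by
    rw [← mem_bot, ← hbot]
    exact ⟨hc, mem_centralizer_of_commute hcu⟩
  rw [this, one_mul]
  exact hiu

/-- `x⁻¹ u₁ x u₁⁻¹` lies in the Fitting subgroup. -/
theorem twist_mem_fitting (hM : NoMixed G) (x y : U t) (hy : (y : G) = u₁ * x * u₁⁻¹) :
    x⁻¹ * y ∈ Cfsg.fittingSubgroup (U t) := by
  haveI : Group.IsSolvable (U t) := CfsgLib.OddLocal.FTFinal.odd_order_solvable (σ.odd_U h.ht)
  refine CfsgLib.Components.centralizer_fitting_le_of_isSolvable (mem_centralizer_iff.2 fun q hq => ?_)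
  have hle : Cfsg.fittingSubgroup (U t) ≤ centralizer ({x⁻¹ * y} : Set (U t)) := by
    rw [CfsgLib.Core.fittingSubgroup_eq_iSup_pCore]
    refine iSup_le fun p q hq => mem_centralizer_singleton_iff.2 (Subtype.ext ?_)
    have hqr : (q : G) ∈ rCore p t := ⟨q, hq, rfl⟩
    have hxn : ((x : G)) ∈ normalizer (rCore p t : Set G) :=
      centralizer_le_normalizer_rCore _ t (U_le t x.2)
    have e : (y : G) * q * (y : G)⁻¹ = x * q * (x : G)⁻¹ := by
      have hm := (mem_normalizer_iff.1 hxn q).1 hqr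
      have hm' := (mem_normalizer_iff.1 hxn _).1 (inv_mem hqr)
      rw [hy]
      rcases h.rCore_cases hM p.2 with hc | hi
      · calc u₁ * x * u₁⁻¹ * q * (u₁ * x * u₁⁻¹)⁻¹
            = u₁ * (x * (u₁⁻¹ * q * u₁) * (x : G)⁻¹) * u₁⁻¹ := by group
          _ = u₁ * (x * q * (x : G)⁻¹) * u₁⁻¹ := by
            rw [mul_assoc u₁⁻¹ (q : G) u₁, (hc q hqr).eq, inv_mul_cancel_left]
          _ = x * q * (x : G)⁻¹ := conj_eq_of_commute (hc _ hm).symm
      · have hu : u₁⁻¹ * (q : G) * u₁ = (q : G)⁻¹ := by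
          have := hi q hqr
          rwa [involution_inv h.hu₁] at this ⊢
        calc u₁ * x * u₁⁻¹ * q * (u₁ * x * u₁⁻¹)⁻¹
            = u₁ * (x * (u₁⁻¹ * q * u₁) * (x : G)⁻¹) * u₁⁻¹ := by group
          _ = (x * (q : G)⁻¹ * (x : G)⁻¹)⁻¹ := by rw [hu]; exact hi _ hm'
          _ = x * q * (x : G)⁻¹ := by group
    simp only [Subgroup.coe_mul, Subgroup.coe_inv]
    calc (q : G) * ((x : G)⁻¹ * y) = (x : G)⁻¹ * (x * q * (x : G)⁻¹) * y := by group
      _ = (x : G)⁻¹ * y * q := by rw [← e]; group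
  exact mem_centralizer_singleton_iff.1 (hle hq)

theorem fitting_eq_top (hM : NoMixed G) (hL : NoFixedLinear G) :
    Cfsg.fittingSubgroup (U t) = ⊤ := by
  by_contra hne
  haveI : Group.IsSolvable (U t) := CfsgLib.OddLocal.FTFinal.odd_order_solvable (σ.odd_U h.ht)
  obtain ⟨l, hl1, hl⟩ := exists_char _ hne
  refine hl1 (hL σ t u₁ u₂ g₁ g₂ l h ?_ ?_)
  all_goals intro x y hy
  all_goals
    have hx := hl _ (by first | exact h.twist_mem_fitting hM x y hy | exact h.symm.twist_mem_fitting hM x y hy)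
    rw [map_mul, map_inv, inv_mul_eq_one] at hx
    exact hx.symm

/-- Two homomorphisms agreeing on every `O_r` agree. -/
theorem hom_ext (hM : NoMixed G) (hL : NoFixedLinear G) {A : Type*} [Group A] {φ ψ : U t →* A}
    (he : ∀ r, r.Prime → ∀ x : U t, (x : G) ∈ rCore r t → φ x = ψ x) (x : U t) : φ x = ψ x := by
  suffices Cfsg.fittingSubgroup (U t) ≤ φ.eqLocus ψ from this (h.fitting_eq_top hM hL ▸ mem_top x)
  rw [CfsgLib.Core.fittingSubgroup_eq_iSup_pCore]
  exact iSup_le fun p q hq => he p p.2 q ⟨q, hq, rfl⟩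

/-- A core centralised by both reflections is trivial. -/
theorem rCore_eq_bot (hM : NoMixed G) (hL : NoFixedLinear G) {r : ℕ} (hr : r.Prime)
    (h1 : ∀ x ∈ rCore r t, Commute x u₁) (h2 : ∀ x ∈ rCore r t, Commute x u₂) :
    rCore r t = ⊥ := by
  haveI : Group.IsSolvable (U t) := CfsgLib.OddLocal.FTFinal.odd_order_solvable (σ.odd_U h.ht)
  by_contra hne
  have hN : Cfsg.pPrimeCore r (U t) ≠ ⊤ := fun e => hne (by
    have := CfsgLib.Core.pCore_inf_pPrimeCore (G := U t) hr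
    rw [e, inf_top_eq] at this
    rw [rCore, this, Subgroup.map_bot])
  obtain ⟨l, hl1, hl⟩ := exists_char _ hN
  refine hl1 (hL σ t u₁ u₂ g₁ g₂ l h ?_ ?_)
  all_goals intro x y hy
  all_goals
    have key : ∀ w : G, Commute w t → (∀ x ∈ rCore r t, Commute x w) → ∀ (hw : Commute w t) (x : U t),
        (l.comp (conjHom hw)) x = l x := by
      intro w _ hfix hw x
      refine h.hom_ext hM hL (fun p hp x hx => ?_) x
      rcases eq_or_ne p r with rfl | hpr
      · exact congrArg l (Subtype.ext (conj_eq_of_commute (hfix _ hx).symm))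
      · have hmem : ∀ z : U t, (z : G) ∈ rCore p t → l z = 1 := by
          rintro z ⟨q, hq, e⟩
          obtain rfl : q = z := Subtype.ext e
          exact hl _ (CfsgLib.Core.pCore_le_pPrimeCore_of_ne hr hp hpr hq)
        rw [MonoidHom.comp_apply, hmem x hx, hmem _ ((mem_normalizer_iff.1
          (centralizer_le_normalizer_rCore p t (mem_centralizer_of_commute hw)) _).1 hx)]
    first
      | (rw [← key u₁ h.commute₁ h1 h.commute₁ x]; exact congrArg l (Subtype.ext hy))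
      | (rw [← key u₂ h.commute₂ h2 h.commute₂ x]; exact congrArg l (Subtype.ext hy))

theorem comm_U (hM : NoMixed G) (hL : NoFixedLinear G) {x y : G} (hx : x ∈ U t) (hy : y ∈ U t) :
    Commute x y := by
  have hinv : ∀ (u : G) (Q : Subgroup G), (∀ a ∈ Q, u * a * u⁻¹ = a⁻¹) →
      ∀ a ∈ Q, ∀ b ∈ Q, Commute a b := fun u Q hu a ha b hb => by
    have e := hu _ (mul_mem ha hb)
    rw [show u * (a * b) * u⁻¹ = u * a * u⁻¹ * (u * b * u⁻¹) by group, hu a ha, hu b hb] at e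
    exact inv_injective (by rw [mul_inv_rev a b] at e; rw [mul_inv_rev, mul_inv_rev]; exact e.symm)
  have hab : ∀ r, r.Prime → ∀ a ∈ rCore r t, ∀ b ∈ rCore r t, Commute a b := fun r hr => by
    rcases h.rCore_cases hM hr with hc₁ | hi
    · rcases h.symm.rCore_cases hM hr with hc₂ | hi
      · intro a ha b hb
        rw [h.rCore_eq_bot hM hL hr hc₁ hc₂, mem_bot] at ha
        rw [ha]; exact Commute.one_left _
      · exact hinv u₂ _ hi
    · exact hinv u₁ _ hi
  have hF := h.fitting_eq_top hM hL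
  rw [CfsgLib.Core.fittingSubgroup_eq_iSup_pCore] at hF
  have hc : (⊤ : Subgroup (U t)) ≤ centralizer ((⊤ : Subgroup (U t)) : Set (U t)) := by
    rw [← hF]
    refine iSup_le fun p => le_centralizer_iff.1 (iSup_le fun q a ha => mem_centralizer_iff.2 fun b hb => ?_)
    rcases eq_or_ne (p : ℕ) q with e | e
    · exact Subtype.ext (hab q q.2 _ ⟨b, e ▸ hb, rfl⟩ _ ⟨a, ha, rfl⟩).eq
    · exact CfsgLib.Core.commute_pCore_pCore p.2 q.2 e b hb a ha
  exact congrArg Subtype.val (mem_centralizer_iff.1 (hc (mem_top (⟨y, hy⟩ : U t))) ⟨x, hx⟩ (mem_top _))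

/-- An element of prime order lies in its core. -/
theorem mem_rCore (hM : NoMixed G) (hL : NoFixedLinear G) {r : ℕ} (hr : r.Prime) {e : G}
    (he : e ∈ U t) (ho : orderOf e = r) : e ∈ rCore r t := by
  haveI : (zpowers (⟨e, he⟩ : U t)).Normal := ⟨fun a ha b => by
    obtain ⟨k, rfl⟩ := ha
    refine ⟨k, Subtype.ext ?_⟩
    simp only [Subgroup.coe_mul, Subgroup.coe_inv, Subgroup.coe_zpow]
    exact (conj_eq_of_commute ((h.comm_U hM hL b.2 he).zpow_right k)).symm⟩
  exact ⟨_, CfsgLib.Core.le_pCore (IsPGroup.of_card (n := 1)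
    (by rw [Nat.card_zpowers, pow_one, Subgroup.orderOf_mk e he, ho])) (mem_zpowers _), rfl⟩

/-- The reflections commute on `O(C(t))`. -/
theorem act_comm (hM : NoMixed G) (hL : NoFixedLinear G) {x : G} (hx : x ∈ U t) :
    u₁ * (u₂ * x * u₂⁻¹) * u₁⁻¹ = u₂ * (u₁ * x * u₁⁻¹) * u₂⁻¹ := by
  refine congrArg Subtype.val (h.hom_ext hM hL
    (φ := (conjHom h.commute₁).comp (conjHom h.commute₂))
    (ψ := (conjHom h.commute₂).comp (conjHom h.commute₁)) (fun r hr q hq => Subtype.ext ?_) ⟨x, hx⟩)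
  show u₁ * (u₂ * q * u₂⁻¹) * u₁⁻¹ = u₂ * (u₁ * q * u₁⁻¹) * u₂⁻¹
  rcases h.rCore_cases hM hr with h1 | h1 <;> rcases h.symm.rCore_cases hM hr with h2 | h2
  · rw [conj_eq_of_commute (h2 _ hq).symm, conj_eq_of_commute (h1 _ hq).symm,
      conj_eq_of_commute (h2 _ hq).symm]
  · rw [h2 _ hq, conj_eq_of_commute (h1 _ hq).symm, conj_eq_of_commute (h1 _ (inv_mem hq)).symm,
      h2 _ hq]
  · rw [conj_eq_of_commute (h2 _ hq).symm, h1 _ hq, conj_eq_of_commute (h2 _ (inv_mem hq)).symm]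
  · rw [h2 _ hq, h1 _ (inv_mem hq), h1 _ hq, h2 _ (inv_mem hq)]

/-- A non-trivial element of `O(C(t))` has a power of prime order. -/
theorem exists_prime_pow {x : G} (hx : x ∈ U t) (hx1 : x ≠ 1) :
    ∃ r k : ℕ, r.Prime ∧ r ≠ 2 ∧ orderOf (x ^ k) = r := by
  obtain ⟨r, hr, hrd⟩ := Nat.exists_prime_and_dvd (n := orderOf x)
    (fun e => hx1 (orderOf_eq_one_iff.1 e))
  refine ⟨r, orderOf x / r, hr, fun e => ?_, orderOf_pow_orderOf_div (orderOf_pos x).ne' hrd⟩
  exact Nat.not_even_iff_odd.2 (odd_orderOf_of_mem (σ.odd_U h.ht) hx)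
    (even_iff_two_dvd.2 (e ▸ hrd))

/-- `D t u₁` is inverted by the other reflection. -/
theorem D_inverted (hM : NoMixed G) (hL : NoFixedLinear G) {x : G} (hx : x ∈ D t u₁) :
    u₂ * x * u₂⁻¹ = x⁻¹ := by
  set z := u₂ * x * u₂⁻¹ with hz
  have hzU : z ∈ U t := (mem_normalizer_iff.1
    (Setting.le_normalizer_U t (mem_centralizer_of_commute h.commute₂)) x).1 hx.1
  have hz1 : Commute z u₁ := by
    refine (commute_of_conj_eq ?_).symm
    rw [hz, h.act_comm hM hL hx.1, conj_eq_of_commute (Hyp.D_commute hx).symm]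
  have hzz : u₂ * z * u₂⁻¹ = x := by
    rw [hz, show u₂ * (u₂ * x * u₂⁻¹) * u₂⁻¹ = u₂ * u₂ * x * (u₂ * u₂)⁻¹ by group,
      involution_sq h.hu₂]
    simp
  by_contra hne
  have hy1 : x * z ≠ 1 := fun e => hne (inv_eq_of_mul_eq_one_right e).symm
  have hy : Commute (x * z) u₂ := by
    refine (commute_of_conj_eq ?_).symm
    rw [show u₂ * (x * z) * u₂⁻¹ = u₂ * x * u₂⁻¹ * (u₂ * z * u₂⁻¹) by group, hzz, ← hz]
    exact (h.comm_U hM hL hzU hx.1).eq
  have hyU : x * z ∈ U t := mul_mem hx.1 hzU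
  obtain ⟨r, k, hr, -, ho⟩ := h.exists_prime_pow hyU hy1
  have hm := h.mem_rCore hM hL hr (pow_mem hyU k) ho
  have e1 : (x * z) ^ k ≠ 1 := fun e => by rw [e, orderOf_one] at ho; exact hr.one_lt.ne ho
  have hodd := odd_orderOf_of_mem (σ.odd_U h.ht) (pow_mem hyU k)
  refine e1 (mem_bot.1 ?_)
  rw [← h.rCore_eq_bot hM hL hr ?_ ?_]
  · exact hm
  · exact (h.rCore_cases hM hr).resolve_right fun hi =>
      e1 (eq_one_of_fixed_inverted hodd (((Hyp.D_commute hx).mul_left hz1).pow_left k) (hi _ hm))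
  · exact (h.symm.rCore_cases hM hr).resolve_right fun hi =>
      e1 (eq_one_of_fixed_inverted hodd (hy.pow_left k) (hi _ hm))

/-- The Klein case has no fixed points. -/
theorem two_le (hM : NoMixed G) (hL : NoFixedLinear G) (hD : D t u₁ ≠ ⊥) : 2 ≤ σ.n := by
  by_contra hn
  have hn1 : σ.n = 1 := by have := σ.pos; omega
  have e : u₂ = u₁ * t := by
    have := h.pow
    rw [hn1, Nat.sub_self, pow_zero, pow_one] at this
    rw [← this, ← mul_assoc, involution_sq h.hu₁, one_mul]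
  obtain ⟨x, hx, hx1⟩ := (bot_or_exists_ne_one (D t u₁)).resolve_left hD
  refine hx1 (eq_one_of_inv_self (odd_orderOf_of_mem (σ.odd_U h.ht) hx.1) ?_)
  rw [← h.D_inverted hM hL hx, e]
  exact conj_eq_of_commute ((Hyp.D_commute hx).mul_right
    (commute_of_mem_centralizer (U_le t hx.1))).symm

/-- `N(D t u₁)` contains `C(t)`. -/
theorem closure_le_normalizer_D (hM : NoMixed G) (hL : NoFixedLinear G) :
    closure ({u₁, u₂} : Set G) ≤ normalizer (D t u₁ : Set G) := by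
  rw [closure_le]
  intro s hs
  refine mem_normalizer_of_conj fun x hx => ?_
  rcases hs with rfl | rfl
  · rwa [conj_eq_of_commute (Hyp.D_commute hx).symm]
  · rw [h.D_inverted hM hL hx]; exact inv_mem hx

theorem centralizer_le_normalizer_D (hM : NoMixed G) (hL : NoFixedLinear G) :
    centralizer ({t} : Set G) ≤ normalizer (D t u₁ : Set G) := by
  intro c hc
  obtain ⟨a, ha, s, hs, rfl⟩ := h.exists_mul (commute_of_mem_centralizer hc)
  refine mul_mem (mem_normalizer_of_conj fun x hx => ?_) (h.closure_le_normalizer_D hM hL hs)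
  rwa [conj_eq_of_commute (h.comm_U hM hL ha hx.1)]

/-- An element whose centraliser is fused by `g₁` has a solvable centraliser. -/
theorem solvable_centralizer (hM : NoMixed G) (hL : NoFixedLinear G) (hH : HLemma G)
    (hB : ∀ r, r.Prime → CFixed G r) {g x : G} (hg : Rot t u₁ g) (hx : x ∈ D t u₁) (hx1 : x ≠ 1)
    (hxg : Commute x g) : Group.IsSolvable (centralizer ({x} : Set G)) := by
  by_contra hns
  obtain ⟨r, k, hr, hr2, ho⟩ := h.exists_prime_pow hx.1 hx1
  have hle : centralizer ({x} : Set G) ≤ centralizer ({x ^ k} : Set G) := fun y hy =>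
    mem_centralizer_of_commute ((commute_of_mem_centralizer hy).pow_right k)
  have he1 : x ^ k ≠ 1 := fun e => by rw [e, orderOf_one] at ho; exact hr.one_lt.ne ho
  have her : IsRElt r (x ^ k) := ⟨1, by rw [pow_one, ← ho]; exact pow_orderOf_eq_one _⟩
  exact hH r 1 t u₁ g u₂ (x ^ k) (x ^ k) hr hr2 (hB r hr) hg h.hu₂ h.commute₂ he1
    (by rw [pow_one, ← ho]; exact pow_orderOf_eq_one _)
    ((commute_of_mem_centralizer (U_le t hx.1)).pow_left k) ((Hyp.D_commute hx).pow_left k)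
    (hxg.pow_left k) (by rw [← conj_pow, h.D_inverted hM hL hx, inv_pow])
    (fun hs => hns (CfsgLib.Core.isSolvable_of_le hs hle))
    (pow_mem hx.1 k) he1 her (by rw [← conj_pow, h.D_inverted hM hL hx, inv_pow])
    fun y hy _ => h.comm_U hM hL hy (pow_mem hx.1 k)

/-- `N(D t u₁)` is solvable. -/
theorem solvable_normalizer_D (C : Components G) (hM : NoMixed G) (hL : NoFixedLinear G)
    (hH : HLemma G) (hB : ∀ r, r.Prime → CFixed G r) (hD : D t u₁ ≠ ⊥) :
    Fused (normalizer (D t u₁ : Set G)) t u₁ g₁ ∧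
      Group.IsSolvable (normalizer (D t u₁ : Set G)) := by
  set X := normalizer (D t u₁ : Set G) with hX
  have hS := h.closure_le_normalizer_D hM hL
  have hF : Fused X t u₁ g₁ := ⟨σ.normalizer_ne_top_of_odd hD (σ.odd_D h.ht), hS h.t_mem_closure,
    hS (subset_closure (by simp)), σ.rot_mem_normalizer_D h.rot₁, h.rot₁⟩
  refine ⟨hF, ?_⟩
  by_contra hns
  set N := X ⊓ centralizer (D t u₁ : Set G) with hN
  have htN : t ∈ N := ⟨hF.mem_t, mem_centralizer_iff.2 fun y hy =>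
    (commute_of_mem_centralizer (U_le t hy.1)).eq⟩
  obtain ⟨g, hgN, hg⟩ := C.normalCover X N t u₁ g₁ hF hns inf_le_left
    (fun y hy => mem_normalizer_centralizer hy) htN
  obtain ⟨x, hx, hx1⟩ := (bot_or_exists_ne_one (D t u₁)).resolve_left hD
  refine not_solvable_cover C.normalCover hF hns N inf_le_left
    (fun y hy => mem_normalizer_centralizer hy) htN (CfsgLib.Core.isSolvable_of_le
      (h.solvable_centralizer hM hL hH hB hg hx hx1 (mem_centralizer_iff.1 hgN.2 x hx))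
      fun y hy => mem_centralizer_of_commute ((mem_centralizer_iff.1 hy.2 x hx).symm))

/-- `D t u₁` is all of `O(C(t))`. -/
theorem U_commute (C : Components G) (hM : NoMixed G) (hL : NoFixedLinear G) (hH : HLemma G)
    (hB : ∀ r, r.Prime → CFixed G r) (hD : D t u₁ ≠ ⊥) {x : G} (hx : x ∈ U t) : Commute x u₁ := by
  obtain ⟨hF, hs⟩ := h.solvable_normalizer_D C hM hL hH hB hD
  have hU : U t ≤ normalizer (D t u₁ : Set G) :=
    (U_le t).trans (h.centralizer_le_normalizer_D hM hL)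
  refine (commute_of_conj_eq ?_).symm
  refine congrArg Subtype.val (h.hom_ext hM hL (φ := conjHom h.commute₁) (ψ := MonoidHom.id _)
    (fun r hr q hq => Subtype.ext ?_) ⟨x, hx⟩)
  show u₁ * q * u₁⁻¹ = q
  refine conj_eq_of_commute (Commute.symm ?_)
  refine hB r hr _ (rCore r t) u₁ (t * u₁) g₁
    ⟨hF.ne_top, hF.mem_u, mul_mem hF.mem_t hF.mem_u, hF.mem_g, hF.rot.next⟩ (isPGroup_rCore r t) ?_
    (h.u₁_normalizer_rCore r) _ hq
  rw [core_eq_U σ C hB hF hs hU]
  exact rCore_le r t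

theorem eq_one_of_odd_mem_closure {x : G} (hx : x ∈ closure ({u₁, u₂} : Set G))
    (ho : Odd (orderOf x)) : x = 1 := by
  have h2 : orderOf x ∣ 2 ^ (σ.n + 1) := h.card_closure ▸ orderOf_dvd_natCard _ hx
  exact orderOf_eq_one_iff.1 (Nat.eq_one_of_dvd_coprimes
    ((Nat.coprime_two_right.2 ho).pow_right _) dvd_rfl h2)

/-- The four-group of `t` and `u₁` is normal in the solvable fused normaliser. -/
theorem four_normal (C : Components G) (hB : ∀ r, r.Prime → CFixed G r) {X : Subgroup G} {g : G}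
    (hF : Fused X t u₁ g) (hs : Group.IsSolvable X) (hU : U t ≤ X)
    (hS : closure ({u₁, u₂} : Set G) ≤ X) (hfix : ∀ x ∈ U t, Commute x u₁) :
    ∀ x ∈ X, ∀ v ∈ four t u₁, x * v * x⁻¹ ∈ four t u₁ := by
  classical
  haveI := hs
  have : Fact (Nat.Prime 2) := ⟨Nat.prime_two⟩
  obtain ⟨P, hP⟩ := h.exists_sylow
  set O := Cfsg.oddCore X with hO
  set π : X →* X ⧸ O := QuotientGroup.mk' O with hπ
  set PC : Subgroup (X ⧸ O) := Cfsg.pCore 2 (X ⧸ O) with hPC
  haveI hnorm : PC.Normal := CfsgLib.Core.normal_pCore 2 _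
  have hO' : Cfsg.pPrimeCore 2 (X ⧸ O) = ⊥ := CfsgLib.Core.pPrimeCore_quotient_pPrimeCore 2 X
  have hcen := CfsgLib.GW.centralizer_pCore_le_of_solvable hO' (by infer_instance)
  have hker : ∀ {a : X}, π a = 1 → (a : G) ∈ U t := fun {a} ha => by
    rw [← core_eq_U σ C hB hF hs hU]
    exact mem_core_iff.2 ⟨a.2, (QuotientGroup.eq_one_iff _).1 ha⟩
  have hPX : (P : Subgroup G) ≤ X := hP ▸ hS
  have hrep : ∀ y ∈ PC, ∃ s : X, (s : G) ∈ closure ({u₁, u₂} : Set G) ∧ π s = y := by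
    intro y hy
    have h1 := CfsgLib.Core.pCore_le_sylow
      ((P.subtype hPX).mapSurjective (QuotientGroup.mk'_surjective O)) hy
    rw [Sylow.coe_mapSurjective] at h1
    obtain ⟨s, hs', rfl⟩ := h1
    rw [SetLike.mem_coe, Sylow.coe_subtype, mem_subgroupOf, hP] at hs'
    exact ⟨s, hs', rfl⟩
  set tX : X := ⟨t, hF.mem_t⟩ with htX
  set uX : X := ⟨u₁, hF.mem_u⟩ with huX
  have htc : ∀ y ∈ PC, Commute y (π tX) := fun y hy => by
    obtain ⟨s, hs', rfl⟩ := hrep y hy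
    exact (show Commute s tX from
      Subtype.ext (commute_of_mem_centralizer (h.closure_le_centralizer hs')).eq).map π
  have htPC : π tX ∈ PC := hcen (mem_centralizer_iff.2 fun y hy => (htc y hy).eq)
  have heu : π uX = π ⟨g, hF.mem_g⟩ * π tX * (π ⟨g, hF.mem_g⟩)⁻¹ := by
    rw [← map_inv, ← map_mul, ← map_mul]
    exact congrArg π (Subtype.ext (by simp [htX, huX, hF.rot.conj1]))
  have huPC : π uX ∈ PC := heu ▸ hnorm.conj_mem _ htPC _
  have huc : ∀ y ∈ PC, Commute y (π uX) := fun y hy => by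
    have h3 := (htc _ (hnorm.conj_mem y hy (π ⟨g, hF.mem_g⟩)⁻¹)).map
      (MulAut.conj (π ⟨g, hF.mem_g⟩)).toMonoidHom
    rw [heu]
    simpa [mul_assoc] using h3
  have hfour : ∀ v ∈ four t u₁, ∀ hv : v ∈ X, π ⟨v, hv⟩ ∈ PC := by
    intro v hv
    induction hv using closure_induction with
    | mem y hy =>
      intro _
      rcases hy with rfl | rfl
      exacts [htPC, huPC]
    | one => exact fun _ => by rw [show (⟨1, _⟩ : X) = 1 from rfl, map_one]; exact one_mem _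
    | mul y z hy hz ihy ihz =>
      intro _
      have := mul_mem (ihy (four_le hF.mem_t hF.mem_u hy)) (ihz (four_le hF.mem_t hF.mem_u hz))
      rwa [← map_mul] at this
    | inv y hy ih =>
      intro _
      have := inv_mem (ih (four_le hF.mem_t hF.mem_u hy))
      rwa [← map_inv] at this
  have hcomm4 : ∀ a ∈ U t, ∀ s ∈ four t u₁, Commute a s := by
    intro a ha s hs'
    rcases mem_four_cases h.ht h.hu₁ h.rot₁.comm hs' with rfl | rfl | rfl | rfl
    exacts [Commute.one_right _, commute_of_mem_centralizer (U_le _ ha), hfix a ha,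
      (commute_of_mem_centralizer (U_le _ ha)).mul_right (hfix a ha)]
  intro x hx v hv
  have hvX : v ∈ X := four_le hF.mem_t hF.mem_u hv
  have hy : π (⟨x, hx⟩ * ⟨v, hvX⟩ * (⟨x, hx⟩ : X)⁻¹) ∈ PC := by
    rw [map_mul, map_mul, map_inv]
    exact hnorm.conj_mem _ (hfour v hv hvX) _
  obtain ⟨s, hsS, hse⟩ := hrep _ hy
  have hcX : Commute (π s) (π uX) := huc _ (hse ▸ hy)
  have hsu : Commute (s : G) u₁ := by
    have h1 : π (s * uX * s⁻¹ * uX⁻¹) = 1 := by
      rw [map_mul, map_mul, map_mul, map_inv, map_inv, conj_eq_of_commute hcX, mul_inv_cancel]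
    have hu : u₁ ∈ closure ({u₁, u₂} : Set G) := subset_closure (by simp)
    have h2 := h.eq_one_of_odd_mem_closure
      (x := ((s * uX * s⁻¹ * uX⁻¹ : X) : G))
      (mul_mem (mul_mem (mul_mem hsS hu) (inv_mem hsS)) (inv_mem hu))
      (odd_orderOf_of_mem (σ.odd_U h.ht) (hker h1))
    exact commute_of_conj_eq (mul_inv_eq_one.1 h2)
  have hs4 : (s : G) ∈ four t u₁ := Pair.mem_four_of_commute σ
    (W := closure ({u₁, u₂} : Set G)) (hP ▸ P.2) (Pair.four_of_rot hF.rot) h.t_mem_closure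
    (subset_closure (by simp)) hsS (commute_of_mem_centralizer (h.closure_le_centralizer hsS)) hsu
  set a : G := x * v * x⁻¹ * (s : G)⁻¹ with ha
  have haU : a ∈ U t := hker (a := ⟨x, hx⟩ * ⟨v, hvX⟩ * (⟨x, hx⟩ : X)⁻¹ * s⁻¹)
    (by rw [map_mul, ← hse, ← map_mul, mul_inv_cancel, map_one])
  have hsq : ∀ w ∈ four t u₁, w * w = 1 := by
    intro w hw
    rcases mem_four_cases h.ht h.hu₁ h.rot₁.comm hw with rfl | rfl | rfl | rfl
    exacts [mul_one _, involution_sq h.ht, involution_sq h.hu₁, involution_sq h.rot₁.prod_order]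
  have ha2 : a * a = 1 := by
    have e : a * s = x * v * x⁻¹ := by rw [ha, inv_mul_cancel_right]
    have e2 : a * s * (a * s) = 1 := by
      rw [e, show x * v * x⁻¹ * (x * v * x⁻¹) = x * (v * v) * x⁻¹ by group, hsq v hv]
      simp
    rwa [(hcomm4 a haU _ hs4).symm.mul_mul_mul_comm, hsq _ hs4, mul_one] at e2
  have ha1 : a = 1 := eq_one_of_inv_self (odd_orderOf_of_mem (σ.odd_U h.ht) haU)
    (inv_eq_of_mul_eq_one_right ha2)
  rw [ha, mul_inv_eq_one] at ha1
  rw [ha1]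
  exact hs4

theorem n_eq_two (hn : 2 ≤ σ.n) (hmem : u₂ * u₁ * u₂⁻¹ ∈ four t u₁) :
    σ.n = 2 ∧ u₂ * u₁ * u₂⁻¹ = t * u₁ := by
  have hconj : u₂ * t * u₂⁻¹ = t := conj_eq_of_commute h.commute₂
  have hsq : (u₁ * u₂) ^ 2 = u₁ * (u₂ * u₁ * u₂⁻¹) := by
    rw [pow_two, involution_inv h.hu₂]; group
  have hle : 4 ≤ 2 ^ σ.n := le_trans (by norm_num) (Nat.pow_le_pow_right two_pos hn)
  rcases mem_four_cases h.ht h.hu₁ h.rot₁.comm hmem with e | e | e | e
  · exact absurd (conj_eq_one_iff.1 e) (involution_ne_one h.hu₁)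
  · exact absurd (mul_left_cancel (mul_right_cancel (e.trans hconj.symm))) h.rot₁.ne.symm
  · rw [e, involution_sq h.hu₁] at hsq
    have h4 := orderOf_dvd_of_pow_eq_one hsq
    rw [h.ord] at h4
    have := Nat.le_of_dvd two_pos h4
    omega
  · refine ⟨?_, e⟩
    rw [e, ← mul_assoc, h.commute₁.eq, mul_assoc, involution_sq h.hu₁, mul_one] at hsq
    have h4 : (u₁ * u₂) ^ (2 * 2) = 1 := by rw [pow_mul, hsq, pow_two, involution_sq h.ht]
    have h5 := orderOf_dvd_of_pow_eq_one h4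
    rw [h.ord, show (2 * 2 : ℕ) = 2 ^ 2 from rfl] at h5
    have := (Nat.pow_dvd_pow_iff_le_right (show 1 < 2 by norm_num)).1 h5
    omega

/-- The rotation centralises `O(C(t))`. -/
theorem commute_rot (hM : NoMixed G) (hL : NoFixedLinear G)
    (hsw : u₂ * u₁ * u₂⁻¹ = t * u₁) (hgU : g₁ ∈ normalizer (U t : Set G))
    (hfix : ∀ x ∈ U t, Commute x u₁) (hinv : ∀ x ∈ U t, u₂ * x * u₂⁻¹ = x⁻¹) {x : G}
    (hx : x ∈ U t) : Commute x g₁ := by
  have hu2i : u₂⁻¹ = u₂ := involution_inv h.hu₂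
  have hconj : u₂ * t * u₂⁻¹ = t := conj_eq_of_commute h.commute₂
  have hinv' : ∀ y ∈ U t, u₂⁻¹ * y * u₂ = y⁻¹ := fun y hy => by
    have := hinv y hy
    rwa [hu2i] at this ⊢
  have htu : g₁ * (t * u₁) * g₁⁻¹ = t := by
    rw [show g₁ * (t * u₁) * g₁⁻¹ = g₁ * t * g₁⁻¹ * (g₁ * u₁ * g₁⁻¹) by group, h.rot₁.conj1,
      h.rot₁.conj2, ← mul_assoc, h.commute₁.eq, mul_assoc, involution_sq h.hu₁, mul_one]
  have hu2u : u₂⁻¹ * u₁ * u₂ = t * u₁ := by rw [hu2i] at hsw ⊢; exact hsw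
  have hu2t : u₂⁻¹ * t * u₂ = t := by rw [hu2i] at hconj ⊢; exact hconj
  set g' : G := u₂ * g₁ * u₂⁻¹ with hg'
  have hg't : g' * u₁ * g'⁻¹ = t := by
    calc g' * u₁ * g'⁻¹ = u₂ * (g₁ * (u₂⁻¹ * u₁ * u₂) * g₁⁻¹) * u₂⁻¹ := by rw [hg']; group
      _ = t := by rw [hu2u, htu, hconj]
  have hg'u : g' * (t * u₁) * g'⁻¹ = u₁ := by
    calc g' * (t * u₁) * g'⁻¹
        = u₂ * (g₁ * ((u₂⁻¹ * t * u₂) * (u₂⁻¹ * u₁ * u₂)) * g₁⁻¹) * u₂⁻¹ := by rw [hg']; group
      _ = u₂ * (g₁ * u₁ * g₁⁻¹) * u₂⁻¹ := by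
        rw [hu2u, hu2t, ← mul_assoc t t, involution_sq h.ht, one_mul]
      _ = u₁ := by
        rw [h.rot₁.conj2, show u₂ * (t * u₁) * u₂⁻¹ = u₂ * t * u₂⁻¹ * (u₂ * u₁ * u₂⁻¹) by group,
          hconj, hsw, ← mul_assoc, involution_sq h.ht, one_mul]
  have key : ∀ k : G, k * t * k⁻¹ = t → k * u₁ * k⁻¹ = u₁ → ∀ y ∈ U t, k * y * k⁻¹ = y := by
    intro k h1 h2 y hy
    obtain ⟨d, hd, s, hs, rfl⟩ := σ.commute_four h.ht h.hu₁ h.rot₁.ne h.rot₁.comm
      (commute_of_conj_eq h1) (commute_of_conj_eq h2)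
    refine conj_eq_of_commute ((h.comm_U hM hL hd.1 hy).mul_left ?_)
    rcases mem_four_cases h.ht h.hu₁ h.rot₁.comm hs with rfl | rfl | rfl | rfl
    exacts [Commute.one_left _, (commute_of_mem_centralizer (U_le _ hy)).symm, (hfix y hy).symm,
      (commute_of_mem_centralizer (U_le _ hy)).symm.mul_left (hfix y hy).symm]
  have hmem : ∀ y ∈ U t, g₁ * y * g₁⁻¹ ∈ U t := fun y hy => (mem_normalizer_iff.1 hgU y).1 hy
  have hg'act : ∀ y ∈ U t, g' * y * g'⁻¹ = g₁ * y * g₁⁻¹ := fun y hy => by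
    calc g' * y * g'⁻¹ = u₂ * (g₁ * (u₂⁻¹ * y * u₂) * g₁⁻¹) * u₂⁻¹ := by rw [hg']; group
      _ = u₂ * (g₁ * y * g₁⁻¹)⁻¹ * u₂⁻¹ := by rw [hinv' y hy]; group
      _ = (u₂ * (g₁ * y * g₁⁻¹) * u₂⁻¹)⁻¹ := by group
      _ = g₁ * y * g₁⁻¹ := by rw [hinv _ (hmem y hy), inv_inv]
  have e2 : ∀ y ∈ U t, g₁ * (g₁ * y * g₁⁻¹) * g₁⁻¹ = y := fun y hy => by
    have := key (g' * g₁)
      (by rw [show g' * g₁ * t * (g' * g₁)⁻¹ = g' * (g₁ * t * g₁⁻¹) * g'⁻¹ by group, h.rot₁.conj1,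
        hg't])
      (by rw [show g' * g₁ * u₁ * (g' * g₁)⁻¹ = g' * (g₁ * u₁ * g₁⁻¹) * g'⁻¹ by group,
        h.rot₁.conj2, hg'u]) y hy
    rwa [show g' * g₁ * y * (g' * g₁)⁻¹ = g' * (g₁ * y * g₁⁻¹) * g'⁻¹ by group,
      hg'act _ (hmem y hy)] at this
  have e3 := key (g₁ * (g₁ * g₁))
    (by rw [show g₁ * (g₁ * g₁) * t * (g₁ * (g₁ * g₁))⁻¹ =
      g₁ * (g₁ * (g₁ * t * g₁⁻¹) * g₁⁻¹) * g₁⁻¹ by group, h.rot₁.conj1, h.rot₁.conj2, htu])
    (by rw [show g₁ * (g₁ * g₁) * u₁ * (g₁ * (g₁ * g₁))⁻¹ =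
      g₁ * (g₁ * (g₁ * u₁ * g₁⁻¹) * g₁⁻¹) * g₁⁻¹ by group, h.rot₁.conj2, htu, h.rot₁.conj1]) x hx
  rw [show g₁ * (g₁ * g₁) * x * (g₁ * (g₁ * g₁))⁻¹ =
    g₁ * (g₁ * (g₁ * x * g₁⁻¹) * g₁⁻¹) * g₁⁻¹ by group, e2 x hx] at e3
  exact (commute_of_conj_eq e3).symm

/-- An element of the Sylow subgroup centralises `O(C(t))` and lies in the four-group, or inverts
`O(C(t))`. -/
theorem closure_cases (hsw : u₂ * u₁ * u₂⁻¹ = t * u₁) (hfix : ∀ x ∈ U t, Commute x u₁)
    (hinv : ∀ x ∈ U t, u₂ * x * u₂⁻¹ = x⁻¹) {s : G} (hs : s ∈ closure ({u₁, u₂} : Set G)) :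
    s ∈ four t u₁ ∨ ∀ x ∈ U t, s * x * s⁻¹ = x⁻¹ := by
  suffices h' : (s * u₁ * s⁻¹ = u₁ ∧ s ∈ four t u₁) ∨
      (s * u₁ * s⁻¹ = t * u₁ ∧ ∀ x ∈ U t, s * x * s⁻¹ = x⁻¹) from
    h'.imp And.right And.right
  have hfour : ∀ a ∈ four t u₁, a * u₁ * a⁻¹ = u₁ ∧ ∀ x ∈ U t, a * x * a⁻¹ = x := by
    intro a ha
    rcases mem_four_cases h.ht h.hu₁ h.rot₁.comm ha with rfl | rfl | rfl | rfl
    · exact ⟨by group, fun x _ => by group⟩
    · exact ⟨conj_eq_of_commute h.rot₁.comm,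
        fun x hx => conj_eq_of_commute (commute_of_mem_centralizer (U_le _ hx)).symm⟩
    · exact ⟨by group, fun x hx => conj_eq_of_commute (hfix x hx).symm⟩
    · exact ⟨conj_eq_of_commute (h.rot₁.comm.mul_left (Commute.refl _)), fun x hx =>
        conj_eq_of_commute ((commute_of_mem_centralizer (U_le _ hx)).symm.mul_left (hfix x hx).symm)⟩
  have htu : ∀ b : G, Commute b t → b * u₁ * b⁻¹ = t * u₁ → b * (t * u₁) * b⁻¹ = u₁ := by
    intro b hb e
    rw [show b * (t * u₁) * b⁻¹ = b * t * b⁻¹ * (b * u₁ * b⁻¹) by group, e, conj_eq_of_commute hb,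
      ← mul_assoc, involution_sq h.ht, one_mul]
  obtain ⟨P, hP⟩ := h.exists_sylow
  have hW : IsPGroup 2 (closure ({u₁, u₂} : Set G)) := hP ▸ P.2
  have hct : ∀ {b : G}, b ∈ closure ({u₁, u₂} : Set G) → Commute b t := fun hb =>
    commute_of_mem_centralizer (h.closure_le_centralizer hb)
  induction hs using closure_induction with
  | mem y hy =>
    rcases hy with rfl | rfl
    · exact Or.inl ⟨by group, subset_closure (by simp)⟩
    · exact Or.inr ⟨hsw, hinv⟩
  | one => exact Or.inl ⟨by group, one_mem _⟩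
  | mul a b ha hb iha ihb =>
    rcases iha with ⟨ea, ha4⟩ | ⟨ea, hai⟩ <;> rcases ihb with ⟨eb, hb4⟩ | ⟨eb, hbi⟩
    · exact Or.inl ⟨by rw [show a * b * u₁ * (a * b)⁻¹ = a * (b * u₁ * b⁻¹) * a⁻¹ by group, eb, ea],
        mul_mem ha4 hb4⟩
    · refine Or.inr ⟨?_, fun x hx => ?_⟩
      · rw [show a * b * u₁ * (a * b)⁻¹ = a * (b * u₁ * b⁻¹) * a⁻¹ by group, eb,
          show a * (t * u₁) * a⁻¹ = a * t * a⁻¹ * (a * u₁ * a⁻¹) by group, ea,
          conj_eq_of_commute (hct ha)]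
      · rw [show a * b * x * (a * b)⁻¹ = a * (b * x * b⁻¹) * a⁻¹ by group, hbi x hx,
          (hfour a ha4).2 _ (inv_mem hx)]
    · refine Or.inr ⟨?_, fun x hx => ?_⟩
      · rw [show a * b * u₁ * (a * b)⁻¹ = a * (b * u₁ * b⁻¹) * a⁻¹ by group, eb, ea]
      · rw [show a * b * x * (a * b)⁻¹ = a * (b * x * b⁻¹) * a⁻¹ by group, (hfour b hb4).2 x hx,
          hai x hx]
    · have e : a * b * u₁ * (a * b)⁻¹ = u₁ := by
        rw [show a * b * u₁ * (a * b)⁻¹ = a * (b * u₁ * b⁻¹) * a⁻¹ by group, eb,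
          htu a (hct ha) ea]
      exact Or.inl ⟨e, Pair.mem_four_of_commute σ hW (Pair.four_of_rot h.rot₁) h.t_mem_closure
        (subset_closure (by simp)) (mul_mem ha hb) (hct (mul_mem ha hb)) (commute_of_conj_eq e)⟩
  | inv a ha ih =>
    rcases ih with ⟨ea, ha4⟩ | ⟨ea, hai⟩
    · exact Or.inl ⟨(hfour _ (inv_mem ha4)).1, inv_mem ha4⟩
    · refine Or.inr ⟨?_, fun x hx => ?_⟩
      · have e := htu a (hct ha) ea
        calc a⁻¹ * u₁ * a⁻¹⁻¹ = a⁻¹ * (a * (t * u₁) * a⁻¹) * a := by rw [e, inv_inv]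
          _ = t * u₁ := by group
      · calc a⁻¹ * x * a⁻¹⁻¹ = a⁻¹ * (a * x⁻¹ * a⁻¹) * a := by
              rw [hai _ (inv_mem hx), inv_inv, inv_inv]
          _ = x⁻¹ := by group

/-- The centraliser of an element of `O(C(t))`. -/
theorem mem_centralizer_cases (hnorm : ∀ y ∈ normalizer (U t : Set G), ∀ v ∈ four t u₁,
      y * v * y⁻¹ ∈ four t u₁)
    (hsw : u₂ * u₁ * u₂⁻¹ = t * u₁) (hfix : ∀ x ∈ U t, Commute x u₁)
    (hrot : ∀ x ∈ U t, Commute x g₁) (hinv : ∀ x ∈ U t, u₂ * x * u₂⁻¹ = x⁻¹)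
    (hcU : ∀ a ∈ U t, ∀ b ∈ U t, Commute a b)
    {d : G} (hd : d ∈ U t) (hd1 : d ≠ 1) {x : G} (hxN : x ∈ normalizer (U t : Set G))
    (hxd : Commute x d) :
    ∃ a ∈ U t, ∃ b ∈ closure ({t, u₁, g₁} : Set G), x = a * b := by
  have hg : g₁ ∈ closure ({t, u₁, g₁} : Set G) := subset_closure (by simp)
  have h4 : four t u₁ ≤ closure ({t, u₁, g₁} : Set G) :=
    four_le (subset_closure (by simp)) (subset_closure (by simp))
  have hgg : g₁ * g₁ * t * (g₁ * g₁)⁻¹ = t * u₁ := by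
    rw [show g₁ * g₁ * t * (g₁ * g₁)⁻¹ = g₁ * (g₁ * t * g₁⁻¹) * g₁⁻¹ by group, h.rot₁.conj1,
      h.rot₁.conj2]
  have hxt := hnorm x hxN t (subset_closure (by simp))
  obtain ⟨b, hb, hbU, hbt⟩ : ∃ b ∈ closure ({t, u₁, g₁} : Set G),
      (∀ y ∈ U t, Commute y b) ∧ b * t * b⁻¹ = x * t * x⁻¹ := by
    rcases mem_four_cases h.ht h.hu₁ h.rot₁.comm hxt with e | e | e | e
    · exact absurd (conj_eq_one_iff.1 e) (involution_ne_one h.ht)
    · exact ⟨1, one_mem _, fun _ _ => Commute.one_right _, by rw [e]; group⟩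
    · exact ⟨g₁, hg, hrot, h.rot₁.conj1.trans e.symm⟩
    · exact ⟨g₁ * g₁, mul_mem hg hg, fun y hy => (hrot y hy).mul_right (hrot y hy),
        hgg.trans e.symm⟩
  have hct : Commute (b⁻¹ * x) t := commute_of_conj_eq (by
    rw [show b⁻¹ * x * t * (b⁻¹ * x)⁻¹ = b⁻¹ * (x * t * x⁻¹) * b by group, ← hbt]; group)
  obtain ⟨a, ha, s, hs, e⟩ := h.exists_mul hct
  have hxe : x = b * (a * s) := by rw [← e, mul_inv_cancel_left]
  have hds : Commute s d := by
    have h1 : Commute (a * s) d := by rw [← e]; exact (hbU d hd).symm.inv_left.mul_left hxd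
    have h2 := h1
    have h3 : Commute a⁻¹ d := (hcU a ha d hd).inv_left
    simpa using h3.mul_left h2
  rcases h.closure_cases hsw hfix hinv hs with hs4 | hsi
  · refine ⟨a, ha, b * s, mul_mem hb (h4 hs4), ?_⟩
    rw [hxe, ← mul_assoc, ← (hbU a ha).eq, mul_assoc]
  · exact absurd (eq_one_of_fixed_inverted (odd_orderOf_of_mem (σ.odd_U h.ht) hd) hds.symm
      (hsi d hd)) hd1

end Frame

end CfsgLib.GW.Dne

namespace CfsgLib.GW.Dne

open Subgroup CfsgLib.GW Concl
open CfsgLib.Signalizer (involution_sq involution_inv involution_ne_one orderOf_eq_two_of orderOf_conj)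

universe v

/-- Only `A₇` has four-groups with fixed points of odd order. -/
theorem dneConclusion {G : Type v} [Group G] [Finite G] (C : Components G) (hB : CoreFixed G)
    (hH : HLemma G) (hL : NoFixedLinear G) (hM : NoMixed G) (hA : SevenEnd G) :
    DneConclusion G := by
  rintro σ ⟨t, u₁, g, hR, hD⟩
  obtain ⟨u₂, g₁, g₂, h⟩ := σ.exists_frame hR.ht hR.hu hR.ne hR.comm
  -- `O(C(t'))` is abelian for every involution `t'`
  have hab : ∀ t' x y : G, orderOf t' = 2 → x ∈ U t' → y ∈ U t' → Commute x y := by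
    intro t' x y ht' hx hy
    obtain ⟨c, hc⟩ := isConj_iff.1 (σ.one_class t' t ht' hR.ht)
    have hx' := σ.conj_mem_U ht' c hx
    have hy' := σ.conj_mem_U ht' c hy
    rw [hc] at hx' hy'
    have := (h.comm_U hM hL hx' hy').map (MulAut.conj c⁻¹).toMonoidHom
    simpa [mul_assoc] using this
  have hF : ∀ r, r.Prime → CFixed G r := fun r hr => hB r hr (Or.inr ⟨hab, t, u₁, g, hR, hD⟩)
  obtain ⟨hFX, hs⟩ := h.solvable_normalizer_D C hM hL hH hF hD
  have hfix : ∀ x ∈ U t, Commute x u₁ := fun x hx => h.U_commute C hM hL hH hF hD hx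
  have heq : D t u₁ = U t :=
    le_antisymm (Hyp.D_le_U t u₁) fun x hx => ⟨hx, mem_centralizer_of_commute (hfix x hx)⟩
  have hinv : ∀ x ∈ U t, u₂ * x * u₂⁻¹ = x⁻¹ := fun x hx => h.D_inverted hM hL (heq ▸ hx)
  have hS := h.closure_le_normalizer_D hM hL
  rw [heq] at hFX hs hS
  have hnorm := h.four_normal C hF hFX hs le_normalizer hS hfix
  obtain ⟨hn2, hsw⟩ := h.n_eq_two (h.two_le hM hL hD)
    (hnorm u₂ (hS (subset_closure (by simp))) u₁ (subset_closure (by simp)))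
  have hrot : ∀ x ∈ U t, Commute x g₁ := fun x hx =>
    h.commute_rot hM hL hsw hFX.mem_g hfix hinv hx
  refine hA σ t u₁ u₂ g₁ g₂ h hn2 (heq ▸ hD) hfix hrot hinv fun d hd hd1 x hx => ?_
  have hsol := h.solvable_centralizer hM hL hH hF h.rot₁ (heq ▸ hd) hd1 (hrot d hd)
  have hUd : U t ≤ centralizer ({d} : Set G) := fun y hy =>
    mem_centralizer_of_commute (hab t y d hR.ht hy hd)
  have hFd : Fused (centralizer ({d} : Set G)) t u₁ g₁ :=
    ⟨σ.centralizer_ne_top hd1, mem_centralizer_of_commute (commute_of_mem_centralizer (U_le t hd)).symm,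
      mem_centralizer_of_commute (hfix d hd).symm, mem_centralizer_of_commute (hrot d hd).symm, h.rot₁⟩
  have hxN : x ∈ normalizer (U t : Set G) := by
    rw [← core_eq_U σ C hF hFd hsol hUd]
    exact le_normalizer_core _ hx
  exact h.mem_centralizer_cases hnorm hsw hfix hrot hinv (fun a ha b hb => hab t a b hR.ht ha hb)
    hd hd1 hxN (commute_of_mem_centralizer hx)

end CfsgLib.GW.Dne
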