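import Cfsg.Agent.Lib.GW.A7.Main
import Cfsg.Agent.Lib.GW.Dne.Main

/-!
# The end of the dihedral case is the `A₇` configuration
-/

set_option autoImplicit false

namespace CfsgLib.GW.Dne

open Subgroup DihedralGroup CfsgLib.GW
open CfsgLib.Signalizer (involution_sq involution_inv involution_ne_one orderOf_eq_two_of orderOf_conj
  mul_pair_zpow)

universe u

variable {G : Type u} [Group G]

/-- A dihedral group of order eight on two given reflections. -/
theorem exists_hom_eight {x y : G} (hx : orderOf x = 2) (hy : orderOf y = 2)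
    (hc : orderOf (x * y) = 4) :
    ∃ f : DihedralGroup (2 ^ 2) →* G, Function.Injective f ∧ f.range = closure ({x, y} : Set G) ∧
      f (r 2) = (x * y) ^ 2 ∧ f (sr 0) = x ∧ f (sr 1) = y := by
  set c := x * y with hcdef
  let φ : DihedralGroup (2 ^ 2) → G := fun d => match d with
    | .r i => c ^ (i.cast : ℤ)
    | .sr i => x * c ^ (i.cast : ℤ)
  have hpow : ∀ a b : ℤ, (a : ZMod (2 ^ 2)) = b → c ^ a = c ^ b := by
    intro a b hab
    rw [ZMod.intCast_eq_intCast_iff] at hab
    refine zpow_eq_zpow_iff_modEq.mpr ?_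
    rw [hc]
    exact hab
  have hmul : ∀ a b, φ (a * b) = φ a * φ b := by
    rintro (i | i) (j | j)
    · show c ^ _ = c ^ _ * c ^ _
      rw [← zpow_add]; apply hpow; simp
    · show x * c ^ _ = c ^ _ * (x * c ^ _)
      rw [← mul_assoc, show c ^ (i.cast : ℤ) * x = x * c ^ (-(i.cast : ℤ)) by
        rw [hcdef, mul_pair_zpow hx hy, neg_neg], mul_assoc, ← zpow_add]
      congr 1; apply hpow; simp [sub_eq_neg_add]
    · show x * c ^ _ = x * c ^ _ * c ^ _
      rw [mul_assoc, ← zpow_add]; congr 1; apply hpow; simp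
    · show c ^ _ = x * c ^ _ * (x * c ^ _)
      rw [hcdef, mul_pair_zpow hx hy, mul_assoc, ← mul_assoc x x, involution_sq hx, one_mul,
        ← zpow_add]
      apply hpow; simp [sub_eq_neg_add]
  set f : DihedralGroup (2 ^ 2) →* G := MonoidHom.mk' φ hmul with hf
  have e2 : f (r 2) = c ^ 2 := by
    show c ^ ((2 : ZMod (2 ^ 2)).cast : ℤ) = c ^ 2
    rw [← zpow_natCast c 2]; congr 1
  have e0 : f (sr 0) = x := by
    show x * c ^ ((0 : ZMod (2 ^ 2)).cast : ℤ) = x
    simp
  have e1 : f (sr 1) = y := by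
    show x * c ^ ((1 : ZMod (2 ^ 2)).cast : ℤ) = y
    rw [show ((1 : ZMod (2 ^ 2)).cast : ℤ) = 1 from rfl, zpow_one, hcdef, ← mul_assoc,
      involution_sq hx, one_mul]
  have hinj : Function.Injective f := by
    obtain ⟨F, hF, hR⟩ := CfsgLib.Signalizer.exists_dihedral_hom hx hy
    have hle : closure ({x, y} : Set G) ≤ f.range := by
      rw [closure_le]
      intro z hz
      rcases hz with rfl | rfl
      exacts [⟨_, e0⟩, ⟨_, e1⟩]
    haveI : Finite (F.range) := by
      haveI : NeZero (orderOf (x * y)) := ⟨by rw [← hcdef, hc]; norm_num⟩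
      exact Finite.of_surjective _ F.rangeRestrict_surjective
    have h8 : Nat.card (closure ({x, y} : Set G)) = 8 := by
      rw [← hR, ← Nat.card_congr (MonoidHom.ofInjective hF).toEquiv, DihedralGroup.nat_card,
        ← hcdef, hc]
    have hsurj : Function.Surjective f.rangeRestrict := f.rangeRestrict_surjective
    haveI : Finite f.range := Finite.of_surjective _ hsurj
    have hge : Nat.card (DihedralGroup (2 ^ 2)) ≤ Nat.card f.range := by
      rw [DihedralGroup.nat_card]
      calc 2 * 2 ^ 2 = Nat.card (closure ({x, y} : Set G)) := by rw [h8]; norm_num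
        _ ≤ Nat.card f.range :=
          Nat.card_le_card_of_injective _ (inclusion_injective hle)
    have hbij := hsurj.bijective_of_nat_card_le hge
    intro a b e
    exact hbij.1 (Subtype.ext e)
  refine ⟨f, hinj, le_antisymm ?_ ?_, e2, e0, e1⟩
  · rintro _ ⟨i | i, rfl⟩
    · exact zpow_mem (mul_mem (subset_closure (by simp)) (subset_closure (by simp))) _
    · exact mul_mem (subset_closure (by simp))
        (zpow_mem (mul_mem (subset_closure (by simp)) (subset_closure (by simp))) _)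
  · rw [closure_le]
    intro z hz
    rcases hz with rfl | rfl
    exacts [⟨_, e0⟩, ⟨_, e1⟩]

variable [Finite G]

/-- `SevenEnd` holds: the configuration is that of `A₇`. -/
theorem sevenEnd : SevenEnd G := by
  intro σ t u₁ u₂ g₁ g₂ h hn hU hfix hrot hinv hcen
  haveI := σ.simple
  have hord : orderOf (u₁ * u₂) = 4 := by rw [h.ord, hn]; norm_num
  have hpow : (u₁ * u₂) ^ 2 = t := by
    have := h.pow
    rwa [hn, show 2 - 1 = 1 from rfl, pow_one] at this
  have hsw : u₂ * u₁ * u₂⁻¹ = t * u₁ := by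
    rw [← h.commute₁.eq, involution_inv h.hu₂, ← hpow, pow_two]
    calc u₂ * u₁ * u₂ = u₁ * u₁ * (u₂ * u₁ * u₂) := by rw [involution_sq h.hu₁, one_mul]
      _ = _ := by group
  obtain ⟨f, hf, hfr, hft, hf0, hf1⟩ := exists_hom_eight h.hu₁ h.hu₂ hord
  rw [hpow] at hft
  obtain ⟨P, hP⟩ := h.exists_sylow
  -- `U t` is abelian
  have hcU : ∀ a ∈ U t, ∀ b ∈ U t, Commute a b := by
    intro a ha b hb
    have e := hinv _ (mul_mem ha hb)
    rw [show u₂ * (a * b) * u₂⁻¹ = u₂ * a * u₂⁻¹ * (u₂ * b * u₂⁻¹) by group, hinv a ha, hinv b hb,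
      ← mul_inv_rev] at e
    exact (inv_injective e).symm
  -- the subgroup `⟨t, u₁, g₁⟩` centralises `U t` and normalises the four-group
  have hA1 : closure ({t, u₁, g₁} : Set G) ≤ centralizer (U t : Set G) := by
    rw [closure_le]
    intro b hb
    refine mem_centralizer_iff.2 fun a ha => ?_
    rcases hb with rfl | rfl | rfl
    exacts [(commute_of_mem_centralizer (U_le _ ha)).eq, (hfix a ha).eq, (hrot a ha).eq]
  have htg : g₁ * (t * u₁) * g₁⁻¹ = t := by
    rw [show g₁ * (t * u₁) * g₁⁻¹ = g₁ * t * g₁⁻¹ * (g₁ * u₁ * g₁⁻¹) by group, h.rot₁.conj1,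
      h.rot₁.conj2, ← mul_assoc, h.commute₁.eq, mul_assoc, involution_sq h.hu₁, mul_one]
  have hA2 : closure ({t, u₁, g₁} : Set G) ≤ normalizer (four t u₁ : Set G) := by
    rw [closure_le]
    intro b hb
    have h4t : t ∈ four t u₁ := subset_closure (by simp)
    have h4u : u₁ ∈ four t u₁ := subset_closure (by simp)
    refine mem_normalizer_of_conj fun v hv => ?_
    rcases hb with rfl | rfl | rfl
    · exact mul_mem (mul_mem h4t hv) (inv_mem h4t)
    · exact mul_mem (mul_mem h4u hv) (inv_mem h4u)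
    · rcases mem_four_cases h.ht h.hu₁ h.rot₁.comm hv with e | e | e | e <;> subst e
      · simp
      · rw [h.rot₁.conj1]; exact h4u
      · rw [h.rot₁.conj2]; exact mul_mem h4t h4u
      · rw [htg]; exact h4t
  have hAd : ∀ d ∈ U t, d ≠ 1 → centralizer ({d} : Set G) ≤ centralizer (U t : Set G) := by
    intro d hd hd1 x hx
    obtain ⟨a, ha, b, hb, rfl⟩ := hcen d hd hd1 x hx
    exact mul_mem (mem_centralizer_iff.2 fun y hy => (hcU y hy a ha).eq) (hA1 hb)
  obtain ⟨d₀, hd₀, hd₀1⟩ := (bot_or_exists_ne_one (U t)).resolve_left hU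
  have hU4 : ∀ a ∈ U t, ∀ v ∈ four t u₁, Commute a v := by
    intro a ha v hv
    rcases mem_four_cases h.ht h.hu₁ h.rot₁.comm hv with rfl | rfl | rfl | rfl
    exacts [Commute.one_right _, commute_of_mem_centralizer (U_le _ ha), hfix a ha,
      (commute_of_mem_centralizer (U_le _ ha)).mul_right (hfix a ha)]
  -- the orders
  set S₀ := closure ({u₁, u₂} : Set G) with hS₀
  have hcop : ∀ W : Subgroup G, Nat.card W ∣ 2 ^ (σ.n + 1) →
      (Nat.card W).Coprime (Nat.card (U t)) := fun W hW =>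
    ((Nat.coprime_two_left.2 (σ.odd_U h.ht)).pow_left (σ.n + 1)).coprime_dvd_left hW
  have hCeq : S₀ ⊔ U t = centralizer ({t} : Set G) := le_antisymm
    (sup_le h.closure_le_centralizer (U_le t)) fun c hc => by
      obtain ⟨a, ha, s, hs, rfl⟩ := h.exists_mul (commute_of_mem_centralizer hc)
      exact mul_mem (mem_sup_right ha) (mem_sup_left hs)
  have hcardC : Nat.card (centralizer ({t} : Set G)) = 8 * Nat.card (U t) := by
    rw [← hCeq, CfsgLib.Core.card_sup_of_coprime S₀ (U t)
      (h.closure_le_centralizer.trans (Setting.le_normalizer_U t))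
      (hcop _ (h.card_closure ▸ dvd_rfl)), h.card_closure, hn]
    norm_num
  set X₀ := centralizer (U t : Set G) with hX₀
  set K := four t u₁ ⊔ U t with hK
  have hK_card : Nat.card K = 4 * Nat.card (U t) := by
    have h4 : Nat.card (four t u₁) = 4 := (Pair.four_of_rot h.rot₁).card
    rw [hK, CfsgLib.Core.card_sup_of_coprime _ (U t)
      (fun v hv => Setting.le_normalizer_U t (mem_centralizer_of_commute
        (Pair.commute_of_mem (Pair.four_of_rot h.rot₁) hv).1))
      (hcop _ (by rw [h4, hn]; norm_num)), h4]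
  have hKX : K ≤ X₀ := sup_le (fun v hv => mem_centralizer_iff.2 fun a ha => (hU4 a ha v hv).eq)
    fun a ha => mem_centralizer_iff.2 fun b hb => (hcU b hb a ha).eq
  have hgX : g₁ ∈ X₀ := hA1 (subset_closure (by simp))
  have hstab : ∀ x ∈ X₀, Commute x t → x ∈ K := by
    intro x hx hxt
    obtain ⟨a, ha, s, hs, rfl⟩ := h.exists_mul hxt
    refine mul_mem (mem_sup_right ha) (mem_sup_left ?_)
    rcases h.closure_cases hsw hfix hinv hs with h4 | hi
    · exact h4
    · exfalso
      have h1 : Commute (a * s) d₀ := (mem_centralizer_iff.1 hx d₀ hd₀).symm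
      have h2 : Commute s d₀ := by
        simpa using (hcU a ha d₀ hd₀).inv_left.mul_left h1
      exact hd₀1 (eq_one_of_fixed_inverted (odd_orderOf_of_mem (σ.odd_U h.ht) hd₀) h2.symm
        (hi d₀ hd₀))
  have hKt : ∀ k ∈ K, k * t * k⁻¹ = t := fun k hk => conj_eq_of_commute
    (commute_of_mem_centralizer ((sup_le (fun v hv => mem_centralizer_of_commute
      (Pair.commute_of_mem (Pair.four_of_rot h.rot₁) hv).1) (U_le t) :
        K ≤ centralizer ({t} : Set G)) hk))
  have hgp : ∀ i : Fin 3, g₁ ^ (i : ℕ) * t * (g₁ ^ (i : ℕ))⁻¹ = ![t, u₁, t * u₁] i := by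
    intro i
    fin_cases i
    · simp
    · simpa using h.rot₁.conj1
    · show g₁ ^ 2 * t * (g₁ ^ 2)⁻¹ = t * u₁
      rw [pow_two, show g₁ * g₁ * t * (g₁ * g₁)⁻¹ = g₁ * (g₁ * t * g₁⁻¹) * g₁⁻¹ by group,
        h.rot₁.conj1, h.rot₁.conj2]
  have hcardX : Nat.card X₀ = 12 * Nat.card (U t) := by
    have hbij : Function.Bijective (fun p : Fin 3 × K =>
        (⟨g₁ ^ (p.1 : ℕ) * p.2, mul_mem (pow_mem hgX _) (hKX p.2.2)⟩ : X₀)) := by
      constructor
      · rintro ⟨i, k⟩ ⟨j, l⟩ e
        have e' : g₁ ^ (i : ℕ) * (k : G) = g₁ ^ (j : ℕ) * l := congrArg Subtype.val e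
        have hij : i = j := by
          have hi : ∀ (i : Fin 3) (k : K), g₁ ^ (i : ℕ) * (k : G) * t * (g₁ ^ (i : ℕ) * (k : G))⁻¹ =
              ![t, u₁, t * u₁] i := fun i k => by
            rw [← hgp i, show g₁ ^ (i : ℕ) * (k : G) * t * (g₁ ^ (i : ℕ) * (k : G))⁻¹ =
              g₁ ^ (i : ℕ) * ((k : G) * t * (k : G)⁻¹) * (g₁ ^ (i : ℕ))⁻¹ by group, hKt k k.2]
          have h3 : ![t, u₁, t * u₁] i = ![t, u₁, t * u₁] j := by rw [← hi i k, ← hi j l, e']
          have n1 := h.rot₁.ne
          have n2 := involution_ne_one h.hu₁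
          have n3 := involution_ne_one h.ht
          fin_cases i <;> fin_cases j <;>
            simp [n1, n1.symm, mul_eq_left, left_eq_mul, mul_eq_right, right_eq_mul, n2, n3] at h3 ⊢
        subst hij
        exact Prod.ext rfl (Subtype.ext (mul_left_cancel e'))
      · rintro ⟨x, hx⟩
        obtain ⟨a, ha, b, hb, e⟩ := hcen d₀ hd₀ hd₀1 x
          (mem_centralizer_of_commute (mem_centralizer_iff.1 hx d₀ hd₀).symm)
        have hxt : x * t * x⁻¹ ∈ four t u₁ := by
          have hbt := (mem_normalizer_iff.1 (hA2 hb) t).1 (subset_closure (by simp))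
          rw [e, show a * b * t * (a * b)⁻¹ = a * (b * t * b⁻¹) * a⁻¹ by group,
            conj_eq_of_commute (hU4 a ha _ hbt)]
          exact hbt
        obtain ⟨i, hi⟩ : ∃ i : Fin 3, x * t * x⁻¹ = ![t, u₁, t * u₁] i := by
          rcases mem_four_cases h.ht h.hu₁ h.rot₁.comm hxt with e | e | e | e
          · exact absurd (conj_eq_one_iff.1 e) (involution_ne_one h.ht)
          exacts [⟨0, e⟩, ⟨1, e⟩, ⟨2, e⟩]
        refine ⟨(i, ⟨(g₁ ^ (i : ℕ))⁻¹ * x, hstab _ (mul_mem (inv_mem (pow_mem hgX _)) hx) ?_⟩),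
          Subtype.ext (mul_inv_cancel_left _ _)⟩
        refine commute_of_conj_eq ?_
        rw [show (g₁ ^ (i : ℕ))⁻¹ * x * t * ((g₁ ^ (i : ℕ))⁻¹ * x)⁻¹ =
          (g₁ ^ (i : ℕ))⁻¹ * (x * t * x⁻¹) * g₁ ^ (i : ℕ) by group, hi, ← hgp i]
        group
    rw [← Nat.card_eq_of_bijective _ hbij, Nat.card_prod, Nat.card_eq_fintype_card,
      Fintype.card_fin, hK_card, ← mul_assoc, show 3 * 4 = 12 from rfl]
  exact CfsgLib.GW.A7Data.iso_alternating_seven
    { S := P
      f := f
      inj := hf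
      range := hfr.trans hP.symm
      one_class := σ.one_class
      D := U t
      odd_D := σ.odd_U h.ht
      D_ne := hU
      D_le := by rw [hft]; exact U_le t
      card_C := by rw [hft]; exact hcardC
      fix := fun d hd => by rw [hf0]; exact conj_eq_of_commute (hfix d hd).symm
      inv := fun d hd => by rw [hf1]; exact hinv d hd
      g := g₁
      g_fix := fun d hd => (hrot d hd).symm
      rot := by rw [hft, hf0]; exact h.rot₁
      card_X := hcardX
      cent := fun d hd hd1 => hAd d hd hd1 }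

end CfsgLib.GW.Dne
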