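import Cfsg.Agent.Lib.Known.AutPSL.FieldClass
import Cfsg.Agent.Lib.Known.AutPSL.Structure
import Cfsg.Agent.Lib.Known.SL2ClassSizes
import Cfsg.Agent.Lib.Classical.Dickson.KleinClasses
import Cfsg.Agent.Lib.Classical.Dickson.SubgroupFacts

/-!
# `PSL 2 F` and its automorphisms: centralisers, involutions

* two elements of `PGL 2 F` centralising an element whose square is nontrivial commute;
* an element of order greater than two commutes with at most one involution of `PGL 2 F`;
* the involutions of `PSL 2 F`, `q` odd, have centralisers of order `q - ε`.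
-/

set_option autoImplicit false

open Matrix

namespace CfsgLib.GW.Dne.PSLAut

open CfsgLib.Known.AutPSL

variable {F : Type*} [Field F]

/-- Two matrices commuting with a non-scalar `2 × 2` matrix commute. -/
theorem commute_of_commute_nonscalar {g h k : Matrix (Fin 2) (Fin 2) F}
    (hg : ¬ (g 0 1 = 0 ∧ g 1 0 = 0 ∧ g 0 0 = g 1 1)) (hh : h * g = g * h) (hk : k * g = g * k) :
    h * k = k * h := by
  have key : ∀ {x : Matrix (Fin 2) (Fin 2) F}, x * g = g * x →
      x 0 1 * g 1 0 = g 0 1 * x 1 0 ∧ x 0 1 * (g 0 0 - g 1 1) = g 0 1 * (x 0 0 - x 1 1) ∧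
        x 1 0 * (g 0 0 - g 1 1) = g 1 0 * (x 0 0 - x 1 1) := by
    intro x hx
    have a := congrFun (congrFun hx 0) 0
    have b := congrFun (congrFun hx 0) 1
    have c := congrFun (congrFun hx 1) 0
    simp only [Matrix.mul_apply, Fin.sum_univ_two] at a b c
    exact ⟨by linear_combination a, by linear_combination -b, by linear_combination c⟩
  obtain ⟨h1, h2, h3⟩ := key hh
  obtain ⟨k1, k2, k3⟩ := key hk
  have e : h 0 1 * k 1 0 = k 0 1 * h 1 0 ∧ h 0 1 * (k 0 0 - k 1 1) = k 0 1 * (h 0 0 - h 1 1) ∧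
      h 1 0 * (k 0 0 - k 1 1) = k 1 0 * (h 0 0 - h 1 1) := by
    by_cases hq : g 0 1 = 0
    · by_cases hr : g 1 0 = 0
      · have hd : g 0 0 - g 1 1 ≠ 0 := fun e => hg ⟨hq, hr, sub_eq_zero.1 e⟩
        rw [hq, zero_mul] at h2 k2
        rw [hr, zero_mul] at h3 k3
        simp [(mul_eq_zero.1 h2).resolve_right hd, (mul_eq_zero.1 k2).resolve_right hd,
          (mul_eq_zero.1 h3).resolve_right hd, (mul_eq_zero.1 k3).resolve_right hd]
      · refine ⟨mul_left_cancel₀ hr ?_, mul_left_cancel₀ hr ?_, mul_left_cancel₀ hr ?_⟩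
        · linear_combination k 1 0 * h1 - h 1 0 * k1
        · linear_combination (k 0 0 - k 1 1) * h1 - (h 0 0 - h 1 1) * k1 +
            (h 1 0 * (k 0 0 - k 1 1) - k 1 0 * (h 0 0 - h 1 1)) * hq
        · linear_combination -h 1 0 * k3 + k 1 0 * h3
    · have e2 : h 0 1 * (k 0 0 - k 1 1) = k 0 1 * (h 0 0 - h 1 1) :=
        mul_left_cancel₀ hq (by linear_combination -h 0 1 * k2 + k 0 1 * h2)
      refine ⟨mul_left_cancel₀ hq ?_, e2, mul_left_cancel₀ hq ?_⟩
      · linear_combination k 0 1 * h1 - h 0 1 * k1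
      · linear_combination -(k 0 0 - k 1 1) * h1 + (h 0 0 - h 1 1) * k1 + g 1 0 * e2
  obtain ⟨e1, e2, e3⟩ := e
  ext i j
  fin_cases i <;> fin_cases j <;> simp [Matrix.mul_apply, Fin.sum_univ_two]
  · linear_combination e1
  · linear_combination -e2
  · linear_combination e3
  · linear_combination -e1

theorem innDiag_eq_iff {g h : GL (Fin 2) F} [Fintype F] :
    innDiag 2 F g = innDiag 2 F h ↔
      ∃ c : F, (h : Matrix (Fin 2) (Fin 2) F) = c • (g : Matrix (Fin 2) (Fin 2) F) := by
  rw [innDiag_apply, innDiag_apply, ← mkAut_false, ← mkAut_false, mkAut_eq_iff le_rfl fun _ => ⟨rfl, rfl⟩]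
  simp

variable [Fintype F]

/-- Elements of `PGL 2 F` commuting with a `g` with `g * g ≠ 1` come from commuting matrices. -/
theorem commute_lift {g h : GL (Fin 2) F} (hg : innDiag 2 F g * innDiag 2 F g ≠ 1)
    (hh : Commute (innDiag 2 F g) (innDiag 2 F h)) :
    (h : Matrix (Fin 2) (Fin 2) F) * (g : Matrix (Fin 2) (Fin 2) F) =
      (g : Matrix (Fin 2) (Fin 2) F) * (h : Matrix (Fin 2) (Fin 2) F) := by
  have h1 : innDiag 2 F (g * h) = innDiag 2 F (h * g) := by rw [map_mul, map_mul]; exact hh.eq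
  obtain ⟨c, hc⟩ := innDiag_eq_iff.1 h1
  rw [Units.val_mul, Units.val_mul] at hc
  set A := (g : Matrix (Fin 2) (Fin 2) F)
  set B := (h : Matrix (Fin 2) (Fin 2) F)
  have hA : A.det ≠ 0 := (GeneralLinearGroup.det g).ne_zero
  have hB : B.det ≠ 0 := (GeneralLinearGroup.det h).ne_zero
  have hd := congrArg Matrix.det hc
  rw [Matrix.det_smul, Matrix.det_mul, Matrix.det_mul, Fintype.card_fin] at hd
  have hc2 : (c - 1) * (c + 1) = 0 := by
    refine (mul_eq_zero.1 (show (c - 1) * (c + 1) * (A.det * B.det) = 0 by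
      linear_combination -hd)).resolve_right (mul_ne_zero hA hB)
  rcases mul_eq_zero.1 hc2 with e | e
  · rw [hc, sub_eq_zero.1 e, one_smul]
  · rw [eq_neg_of_add_eq_zero_left e, neg_one_smul] at hc
    by_cases h2 : (2 : F) = 0
    · have h11 : (-1 : F) = 1 := by linear_combination -h2
      rw [hc, ← neg_one_smul F (A * B), h11, one_smul]
    exfalso
    refine hg ?_
    have ht : A.trace = 0 := by
      have hu : h.1 * (h⁻¹).1 = 1 := h.mul_inv
      have e1 : B * A * (h⁻¹).1 = -(A) := by rw [hc, neg_mul, mul_assoc, hu, mul_one]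
      have e2 := congrArg Matrix.trace e1
      rw [Matrix.trace_mul_cycle, show (h⁻¹).1 * B = 1 from h.inv_mul, one_mul, Matrix.trace_neg] at e2
      exact (mul_eq_zero.1 (show (2 : F) * A.trace = 0 by linear_combination e2)).resolve_left h2
    rw [← map_mul, innDiag_eq_one_iff le_rfl]
    refine ⟨-A.det, ?_⟩
    rw [Units.val_mul]
    rw [Matrix.trace_fin_two] at ht
    ext i j
    fin_cases i <;> fin_cases j <;>
      simp [Matrix.mul_apply, Fin.sum_univ_two, Matrix.det_fin_two]
    · linear_combination A 0 0 * ht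
    · linear_combination A 0 1 * ht
    · linear_combination A 1 0 * ht
    · linear_combination A 1 1 * ht

/-- The centraliser in `PGL 2 F` of an element of order greater than two is abelian. -/
theorem commute_of_commute {g h k : MulAut (PSL 2 F)} (hg : g ∈ (innDiag 2 F).range)
    (hh : h ∈ (innDiag 2 F).range) (hk : k ∈ (innDiag 2 F).range) (hg2 : g * g ≠ 1)
    (hgh : Commute g h) (hgk : Commute g k) : Commute h k := by
  obtain ⟨g, rfl⟩ := hg
  obtain ⟨h, rfl⟩ := hh
  obtain ⟨k, rfl⟩ := hk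
  refine Commute.map (Units.ext ?_ : h * k = k * h) (innDiag 2 F)
  rw [Units.val_mul, Units.val_mul]
  refine commute_of_commute_nonscalar (fun hs => hg2 ?_) (commute_lift hg2 hgh) (commute_lift hg2 hgk)
  have h1 : innDiag 2 F g = 1 := (innDiag_eq_one_iff le_rfl g).2 ⟨g.1 0 0, by
    ext i j
    fin_cases i <;> fin_cases j <;> simp [hs.1, hs.2.1, hs.2.2]⟩
  rw [h1, one_mul]

theorem orderOf_two {M : Type*} [Monoid M] {x : M} (h1 : x ≠ 1) (h2 : x * x = 1) : orderOf x = 2 :=
  orderOf_eq_prime (by rwa [pow_two]) h1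

/-- The involutions of `PSL 2 F`, `q` odd, have centralisers of order `q - ε`. -/
theorem card_centralizer_involution (h2 : (2 : F) ≠ 0) {x : PSL 2 F} (hx : orderOf x = 2) :
    ∃ ε : ℤ, (ε = 1 ∨ ε = -1) ∧ (4 : ℤ) ∣ (Fintype.card F : ℤ) - ε ∧
      2 * ((Subgroup.centralizer ({x} : Set (PSL 2 F))).index : ℤ) =
        Fintype.card F * (Fintype.card F + ε) ∧
      (Nat.card (Subgroup.centralizer ({x} : Set (PSL 2 F))) : ℤ) = Fintype.card F - ε := by
  classical
  obtain ⟨g, rfl⟩ := QuotientGroup.mk_surjective x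
  have hodd : ¬ 2 ∣ Fintype.card F := fun hd => by
    obtain ⟨p, hc⟩ := CharP.exists F
    haveI := hc
    obtain ⟨f, hp, hF⟩ := FiniteField.card F p
    rw [hF] at hd
    have := (Nat.prime_dvd_prime_iff_eq Nat.prime_two hp).1 (Nat.prime_two.dvd_of_dvd_pow hd)
    subst this
    exact h2 CharTwo.two_eq_zero
  have hodd' : Fintype.card F % 2 = 1 := by omega
  have hsq : (QuotientGroup.mk (g * g) : PSL 2 F) = QuotientGroup.mk 1 := by
    rw [QuotientGroup.mk_mul, QuotientGroup.mk_one]
    have h := pow_orderOf_eq_one (QuotientGroup.mk g : PSL 2 F)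
    rwa [hx, pow_two] at h
  have hg2 : g * g = -1 := by
    rcases CfsgLib.Classical.Dickson.eq_or_neg_of_mk hsq.symm with e | e
    · exfalso
      refine (fun e' => by rw [e', orderOf_one] at hx; omega : (QuotientGroup.mk g : PSL 2 F) ≠ 1) ?_
      rw [← QuotientGroup.mk_one]
      by_cases h1 : g = 1
      · rw [h1]
      · rw [CfsgLib.Classical.Dickson.eq_neg_one_of_involution h2 e h1]
        exact CfsgLib.Known.SL2ClassSizes.mk_neg 1
    · exact e
  have htr : g.1 0 0 + g.1 1 1 = 0 := by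
    have h00 := congrArg (fun X : SL 2 F => X.1 0 0) hg2
    simp only [CfsgLib.PLocal.SLTwo.m00] at h00
    simp at h00
    have hd := CfsgLib.PLocal.SLTwo.det2 g
    have e : g.1 0 0 * (g.1 0 0 + g.1 1 1) = 0 := by linear_combination h00 + hd
    rcases mul_eq_zero.1 e with e | e
    · have h11 := congrArg (fun X : SL 2 F => X.1 1 1) hg2
      simp only [CfsgLib.PLocal.SLTwo.m11] at h11
      simp at h11
      have e' : g.1 1 1 * (g.1 0 0 + g.1 1 1) = 0 := by linear_combination h11 + hd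
      rcases mul_eq_zero.1 e' with e' | e'
      · rw [e, e']; ring
      · exact e'
    · exact e
  open CfsgLib.Known.SL2ClassSizes CfsgLib.SL2Char CfsgLib.PLocal.SLTwo in
  obtain ⟨ε, hε, hmod, hcs⟩ : ∃ ε : ℤ, (ε = 1 ∨ ε = -1) ∧ (4 : ℤ) ∣ (Fintype.card F : ℤ) - ε ∧
      2 * (cs (QuotientGroup.mk g : PSL 2 F) : ℤ) = Fintype.card F * (Fintype.card F + ε) := by
    rcases cases_conj g with h | ⟨h, b, hb, hc⟩ | ⟨h, a, ha, hc⟩ | he
    · exfalso
      rcases h with rfl | rfl <;> simp at htr <;> exact h2 (by (first | linear_combination htr | linear_combination -htr))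
    · exfalso
      have e := tr_conj g h
      rcases hc with hc | hc <;> rw [hc] at e <;> simp [tr] at e <;> apply h2 <;>
        (first | linear_combination e + htr | linear_combination e - htr | linear_combination -e + htr |
          linear_combination -e - htr)
    · have e := tr_conj g h
      rw [hc] at e
      simp only [tr, diagS00, diagS11, Units.val_inv_eq_inv_val] at e
      have h4 : (a : F) ^ 2 = -1 := by
        have h5 : (a : F) + ((a : F))⁻¹ = 0 := e.trans htr
        field_simp at h5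
        linear_combination h5
      have hsq1 : IsSquare (-1 : F) := ⟨(a : F), by rw [← sq, h4]⟩
      rw [FiniteField.isSquare_neg_one_iff] at hsq1
      refine ⟨1, Or.inl rfl, by omega, ?_⟩
      rw [← cs_conj (QuotientGroup.mk h) (QuotientGroup.mk g), ← QuotientGroup.mk_inv,
        ← QuotientGroup.mk_mul, ← QuotientGroup.mk_mul, hc, (cs_diag_odd h2 ha).2 h4]
      have hdvd : 2 ∣ Fintype.card F * (Fintype.card F + 1) := (Nat.even_mul_succ_self _).two_dvd
      obtain ⟨w, hw⟩ := hdvd
      rw [hw, Nat.mul_div_cancel_left _ two_pos]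
      exact_mod_cast hw.symm
    · have hno := (elliptic_tr_zero (show tr g = 0 from htr)).1 he
      have hsq1 : ¬ IsSquare (-1 : F) := fun ⟨c, hc⟩ => hno c hc.symm
      rw [FiniteField.isSquare_neg_one_iff, not_not] at hsq1
      refine ⟨-1, Or.inr rfl, by omega, ?_⟩
      rw [(cs_elliptic_odd h2 he).2 htr]
      have hdvd : 2 ∣ Fintype.card F * (Fintype.card F - 1) := (Nat.even_mul_pred_self _).two_dvd
      obtain ⟨w, hw⟩ := hdvd
      rw [hw, Nat.mul_div_cancel_left _ two_pos]
      have h' := congrArg (fun z : ℕ => (z : ℤ)) hw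
      simp only [Nat.cast_mul, Nat.cast_sub Fintype.card_pos, Nat.cast_ofNat, Nat.cast_one] at h'
      linear_combination -h'
  refine ⟨ε, hε, hmod, hcs, ?_⟩
  have hpsl := CfsgLib.Classical.Dickson.gcd_mul_card_psl (F := F) rfl
  have hgcd : Nat.gcd 2 (Fintype.card F - 1) = 2 := Nat.gcd_eq_left (by omega)
  set C := Subgroup.centralizer ({(QuotientGroup.mk g : PSL 2 F)} : Set (PSL 2 F))
  have hmul := C.index_mul_card
  rw [hgcd] at hpsl
  have hq1 : 1 < Fintype.card F := Fintype.one_lt_card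
  have hpos : (Fintype.card F : ℤ) * (Fintype.card F + ε) ≠ 0 := by
    rcases hε with rfl | rfl <;> refine mul_ne_zero (by omega) (by omega)
  refine mul_left_cancel₀ hpos ?_
  rw [CfsgLib.Known.SL2ClassSizes.cs] at hcs
  have e1 : (C.index : ℤ) * Nat.card C = Nat.card (PSL 2 F) := by exact_mod_cast hmul
  have e2 : 2 * (Nat.card (PSL 2 F) : ℤ) =
      (Fintype.card F : ℤ) * (Fintype.card F + ε) * (Fintype.card F - ε) := by
    have h' := congrArg (fun z : ℕ => (z : ℤ)) hpsl
    push_cast [Nat.cast_sub hq1.le, Nat.cast_sub (Nat.one_le_pow 2 (Fintype.card F) Fintype.card_pos)] at h'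
    rcases hε with rfl | rfl <;> linear_combination h'
  linear_combination 2 * e1 + e2 - (Nat.card C : ℤ) * hcs

/-- An element of `PGL 2 F` with square one comes from a matrix of trace zero, or is trivial. -/
theorem trace_eq_zero {g : GL (Fin 2) F} (hg : innDiag 2 F g * innDiag 2 F g = 1)
    (h1 : innDiag 2 F g ≠ 1) :
    (g : Matrix (Fin 2) (Fin 2) F) 0 0 + (g : Matrix (Fin 2) (Fin 2) F) 1 1 = 0 := by
  rw [← map_mul, innDiag_eq_one_iff le_rfl] at hg
  obtain ⟨c, hc⟩ := hg
  rw [Units.val_mul] at hc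
  set A := (g : Matrix (Fin 2) (Fin 2) F)
  by_contra hne
  have a := congrFun (congrFun hc 0) 0
  have b := congrFun (congrFun hc 0) 1
  have d := congrFun (congrFun hc 1) 0
  have e := congrFun (congrFun hc 1) 1
  simp [Matrix.mul_apply, Fin.sum_univ_two] at a b d e
  have e1 : A 0 1 = 0 := (mul_eq_zero.1 (show A 0 1 * (A 0 0 + A 1 1) = 0 by
    linear_combination b)).resolve_right hne
  have e2 : A 1 0 = 0 := (mul_eq_zero.1 (show A 1 0 * (A 0 0 + A 1 1) = 0 by
    linear_combination d)).resolve_right hne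
  have e3 : A 0 0 - A 1 1 = 0 := (mul_eq_zero.1 (show (A 0 0 - A 1 1) * (A 0 0 + A 1 1) = 0 by
    linear_combination a - e)).resolve_right hne
  refine h1 ((innDiag_eq_one_iff le_rfl g).2 ⟨A 0 0, ?_⟩)
  ext i j
  fin_cases i <;> fin_cases j <;> simp [A] at e1 e2 e3 ⊢ <;>
    first | exact e1 | exact e2 | linear_combination -e3

/-- An element of order greater than two commutes with at most one involution of `PGL 2 F`. -/
theorem eq_of_commute (h2 : (2 : F) ≠ 0) {g a b : MulAut (PSL 2 F)} (hg : g ∈ (innDiag 2 F).range)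
    (ha : a ∈ (innDiag 2 F).range) (hb : b ∈ (innDiag 2 F).range) (hg2 : g * g ≠ 1)
    (ha2 : a * a = 1) (ha1 : a ≠ 1) (hb2 : b * b = 1) (hb1 : b ≠ 1)
    (hga : Commute g a) (hgb : Commute g b) : a = b := by
  obtain ⟨g, rfl⟩ := hg
  obtain ⟨a, rfl⟩ := ha
  obtain ⟨b, rfl⟩ := hb
  set A := (a : Matrix (Fin 2) (Fin 2) F)
  set B := (b : Matrix (Fin 2) (Fin 2) F)
  have hns : ¬ ((g : Matrix (Fin 2) (Fin 2) F) 0 1 = 0 ∧ (g : Matrix (Fin 2) (Fin 2) F) 1 0 = 0 ∧
      (g : Matrix (Fin 2) (Fin 2) F) 0 0 = (g : Matrix (Fin 2) (Fin 2) F) 1 1) := fun hs => by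
    refine hg2 ?_
    rw [(innDiag_eq_one_iff le_rfl g).2 ⟨g.1 0 0, by
      ext i j
      fin_cases i <;> fin_cases j <;> simp [hs.1, hs.2.1, hs.2.2]⟩, one_mul]
  have hAB : A * B = B * A :=
    commute_of_commute_nonscalar hns (commute_lift hg2 hga) (commute_lift hg2 hgb)
  have ta : A 0 0 + A 1 1 = 0 := trace_eq_zero ha2 ha1
  have tb : B 0 0 + B 1 1 = 0 := trace_eq_zero hb2 hb1
  have x1 := congrFun (congrFun hAB 0) 0
  have x2 := congrFun (congrFun hAB 0) 1
  have x3 := congrFun (congrFun hAB 1) 0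
  simp only [Matrix.mul_apply, Fin.sum_univ_two] at x1 x2 x3
  have y1 : A 0 1 * B 1 0 = B 0 1 * A 1 0 := by linear_combination x1
  have y2 : A 0 1 * B 0 0 = B 0 1 * A 0 0 := mul_left_cancel₀ h2 (by
    linear_combination -x2 + A 0 1 * tb - B 0 1 * ta)
  have y3 : A 1 0 * B 0 0 = B 1 0 * A 0 0 := mul_left_cancel₀ h2 (by
    linear_combination x3 + A 1 0 * tb - B 1 0 * ta)
  have key : ∀ c : F, B 0 1 = c * A 0 1 → B 1 0 = c * A 1 0 → B 0 0 = c * A 0 0 →
      innDiag 2 F a = innDiag 2 F b := fun c h01 h10 h00 =>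
    innDiag_eq_iff.2 ⟨c, by
      ext i j
      fin_cases i <;> fin_cases j <;>
        simp only [Fin.zero_eta, Fin.mk_one, Matrix.smul_apply, smul_eq_mul]
      · exact h00
      · exact h01
      · exact h10
      · show B 1 1 = c * A 1 1
        linear_combination tb - c * ta - h00⟩
  have hdet : A.det ≠ 0 := (GeneralLinearGroup.det a).ne_zero
  rw [Matrix.det_fin_two] at hdet
  by_cases h01 : A 0 1 = 0
  · have h00 : A 0 0 ≠ 0 := fun e => hdet (by rw [h01, e]; ring)
    exact key (B 0 0 / A 0 0) (by field_simp; linear_combination -y2)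
      (by field_simp; linear_combination -y3) (by field_simp)
  · exact key (B 0 1 / A 0 1) (by field_simp) (by field_simp; linear_combination y1)
      (by field_simp; linear_combination y2)

omit [Fintype F] in
theorem proj_eq_mk (g : SL 2 F) : proj 2 F g = (QuotientGroup.mk g : PSL 2 F) := rfl

/-- A lift of an involution of `PSL 2 F` has trace zero. -/
theorem trc_lift_involution (h2 : (2 : F) ≠ 0) {g : SL 2 F}
    (hg : orderOf (QuotientGroup.mk g : PSL 2 F) = 2) : g.1 0 0 + g.1 1 1 = 0 := by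
  have e := conj_eq_semilin (n := 2) g
  rw [proj_eq_mk] at e
  have hne : (QuotientGroup.mk g : PSL 2 F) ≠ 1 := fun e' => by rw [e', orderOf_one] at hg; omega
  have h1 : innDiag 2 F (Matrix.SpecialLinearGroup.toGL g) ≠ 1 := by
    intro h
    obtain ⟨c, hc⟩ := (innDiag_eq_one_iff le_rfl _).1 h
    have hc' : (g : Matrix (Fin 2) (Fin 2) F) = c • 1 := hc
    refine hne ((QuotientGroup.eq_one_iff g).2 (Subgroup.mem_center_iff.2 fun z => Subtype.ext ?_))
    simp [hc']
  have h' : innDiag 2 F (Matrix.SpecialLinearGroup.toGL g) * innDiag 2 F (Matrix.SpecialLinearGroup.toGL g) = 1 := by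
    rw [innDiag_apply, ← e, ← map_mul]
    have h := pow_orderOf_eq_one (QuotientGroup.mk g : PSL 2 F)
    rw [hg, pow_two] at h
    rw [h, map_one]
  exact trace_eq_zero h' h1

/-- The involutions of `PSL 2 F`, `q` odd, are conjugate. -/
theorem isConj_involutions (h2 : (2 : F) ≠ 0) {x y : PSL 2 F} (hx : orderOf x = 2)
    (hy : orderOf y = 2) : IsConj x y := by
  obtain ⟨a, rfl⟩ := QuotientGroup.mk_surjective x
  obtain ⟨b, rfl⟩ := QuotientGroup.mk_surjective y
  obtain ⟨g, hg⟩ := CfsgLib.Classical.Dickson.conj_trace_zero h2 (A := a) (B := b)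
    (trc_lift_involution h2 hx) (trc_lift_involution h2 hy)
  refine isConj_iff.2 ⟨QuotientGroup.mk g, ?_⟩
  rw [← QuotientGroup.mk_inv, ← QuotientGroup.mk_mul, ← QuotientGroup.mk_mul, hg]

end CfsgLib.GW.Dne.PSLAut
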