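import Cfsg.Agent.Lib.GW.Basic

/-!
# Gorenstein–Walter, four-groups with fixed points of odd order: setting and slice interfaces

`Hyp` is the minimal counterexample setting: a finite simple group with dihedral Sylow
`2`-subgroups of order `2 ^ (n + 1)` and one class of involutions, all of whose proper perfect
subgroups with dihedral Sylow `2`-subgroups are known modulo their cores.

The propositions at the end of the file are the interfaces between the parts of the proof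
(see `notes/GW_plan_helper15.md`).
-/

set_option autoImplicit false

namespace CfsgLib.GW.Dne

open Subgroup CfsgLib.GW

universe u

/-- The conclusion of the classification theorem for a perfect group. -/
def Known (X : Type u) [Group X] : Prop :=
  (∃ (F : Type) (_ : Field F) (_ : Fintype F), Odd (Fintype.card F) ∧ 3 < Fintype.card F ∧
      Nonempty (X ⧸ Cfsg.oddCore X ≃* Matrix.ProjectiveSpecialLinearGroup (Fin 2) F)) ∨
    Nonempty (X ⧸ Cfsg.oddCore X ≃* alternatingGroup (Fin 7))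

/-- A minimal counterexample. -/
structure Hyp (G : Type u) [Group G] where
  S : Sylow 2 G
  n : ℕ
  f : DihedralGroup (2 ^ n) →* G
  inj : Function.Injective f
  range : f.range = (S : Subgroup G)
  pos : 1 ≤ n
  simple : IsSimpleGroup G
  one_class : ∀ a b : G, orderOf a = 2 → orderOf b = 2 → IsConj a b
  known : ∀ X : Subgroup G, X ≠ ⊤ → Group.IsPerfect X → ∀ (P : Sylow 2 X) (m : ℕ), 2 ≤ m →
    Nonempty ((P : Subgroup X) ≃* DihedralGroup m) → Known X

variable {G : Type u} [Group G]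

/-- `O(X)` as a subgroup of the ambient group. -/
noncomputable def core (X : Subgroup G) : Subgroup G := (Cfsg.oddCore X).map X.subtype

/-- `O(C(t)) ⊓ C(u)`; for commuting involutions this is `O(C(⟨t, u⟩))`. -/
noncomputable def D (t u : G) : Subgroup G := U t ⊓ centralizer ({u} : Set G)

/-- `O_r(O(C(t)))` as a subgroup of the ambient group. -/
noncomputable def rCore (r : ℕ) (t : G) : Subgroup G := (Cfsg.pCore r (U t)).map (U t).subtype

/-- An element of `r`-power order. -/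
def IsRElt (r : ℕ) (x : G) : Prop := ∃ k, x ^ r ^ k = 1

/-- A proper subgroup fusing a four-group. -/
structure Fused (X : Subgroup G) (t u g : G) : Prop where
  ne_top : X ≠ ⊤
  mem_t : t ∈ X
  mem_u : u ∈ X
  mem_g : g ∈ X
  rot : Rot t u g

/-- The quotient by the core is `A₇`. -/
def Seven (X : Subgroup G) : Prop := Nonempty (X ⧸ Cfsg.oddCore X ≃* alternatingGroup (Fin 7))

/-- An involution, two reflections of the dihedral `2`-group through it, and their fusion. -/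
structure Frame (σ : Hyp G) (t u₁ u₂ g₁ g₂ : G) : Prop where
  rot₁ : Rot t u₁ g₁
  rot₂ : Rot t u₂ g₂
  ord : orderOf (u₁ * u₂) = 2 ^ σ.n
  pow : (u₁ * u₂) ^ 2 ^ (σ.n - 1) = t

/-- A homomorphism on `O(C(t))` invariant under conjugation by `w`. -/
def Fixed {A : Type*} [Mul A] [One A] (t w : G) (l : U t → A) : Prop :=
  ∀ x y : U t, (y : G) = w * x * w⁻¹ → l y = l x

/-- A linear character of `O(C(t))` whose restriction to `D t u` is invariant under `g`. -/
def InvOn (t u g : G) (l : U t →* ℂˣ) : Prop :=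
  ∀ x y : U t, (x : G) ∈ D t u → (y : G) = g * x * g⁻¹ → l y = l x

/-- The translates of `l` on `D t u` under `g` extend to `u`-fixed linear characters. -/
def TripleOn (t u g : G) (l : U t →* ℂˣ) : Prop :=
  ∃ l₁ l₂ : U t →* ℂˣ, Fixed t u l₁ ∧ Fixed t u l₂ ∧
    (∀ x y : U t, (x : G) ∈ D t u → (y : G) = g * x * g⁻¹ → l₁ x = l y) ∧
    (∀ x y : U t, (x : G) ∈ D t u → (y : G) = g * (g * x * g⁻¹) * g⁻¹ → l₂ x = l y)

/-- Condition (B) at the prime `r`: in a fused proper subgroup every invariant `r`-subgroup of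
the core is centralised by the involutions of the four-group. -/
def CFixed (G : Type u) [Group G] (r : ℕ) : Prop :=
  ∀ (X P : Subgroup G) (t u g : G), Fused X t u g → IsPGroup r P → P ≤ core X →
    t ∈ normalizer (P : Set G) → ∀ p ∈ P, Commute p t

/-- The primes at which (B) is needed. -/
def Big (G : Type u) [Group G] (r : ℕ) : Prop :=
  (∃ (t : G) (E : Subgroup G), orderOf t = 2 ∧ E ≤ U t ∧ IsPGroup r E ∧ ¬ IsCyclic E) ∨
    ((∀ t x y : G, orderOf t = 2 → x ∈ U t → y ∈ U t → Commute x y) ∧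
      ∃ t u g : G, Rot t u g ∧ D t u ≠ ⊥)

/-- (B) at every prime where it is needed. -/
def CoreFixed (G : Type u) [Group G] : Prop := ∀ r : ℕ, r.Prime → Big G r → CFixed G r

/-! ## Components of proper subgroups -/

/-- A solvable fused subgroup: odd elements centralising `t` lie in the core. -/
def SolvableLocal (G : Type u) [Group G] : Prop :=
  ∀ (X : Subgroup G) (t u g x : G), Fused X t u g → Group.IsSolvable X → x ∈ U t → x ∈ X →
    x ∈ core X

/-- A normal subgroup containing `t` of a non-solvable fused subgroup fuses the four-group. -/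
def NormalCover (G : Type u) [Group G] : Prop :=
  ∀ (X N : Subgroup G) (t u g : G), Fused X t u g → ¬ Group.IsSolvable X → N ≤ X →
    X ≤ normalizer (N : Set G) → t ∈ N → ∃ g' ∈ N, Rot t u g'

/-- Outside `A₇`, every involution centralising `t` other than `t` inverts the inverted part. -/
def RotInverts (G : Type u) [Group G] : Prop :=
  ∀ (X : Subgroup G) (t u g x i : G), Fused X t u g → ¬ Group.IsSolvable X → ¬ Seven X → x ∈ U t →
    x ∈ X → u * x * u⁻¹ = x⁻¹ → i ∈ X → orderOf i = 2 → Commute i t → i ≠ t →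
    i * x * i⁻¹ * x ∈ core X

/-- The inverted elements of `O(C(t))` in a fused subgroup form a cyclic group modulo the core. -/
def TorusCyclic (G : Type u) [Group G] : Prop :=
  ∀ (X : Subgroup G) (t u g : G), Fused X t u g →
    ∃ w ∈ U t ⊓ X, u * w * u⁻¹ = w⁻¹ ∧
      ∀ x ∈ U t ⊓ X, u * x * u⁻¹ = x⁻¹ → ∃ k : ℤ, x * (w ^ k)⁻¹ ∈ core X

/-- An element of an invariant `r`-subgroup of `O(C(t))` centralised by `u` lies in the core. -/
def FieldTrivial (G : Type u) [Group G] : Prop :=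
  ∀ (X Q : Subgroup G) (t u g : G) (r : ℕ), Fused X t u g → r.Prime → IsPGroup r Q → Q ≤ U t →
    Q ≤ X → U t ⊓ X ≤ normalizer (Q : Set G) → u ∈ normalizer (Q : Set G) →
    (Seven X → ∃ x ∈ U t ⊓ X, u * x * u⁻¹ = x⁻¹ ∧ x ∉ core X) →
    Q ⊓ centralizer ({u} : Set G) ≤ core X

/-- An outer involution centralising an inner one has an inverted fixed element of odd order. -/
def OuterTorus (G : Type u) [Group G] : Prop :=
  ∀ (X : Subgroup G) (t u g i : G), Fused X t u g → ¬ Group.IsSolvable X → orderOf i = 2 →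
    i ∉ X → Commute i t → i ∈ normalizer (X : Set G) → X ⊔ zpowers i ≠ ⊤ →
    ∃ h ∈ X, Odd (orderOf h) ∧ Commute h i ∧ t * h * t⁻¹ = h⁻¹ ∧ h ∉ core X

/-- The tori of an inner and of an outer involution have coprime orders modulo the core. -/
def CoprimeTori (G : Type u) [Group G] : Prop :=
  ∀ (X Y : Subgroup G) (t i e x : G) (r : ℕ), Y ≠ ⊤ → X ≤ Y → X.relIndex Y = 2 → t ∈ Y → t ∉ X →
    i ∈ X → orderOf t = 2 → orderOf i = 2 → Commute i t → r.Prime → r ≠ 2 →
    e ∈ Y → x ∈ Y → IsRElt r e → IsRElt r x →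
    Commute e t → i * e * i⁻¹ = e⁻¹ → Commute x i → t * x * t⁻¹ = x⁻¹ →
    e ∈ core Y ∨ x ∈ core Y

/-- Commuting elements of the tori of two commuting involutions lie in the core. -/
def CommutingTori (G : Type u) [Group G] : Prop :=
  ∀ (X : Subgroup G) (t u a b : G) (r : ℕ), X ≠ ⊤ → t ∈ X → u ∈ X → orderOf t = 2 → orderOf u = 2 →
    t ≠ u → Commute t u → r.Prime → r ≠ 2 → a ∈ X → b ∈ X → IsRElt r a → IsRElt r b →
    Commute a t → u * a * u⁻¹ = a⁻¹ → Commute b u → t * b * t⁻¹ = b⁻¹ →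
    a * b * a⁻¹ * b⁻¹ ∈ core X → a ∈ core X ∨ b ∈ core X

/-- Numerical data of a subgroup containing a Sylow `2`-subgroup and fusing both classes. -/
def CountData (G : Type u) [Group G] : Prop :=
  ∀ (σ : Hyp G) (X : Subgroup G) (t u₁ u₂ g₁ g₂ : G), Frame σ t u₁ u₂ g₁ g₂ → X ≠ ⊤ →
    t ∈ X → u₁ ∈ X → u₂ ∈ X → g₁ ∈ X → g₂ ∈ X → ¬ Group.IsSolvable X →
    let K := ((D t u₁ ⊓ X) ⊔ (core X ⊓ centralizer ({t} : Set G))).relIndex (U t ⊓ X)
    let m := ((centralizer ({t} : Set G) ⊓ X) ⊔ core X).relIndex X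
    (∃ (q : ℕ) (ε : ℤ), IsPrimePow q ∧ (ε = 1 ∨ ε = -1) ∧ (q : ℤ) - ε = 2 * 2 ^ σ.n * K ∧
        2 * (m : ℤ) = q * (q + ε) ∧ q ∣ Nat.card X ∧
        ∀ x ∈ U t ⊓ X, u₁ * x * u₁⁻¹ = x⁻¹ → x ∉ core X →
          ∀ j ∈ X, orderOf j = 2 → Commute j x → j * t ∈ core X) ∨
      (Seven X ∧ σ.n = 2 ∧ m = 105 ∧ K ∣ 3 ∧
        (core X ⊓ centralizer ({t} : Set G)).relIndex (U t ⊓ X) ∣ 3 ∧
        ∀ x ∈ U t ⊓ X, u₁ * x * u₁⁻¹ = x⁻¹ → x ∉ core X →
          ∃ a b : G, ∀ j ∈ X, orderOf j = 2 → Commute j x →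
            j * t ∈ core X ∨ j * a ∈ core X ∨ j * b ∈ core X)

/-- All facts about components used below. -/
structure Components (G : Type u) [Group G] : Prop where
  solvableLocal : SolvableLocal G
  normalCover : NormalCover G
  rotInverts : RotInverts G
  torusCyclic : TorusCyclic G
  fieldTrivial : FieldTrivial G
  outerTorus : OuterTorus G
  coprimeTori : CoprimeTori G
  commutingTori : CommutingTori G
  countData : CountData G

/-! ## Local lemmas -/

/-- (B1): a four-group invariant `r`-subgroup moves `r`-elements in at most one component. -/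
def OneComponent (G : Type u) [Group G] : Prop :=
  ∀ (r : ℕ) (R : Subgroup G) (t u g : G), r.Prime → r ≠ 2 → CFixed G r → Rot t u g →
    IsPGroup r R → t ∈ normalizer (R : Set G) → u ∈ normalizer (R : Set G) →
    (∀ x ∈ R, Commute x t → Commute x u) ∨ (∀ x ∈ R, Commute x u → Commute x t)

/-- The H-lemma. -/
def HLemma (G : Type u) [Group G] : Prop :=
  ∀ (r k : ℕ) (t u g i e e' : G), r.Prime → r ≠ 2 → CFixed G r → Rot t u g → orderOf i = 2 →
    Commute i t → e ≠ 1 → e ^ r ^ k = 1 → Commute e t → Commute e u → Commute e g →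
    i * e * i⁻¹ = e⁻¹ → ¬ Group.IsSolvable (centralizer ({e} : Set G)) →
    e' ∈ U t → e' ≠ 1 → IsRElt r e' → i * e' * i⁻¹ = e'⁻¹ →
    (∀ x ∈ U t, i * x * i⁻¹ = x⁻¹ → Commute x e') → False

/-- Klein case: no fixed linear character with extendible translates. -/
def NoTriple (G : Type u) [Group G] : Prop :=
  ∀ (σ : Hyp G) (t u₁ u₂ g₁ g₂ : G) (l : U t →* ℂˣ), σ.n = 1 → Frame σ t u₁ u₂ g₁ g₂ →
    Fixed t u₁ l → TripleOn t u₁ g₁ l → l = 1

/-- Dihedral case, non-abelian `O(C(t))`: no fixed linear character invariant for both classes, or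
invariant for one class and, when the Sylow `2`-subgroups have order eight, with extendible
translates for the other. -/
def NoTripleTwo (G : Type u) [Group G] : Prop :=
  ∀ (σ : Hyp G) (t u₁ u₂ g₁ g₂ : G) (l : U t →* ℂˣ), 2 ≤ σ.n → Frame σ t u₁ u₂ g₁ g₂ →
    (∃ a b : U t, a * b ≠ b * a) → Fixed t u₁ l → Fixed t u₂ l → InvOn t u₂ g₂ l →
    (InvOn t u₁ g₁ l ∨ (σ.n = 2 ∧ TripleOn t u₁ g₁ l)) → l = 1

/-- No linear character of `O(C(t))` is fixed by the centraliser's `2`-part. -/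
def NoFixedLinear (G : Type u) [Group G] : Prop :=
  ∀ (σ : Hyp G) (t u₁ u₂ g₁ g₂ : G) (l : U t →* ℂˣ), Frame σ t u₁ u₂ g₁ g₂ →
    Fixed t u₁ l → Fixed t u₂ l → l = 1

/-- The configuration left over by the local analysis of a mixed prime. -/
structure Exceptional (σ : Hyp G) (t u₁ u₂ g₁ g₂ : G) (r : ℕ) (x y : G) (K : Subgroup G) :
    Prop where
  frame : Frame σ t u₁ u₂ g₁ g₂
  prime : r.Prime
  five_le : 5 ≤ r
  card_Q : Nat.card (rCore r t) = r ^ 3
  nonab : ∃ a ∈ rCore r t, ∃ b ∈ rCore r t, ¬ Commute a b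
  y_mem : y ∈ rCore r t
  y_order : orderOf y = r
  y_g₁ : Commute y g₁
  y_g₂ : Commute y g₂
  D₁ : D t u₁ = zpowers y
  D₂ : D t u₂ = zpowers y
  x_mem : x ∈ rCore r t
  x_order : orderOf x = r
  x_inv₁ : u₁ * x * u₁⁻¹ = x⁻¹
  x_inv₂ : u₂ * x * u₂⁻¹ = x⁻¹
  x_central : ∀ h ∈ U t, Commute h x
  K_le : K ≤ U t
  K_normal : centralizer ({t} : Set G) ≤ normalizer (K : Set G)
  K_coprime : ¬ r ∣ Nat.card K
  K_inv₁ : ∀ k ∈ K, u₁ * k * u₁⁻¹ = k⁻¹
  K_inv₂ : ∀ k ∈ K, u₂ * k * u₂⁻¹ = k⁻¹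
  K_comm : ∀ k ∈ K, ∀ q ∈ rCore r t, Commute k q
  centralizer_y : U t ⊓ centralizer ({y} : Set G) = zpowers y ⊔ zpowers x ⊔ K
  top_inv₁ : ∀ h ∈ U t, u₁ * h * u₁⁻¹ * h ∈ rCore r t ⊔ K
  top_inv₂ : ∀ h ∈ U t, u₂ * h * u₂⁻¹ * h ∈ rCore r t ⊔ K
  top_comm : ∀ a ∈ U t, ∀ b ∈ U t, a * b * a⁻¹ * b⁻¹ ∈ rCore r t ⊔ K
  top_fpf : ∀ h ∈ U t, h ∉ rCore r t ⊔ K → ∀ q ∈ rCore r t, Commute h q → q ∈ zpowers x
  top_ne : ¬ U t ≤ rCore r t ⊔ K
  top_dvd : (rCore r t ⊔ K).relIndex (U t) ∣ r + 1 ∨ (rCore r t ⊔ K).relIndex (U t) ∣ r - 1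

/-- The exceptional configuration does not occur. -/
def NoExceptional (G : Type u) [Group G] : Prop :=
  ∀ (σ : Hyp G) (t u₁ u₂ g₁ g₂ : G) (r : ℕ) (x y : G) (K : Subgroup G),
    CoreFixed G → ¬ Exceptional σ t u₁ u₂ g₁ g₂ r x y K

/-- No prime is mixed. -/
def NoMixed (G : Type u) [Group G] : Prop :=
  ∀ (σ : Hyp G) (t u₁ u₂ g₁ g₂ : G) (r : ℕ), Frame σ t u₁ u₂ g₁ g₂ → r.Prime →
    (∀ x ∈ rCore r t, Commute x u₁) ∨ rCore r t ⊓ centralizer ({u₁} : Set G) = ⊥

/-- The end of the dihedral case: `A₇`. -/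
def SevenEnd (G : Type u) [Group G] : Prop :=
  ∀ (σ : Hyp G) (t u₁ u₂ g₁ g₂ : G), Frame σ t u₁ u₂ g₁ g₂ → σ.n = 2 → U t ≠ ⊥ →
    (∀ x ∈ U t, Commute x u₁) → (∀ x ∈ U t, Commute x g₁) → (∀ x ∈ U t, u₂ * x * u₂⁻¹ = x⁻¹) →
    (∀ d ∈ U t, d ≠ 1 → ∀ x ∈ centralizer ({d} : Set G),
      ∃ a ∈ U t, ∃ b ∈ closure ({t, u₁, g₁} : Set G), x = a * b) →
    Nonempty (G ≃* alternatingGroup (Fin 7))

/-- The outcome: only `A₇` has four-groups with fixed points of odd order. -/
def DneConclusion (G : Type u) [Group G] : Prop :=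
  Hyp G → (∃ t u g : G, Rot t u g ∧ D t u ≠ ⊥) → Nonempty (G ≃* alternatingGroup (Fin 7))

end CfsgLib.GW.Dne
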