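import Cfsg.Agent.Lib.GW.Dne.Rot
import Cfsg.Agent.Lib.GW.OddPart
import Cfsg.Agent.Lib.Core.Cores

/-!
# The minimal counterexample: basic facts
-/

set_option autoImplicit false

namespace CfsgLib.GW.Dne

open Subgroup DihedralGroup CfsgLib.GW
open CfsgLib.TwoGroups CfsgLib.TwoGroups.Dihedral
open CfsgLib.Signalizer (involution_sq involution_inv involution_ne_one orderOf_eq_two_of orderOf_conj)

universe u

variable {G : Type u} [Group G] [Finite G]

theorem mem_core_iff {X : Subgroup G} {x : G} :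
    x ∈ core X ↔ ∃ h : x ∈ X, (⟨x, h⟩ : X) ∈ Cfsg.oddCore X :=
  ⟨fun ⟨y, hy, e⟩ => ⟨e ▸ y.2, by subst e; exact hy⟩, fun ⟨h, hx⟩ => ⟨⟨x, h⟩, hx, rfl⟩⟩

omit [Finite G] in
theorem core_le (X : Subgroup G) : core X ≤ X := map_subtype_le _

theorem odd_core (X : Subgroup G) : Odd (Nat.card (core X)) := by
  rw [core, card_map_of_injective X.subtype_injective]
  exact Nat.coprime_two_right.1 (CfsgLib.Core.coprime_card_pPrimeCore 2 _)

omit [Finite G] in
theorem le_normalizer_core (X : Subgroup G) : X ≤ normalizer (core X : Set G) := by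
  haveI : (Cfsg.oddCore X).Normal := inferInstance
  intro g hg
  refine mem_normalizer_iff.2 fun x => ⟨?_, fun hx => ?_⟩
  · rintro ⟨y, hy, rfl⟩
    exact ⟨⟨g, hg⟩ * y * ⟨g, hg⟩⁻¹, Subgroup.Normal.conj_mem inferInstance y hy _, rfl⟩
  · obtain ⟨y, hy, e⟩ := hx
    refine ⟨⟨g, hg⟩⁻¹ * y * (⟨g, hg⟩⁻¹)⁻¹, Subgroup.Normal.conj_mem inferInstance y hy _, ?_⟩
    show g⁻¹ * (y : G) * g⁻¹⁻¹ = x
    rw [show (y : G) = g * x * g⁻¹ from e]; group

omit [Finite G] in
theorem isRElt_of_mem {r : ℕ} {H : Subgroup G} (hH : IsPGroup r H) {x : G} (hx : x ∈ H) :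
    IsRElt r x := by
  obtain ⟨k, hk⟩ := hH ⟨x, hx⟩
  exact ⟨k, congrArg Subtype.val hk⟩

omit [Finite G] in
theorem odd_orderOf_of_isRElt {r : ℕ} (hr : r.Prime) (hr2 : r ≠ 2) {x : G} (hx : IsRElt r x) :
    Odd (orderOf x) := by
  obtain ⟨k, hk⟩ := hx
  exact ((hr.odd_of_ne_two hr2).pow).of_dvd_nat (orderOf_dvd_of_pow_eq_one hk)

omit [Finite G] in
theorem IsRElt.conj {r : ℕ} {x : G} (hx : IsRElt r x) (g : G) : IsRElt r (g * x * g⁻¹) := by
  obtain ⟨k, hk⟩ := hx
  exact ⟨k, by rw [conj_pow, hk, mul_one, mul_inv_cancel]⟩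

omit [Finite G] in
/-- A rotation of a four-group reversed. -/
theorem swap_rot {t u g : G} (h : Rot t u g) : Rot t (t * u) g⁻¹ where
  ht := h.ht
  hu := h.prod_order
  ne := fun e => involution_ne_one h.hu (mul_eq_left.1 e.symm)
  comm := (Commute.refl t).mul_right h.comm
  conj1 := by
    have h3 : g * (t * u) * g⁻¹ = t := by
      rw [h.next.conj2, ← mul_assoc, h.comm.symm.eq, mul_assoc, involution_sq h.hu, mul_one]
    rw [inv_inv]
    calc g⁻¹ * t * g = g⁻¹ * (g * (t * u) * g⁻¹) * g := by rw [h3]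
      _ = t * u := by group
  conj2 := by
    rw [← mul_assoc t t u, involution_sq h.ht, one_mul, inv_inv]
    calc g⁻¹ * (t * u) * g = g⁻¹ * (g * u * g⁻¹) * g := by rw [h.conj2]
      _ = u := by group

namespace Hyp

variable (σ : Hyp G)

include σ in
theorem centralizer_complement {t : G} (ht : orderOf t = 2) :
    Cfsg.HasNormalPComplement 2 (centralizer ({t} : Set G)) :=
  CfsgLib.TwoGroups.Dihedral.centralizer_complement σ.inj σ.range σ.pos ht

include σ in
theorem mem_U {t : G} (ht : orderOf t = 2) {x : G} :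
    x ∈ U t ↔ Commute x t ∧ Odd (orderOf x) := by
  have hc := σ.centralizer_complement ht
  constructor
  · rintro ⟨y, hy, rfl⟩
    refine ⟨commute_of_mem_centralizer y.2, ?_⟩
    have := (CfsgLib.Transfer.mem_pResidual_iff_coprime hc).1 hy
    rwa [Nat.coprime_two_right, ← Subgroup.orderOf_coe] at this
  · rintro ⟨h1, h2⟩
    exact ⟨⟨x, mem_centralizer_of_commute h1⟩, (CfsgLib.Transfer.mem_pResidual_iff_coprime hc).2
      (by rw [Subgroup.orderOf_mk]; exact Nat.coprime_two_right.2 h2), rfl⟩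

include σ in
theorem odd_U {t : G} (ht : orderOf t = 2) : Odd (Nat.card (U t)) := by
  rw [U, card_map_of_injective (centralizer ({t} : Set G)).subtype_injective, ← Nat.coprime_two_right]
  exact CfsgLib.Transfer.hasNormalPComplement_iff_coprime.1 (σ.centralizer_complement ht)

include σ in
theorem mem_D {t u : G} (ht : orderOf t = 2) {x : G} :
    x ∈ D t u ↔ Commute x t ∧ Commute x u ∧ Odd (orderOf x) := by
  rw [D, mem_inf, σ.mem_U ht]
  exact ⟨fun h => ⟨h.1.1, commute_of_mem_centralizer h.2, h.1.2⟩,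
    fun h => ⟨⟨h.1, h.2.2⟩, mem_centralizer_of_commute h.2.1⟩⟩

omit [Finite G] in
theorem D_le_U (t u : G) : D t u ≤ U t := inf_le_left

omit [Finite G] in
theorem D_commute {t u x : G} (h : x ∈ D t u) : Commute x u := commute_of_mem_centralizer h.2

include σ in
theorem D_comm {t u : G} (ht : orderOf t = 2) (hu : orderOf u = 2) : D t u = D u t := by
  ext x; rw [σ.mem_D ht, σ.mem_D hu]; tauto

include σ in
theorem D_mul {t u : G} (ht : orderOf t = 2) : D t (t * u) = D t u := by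
  ext x
  rw [σ.mem_D ht, σ.mem_D ht]
  refine ⟨fun ⟨a, b, c⟩ => ⟨a, ?_, c⟩, fun ⟨a, b, c⟩ => ⟨a, a.mul_right b, c⟩⟩
  have h := a.mul_right b
  rwa [← mul_assoc, involution_sq ht, one_mul] at h

include σ in
theorem conj_mem_U {t x : G} (ht : orderOf t = 2) (g : G) (hx : x ∈ U t) :
    g * x * g⁻¹ ∈ U (g * t * g⁻¹) := by
  obtain ⟨h1, h2⟩ := (σ.mem_U ht).1 hx
  refine (σ.mem_U (by rw [orderOf_conj]; exact ht)).2 ⟨?_, by rw [orderOf_conj]; exact h2⟩
  exact h1.map (MulAut.conj g).toMonoidHom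

include σ in
theorem conj_mem_D {t u x : G} (ht : orderOf t = 2) (g : G) (hx : x ∈ D t u) :
    g * x * g⁻¹ ∈ D (g * t * g⁻¹) (g * u * g⁻¹) :=
  ⟨σ.conj_mem_U ht g hx.1,
    mem_centralizer_of_commute ((D_commute hx).map (MulAut.conj g).toMonoidHom)⟩

include σ in
theorem rot_conj_mem_D {t u g x : G} (h : Rot t u g) (hx : x ∈ D t u) : g * x * g⁻¹ ∈ D t u := by
  have := σ.conj_mem_D h.ht g hx
  rwa [h.conj1, h.conj2, h.comm.eq, σ.D_mul h.hu, σ.D_comm h.hu h.ht] at this

include σ in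
theorem rot_mem_normalizer_D {t u g : G} (h : Rot t u g) : g ∈ normalizer (D t u : Set G) :=
  mem_normalizer_of_conj fun _ hx => σ.rot_conj_mem_D h hx

theorem commute_centralizer_mem_normalizer_D {t u w : G} (h1 : Commute w t) (h2 : Commute w u) :
    w ∈ normalizer (D t u : Set G) := by
  refine mem_normalizer_of_conj fun x hx => ⟨?_, ?_⟩
  · exact (mem_normalizer_iff.1 (Setting.le_normalizer_U t (mem_centralizer_of_commute h1)) x).1 hx.1
  · have := (D_commute hx).map (MulAut.conj w).toMonoidHom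
    refine mem_centralizer_of_commute ?_
    simpa [conj_eq_of_commute h2] using this

include σ in
theorem four_dvd_card : 4 ∣ Nat.card G := by
  have h : Nat.card (S σ : Subgroup G) = 2 ^ (σ.n + 1) := by
    rw [← Nat.card_congr (sylowEquiv σ.inj σ.range).symm.toEquiv, DihedralGroup.nat_card, pow_succ']
  refine (Dvd.intro (2 ^ (σ.n - 1)) ?_).trans (Subgroup.card_subgroup_dvd_card (S σ : Subgroup G))
  rw [h, show (4 : ℕ) = 2 ^ 2 by norm_num, ← pow_add]
  have := σ.pos
  congr 1; omega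

include σ in
theorem eq_bot_or_eq_top (H : Subgroup G) (hH : H.Normal) : H = ⊥ ∨ H = ⊤ := by
  haveI := σ.simple
  exact hH.eq_bot_or_eq_top

include σ in
theorem center_eq_bot : center G = ⊥ := by
  rcases σ.eq_bot_or_eq_top (center G) inferInstance with h | h
  · exact h
  exfalso
  have hc : ∀ a b : G, a * b = b * a := fun a b => by
    have := mem_center_iff.1 (h ▸ mem_top b : b ∈ center G) a; exact this
  have hz : orderOf (σ.f (r (half σ.n))) = 2 := orderOf_half σ.inj σ.pos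
  rcases σ.eq_bot_or_eq_top (zpowers (σ.f (r (half σ.n))))
    ⟨fun x hx g => by rwa [hc g x, mul_inv_cancel_right]⟩ with e | e
  · exact involution_ne_one hz (zpowers_eq_bot.1 e)
  · have h1 : Nat.card (zpowers (σ.f (r (half σ.n)))) = Nat.card G := by rw [e, card_top]
    rw [Nat.card_zpowers, hz] at h1
    have := Nat.le_of_dvd Nat.card_pos σ.four_dvd_card
    omega

include σ in
theorem centralizer_ne_top {x : G} (hx : x ≠ 1) : centralizer ({x} : Set G) ≠ ⊤ := fun e =>
  hx ((mem_bot).1 (σ.center_eq_bot ▸ mem_center_iff.2 fun g =>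
    (mem_centralizer_singleton_iff.1 (e ▸ mem_top g : g ∈ centralizer ({x} : Set G)))))

include σ in
theorem normalizer_ne_top {H : Subgroup G} (h1 : H ≠ ⊥) (h2 : H ≠ ⊤) :
    normalizer (H : Set G) ≠ ⊤ := fun e => by
  rcases σ.eq_bot_or_eq_top H (normalizer_eq_top_iff.1 e) with h | h
  · exact h1 h
  · exact h2 h

include σ in
theorem normalizer_ne_top_of_odd {H : Subgroup G} (h1 : H ≠ ⊥) (h2 : Odd (Nat.card H)) :
    normalizer (H : Set G) ≠ ⊤ :=
  σ.normalizer_ne_top h1 fun e => by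
    rw [e, card_top] at h2
    exact (Nat.not_even_iff_odd.2 h2) ((even_iff_two_dvd).2 ((by norm_num : 2 ∣ 4).trans σ.four_dvd_card))

include σ in
theorem odd_D {t u : G} (ht : orderOf t = 2) : Odd (Nat.card (D t u)) :=
  (σ.odd_U ht).of_dvd_nat (card_dvd_of_le (D_le_U t u))

include σ in
/-- A conjugation taking `t` to the standard central involution and `u` to a standard reflection. -/
theorem exists_model_pair {t u : G} (ht : orderOf t = 2) (hu : orderOf u = 2) (hne : t ≠ u)
    (hc : Commute t u) :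
    ∃ (e : G) (j : ZMod (2 ^ σ.n)),
      e * t * e⁻¹ = σ.f (r (half σ.n)) ∧ e * u * e⁻¹ = σ.f (sr j) := by
  classical
  have : Fact (Nat.Prime 2) := ⟨Nat.prime_two⟩
  set z : G := σ.f (r (half σ.n)) with hz
  obtain ⟨d, hd⟩ := isConj_iff.1 (σ.one_class t z ht (orderOf_half σ.inj σ.pos))
  set w : G := d * u * d⁻¹ with hw
  have hwo : orderOf w = 2 := by rw [hw, orderOf_conj]; exact hu
  have hwz : Commute z w := by rw [← hd]; exact hc.map (MulAut.conj d).toMonoidHom
  have hwne : z ≠ w := fun e => hne (by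
    rw [← hd] at e
    exact mul_left_cancel (mul_right_cancel e))
  set C := centralizer ({z} : Set G) with hC
  have hSC : (S σ : Subgroup G) ≤ C := by
    rw [← σ.range]
    rintro _ ⟨a, rfl⟩
    refine mem_centralizer_of_commute ?_
    show σ.f a * σ.f (r (half σ.n)) = σ.f (r (half σ.n)) * σ.f a
    rw [← map_mul, ← map_mul]
    rcases a with i | i
    · rw [r_mul_r, r_mul_r, add_comm]
    · rw [r_mul_sr, sr_mul_r, sub_eq_add_neg, neg_half σ.pos]
  have hQ : IsPGroup 2 ((four z w).subgroupOf C) :=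
    (isPGroup_four (orderOf_half σ.inj σ.pos) hwo hwz).comap_of_injective _ C.subtype_injective
  obtain ⟨k, hk⟩ := CfsgLib.TwoGroups.exists_conj_le_sylow ((S σ).subtype hSC) hQ
  have hwC : w ∈ C := mem_centralizer_of_commute hwz.symm
  have h1 := hk (CfsgLib.TwoGroups.conj_mem_map_conj
    (show (⟨w, hwC⟩ : C) ∈ (four z w).subgroupOf C from subset_closure (by simp)))
  rw [Sylow.coe_subtype, mem_subgroupOf] at h1
  obtain ⟨b, hb⟩ := (σ.range ▸ h1 : ((k : G) * w * (k : G)⁻¹) ∈ σ.f.range)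
  have hkz : (k : G) * z * (k : G)⁻¹ = z := conj_eq_of_commute (commute_of_mem_centralizer k.2)
  obtain ⟨j, rfl⟩ : ∃ j, b = sr j := by
    rcases b with i | j
    · exfalso
      have h2 : orderOf ((r i : DihedralGroup (2 ^ σ.n))) = 2 := by
        rw [← orderOf_injective σ.f σ.inj, hb, orderOf_conj]; exact hwo
      rcases sq_eq_one_r σ.pos (involution_sq h2) with e | e
      · exact involution_ne_one h2 e
      · rw [e, ← hz] at hb
        exact hwne (mul_left_cancel (mul_right_cancel (hkz.trans hb)))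
    · exact ⟨j, rfl⟩
  refine ⟨(k : G) * d, j, ?_, ?_⟩
  · rw [show (k : G) * d * t * ((k : G) * d)⁻¹ = k * (d * t * d⁻¹) * (k : G)⁻¹ by group, hd, hkz]
  · rw [hb, hw]; group

include σ in
/-- Every pair of commuting involutions starts a frame. -/
theorem exists_frame {t u : G} (ht : orderOf t = 2) (hu : orderOf u = 2) (hne : t ≠ u)
    (hc : Commute t u) : ∃ u₂ g₁ g₂, Frame σ t u u₂ g₁ g₂ := by
  classical
  obtain ⟨e, j, hzt, hju⟩ := σ.exists_model_pair ht hu hne hc
  set u₂ : G := e⁻¹ * σ.f (sr (j + 1)) * e with hu2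
  have hu2o : orderOf u₂ = 2 := by
    have := orderOf_conj e⁻¹ (σ.f (sr (j + 1)))
    rw [inv_inv] at this
    rw [hu2, this, orderOf_injective σ.f σ.inj, orderOf_sr]
  have hu2c : Commute t u₂ := by
    have h1 : Commute (σ.f (r (half σ.n))) (σ.f (sr (j + 1))) := by
      show σ.f (r (half σ.n)) * σ.f (sr (j + 1)) = σ.f (sr (j + 1)) * σ.f (r (half σ.n))
      rw [← map_mul, ← map_mul, r_mul_sr, sr_mul_r, sub_eq_add_neg, neg_half σ.pos]
    have h2 := h1.map (MulAut.conj e⁻¹).toMonoidHom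
    rw [show t = e⁻¹ * σ.f (r (half σ.n)) * e by rw [← hzt]; group]
    simpa [hu2] using h2
  have hu2ne : t ≠ u₂ := fun h => by
    have h3 : σ.f (r (half σ.n)) = σ.f (sr (j + 1)) := by rw [← hzt, h, hu2]; group
    cases σ.inj h3
  have hprod : u * u₂ = e⁻¹ * σ.f (r 1) * e := by
    rw [hu2, show u = e⁻¹ * σ.f (sr j) * e by rw [← hju]; group,
      show e⁻¹ * σ.f (sr j) * e * (e⁻¹ * σ.f (sr (j + 1)) * e) =
        e⁻¹ * (σ.f (sr j) * σ.f (sr (j + 1))) * e by group,
      ← map_mul, sr_mul_sr, add_sub_cancel_left]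
  obtain ⟨g₁, hg₁⟩ := σ.exists_rot_of_pair ht hu hne hc
  obtain ⟨g₂, hg₂⟩ := σ.exists_rot_of_pair ht hu2o hu2ne hu2c
  refine ⟨u₂, g₁, g₂, hg₁, hg₂, ?_, ?_⟩
  · have := orderOf_conj e⁻¹ (σ.f (r 1))
    rw [inv_inv] at this
    rw [hprod, this, orderOf_injective σ.f σ.inj, orderOf_r_one]
  · have h4 : ∀ (x : G) (m : ℕ), (e⁻¹ * x * e) ^ m = e⁻¹ * x ^ m * e := fun x m => by
      have := conj_pow (i := m) (a := e⁻¹) (b := x)
      rwa [inv_inv] at this
    rw [hprod, h4, ← map_pow, r_one_pow, ← half, ← hzt]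
    group

end Hyp

namespace Frame

variable {σ : Hyp G} {t u₁ u₂ g₁ g₂ : G} (h : Frame σ t u₁ u₂ g₁ g₂)

include h

theorem ht : orderOf t = 2 := h.rot₁.ht
theorem hu₁ : orderOf u₁ = 2 := h.rot₁.hu
theorem hu₂ : orderOf u₂ = 2 := h.rot₂.hu

theorem symm : Frame σ t u₂ u₁ g₂ g₁ where
  rot₁ := h.rot₂
  rot₂ := h.rot₁
  ord := by
    rw [show u₂ * u₁ = (u₁ * u₂)⁻¹ by rw [mul_inv_rev, involution_inv h.hu₁, involution_inv h.hu₂],
      orderOf_inv, h.ord]
  pow := by
    rw [show u₂ * u₁ = (u₁ * u₂)⁻¹ by rw [mul_inv_rev, involution_inv h.hu₁, involution_inv h.hu₂],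
      inv_pow, h.pow, involution_inv h.ht]

theorem card_closure : Nat.card (closure ({u₁, u₂} : Set G)) = 2 ^ (σ.n + 1) := by
  obtain ⟨F, hF, hR⟩ := CfsgLib.Signalizer.exists_dihedral_hom h.hu₁ h.hu₂
  rw [← hR, ← Nat.card_congr (MonoidHom.ofInjective hF).toEquiv, DihedralGroup.nat_card, h.ord,
    pow_succ']

theorem commute₁ : Commute u₁ t := h.rot₁.comm.symm
theorem commute₂ : Commute u₂ t := h.rot₂.comm.symm

theorem t_mem_closure : t ∈ closure ({u₁, u₂} : Set G) := by
  rw [← h.pow]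
  exact pow_mem (mul_mem (subset_closure (by simp)) (subset_closure (by simp))) _

theorem closure_le_centralizer : closure ({u₁, u₂} : Set G) ≤ centralizer ({t} : Set G) := by
  rw [closure_le]
  intro x hx
  rcases hx with rfl | rfl
  · exact mem_centralizer_of_commute h.commute₁
  · exact mem_centralizer_of_commute h.commute₂

theorem two_pow_eq_card_sylow :
    2 ^ (σ.n + 1) = Nat.card (σ.S : Subgroup G) := by
  rw [← Nat.card_congr (sylowEquiv σ.inj σ.range).symm.toEquiv, DihedralGroup.nat_card, pow_succ']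

/-- The Sylow subgroup of the frame. -/
theorem exists_sylow : ∃ P : Sylow 2 G, (P : Subgroup G) = closure ({u₁, u₂} : Set G) := by
  have : Fact (Nat.Prime 2) := ⟨Nat.prime_two⟩
  refine ⟨Sylow.ofCard (closure ({u₁, u₂} : Set G)) ?_, Sylow.coe_ofCard _ _⟩
  rw [h.card_closure, h.two_pow_eq_card_sylow, Sylow.card_eq_multiplicity]

/-- `C(t) = O(C(t)) · ⟨u₁, u₂⟩`. -/
theorem exists_mul {c : G} (hc : Commute c t) :
    ∃ a ∈ U t, ∃ s ∈ closure ({u₁, u₂} : Set G), c = a * s := by
  have : Fact (Nat.Prime 2) := ⟨Nat.prime_two⟩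
  set C := centralizer ({t} : Set G) with hC
  set P := closure ({u₁, u₂} : Set G) with hP
  have hPN : P ≤ normalizer (U t : Set G) := h.closure_le_centralizer.trans (Setting.le_normalizer_U t)
  have hcop : (Nat.card P).Coprime (Nat.card (U t)) := by
    rw [h.card_closure]
    exact (Nat.coprime_two_left.2 (σ.odd_U h.ht)).pow_left _
  have hle : P ⊔ U t ≤ C := sup_le h.closure_le_centralizer (U_le t)
  have heq : P ⊔ U t = C := by
    refine eq_of_le_of_card_ge hle ?_
    rw [CfsgLib.Core.card_sup_of_coprime P (U t) hPN hcop]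
    obtain ⟨k, hk⟩ : ∃ k, Nat.card C = 2 ^ k * Nat.card (U t) := by
      obtain ⟨N, hN, hNc, hPG⟩ := CfsgLib.Transfer.hasNormalPComplement_iff_exists.1
        (σ.centralizer_complement h.ht)
      haveI := hN
      obtain ⟨k, hk⟩ := IsPGroup.iff_card.1 hPG
      refine ⟨k, ?_⟩
      suffices hres : Cfsg.pResidual 2 C = N by
        rw [← hk, ← Subgroup.index_eq_card, mul_comm, U,
          card_map_of_injective C.subtype_injective, hres, card_mul_index N]
      ext x
      constructor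
      · intro hx
        have h1 := (CfsgLib.Transfer.mem_pResidual_iff_coprime (σ.centralizer_complement h.ht)).1 hx
        obtain ⟨m, hm⟩ := hPG (QuotientGroup.mk x)
        have h2 : orderOf (QuotientGroup.mk' N x) ∣ 2 ^ m := orderOf_dvd_of_pow_eq_one hm
        have h3 : orderOf (QuotientGroup.mk' N x) ∣ orderOf x := orderOf_map_dvd _ x
        exact (QuotientGroup.eq_one_iff x).1 (orderOf_eq_one_iff.1
          (Nat.eq_one_of_dvd_coprimes (h1.pow_right m) h3 h2))
      · intro hx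
        exact (CfsgLib.Transfer.mem_pResidual_iff_coprime (σ.centralizer_complement h.ht)).2
          (hNc.coprime_dvd_left (orderOf_dvd_natCard N hx))
    rw [hk]
    refine Nat.mul_le_mul_right _ ?_
    refine Nat.le_of_dvd Nat.card_pos ?_
    rw [h.card_closure]
    have h1 : 2 ^ k ∣ Nat.card G := (Dvd.intro _ hk.symm).trans (card_subgroup_dvd_card C)
    rw [h.two_pow_eq_card_sylow, Sylow.card_eq_multiplicity]
    exact Nat.pow_dvd_pow 2 ((Nat.Prime.pow_dvd_iff_le_factorization Nat.prime_two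
      Nat.card_pos.ne').1 h1)
  have hcm : c ∈ P ⊔ U t := heq ▸ mem_centralizer_of_commute hc
  obtain ⟨s, hs, a, ha, e⟩ := (CfsgLib.Core.mem_sup_iff_mul hPN).1 hcm
  refine ⟨s * a * s⁻¹, (mem_normalizer_iff.1 (hPN hs) a).1 ha, s, hs, ?_⟩
  rw [← e]; group

end Frame

end CfsgLib.GW.Dne
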