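import Cfsg.Agent.Lib.GW.Sig.Main
import Cfsg.Agent.Lib.GW.Dne.Basic

/-!
# Condition (B) in a minimal counterexample

`Sig.commute_of_rot` and a Frattini argument show that the involutions of a fused subgroup
centralise the `r`-subgroups of its core which they normalise, given `Sig.KFacts`.
-/

set_option autoImplicit false

namespace CfsgLib.GW.Dne

open Subgroup CfsgLib.GW DihedralGroup
open CfsgLib.TwoGroups CfsgLib.TwoGroups.Dihedral
open CfsgLib.Signalizer (involution_sq involution_inv involution_ne_one orderOf_conj)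

universe u

variable {G : Type u} [Group G]

/-- The setting of the signalizer argument. -/
noncomputable def Hyp.base (σ : Hyp G) : Sig.Base G :=
  ⟨σ.S, σ.n, σ.f, σ.inj, σ.range, σ.pos, σ.one_class⟩

variable [Finite G]

theorem Hyp.noQd_of_dihedral (σ : Hyp G) {p : ℕ} [Fact p.Prime] (hp : p ≠ 2) :
    CfsgLib.PLocal.SLTwo.NoQd p G := by
  intro hq
  obtain ⟨K, R, hR, ⟨e⟩⟩ := hq
  have : Fact (Nat.Prime 2) := ⟨Nat.prime_two⟩
  have hsl : Cfsg.Involves (Matrix.SpecialLinearGroup (Fin 2) (ZMod p)) G :=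
    CfsgLib.Fusion.involves_of_surjective K.subtype K.subtype_injective
      ((CfsgLib.PLocal.SLTwo.linHom.comp e.toMonoidHom).comp (QuotientGroup.mk' (R.subgroupOf K)))
      (by
        rw [MonoidHom.coe_comp, MonoidHom.coe_comp]
        exact (Function.Surjective.comp (fun x => ⟨_, CfsgLib.PLocal.SLTwo.linHom_aff x 0⟩)
          e.surjective).comp (QuotientGroup.mk'_surjective _))
  obtain ⟨Q, hQ, hQc⟩ := CfsgLib.Transfer.exists_two_subgroup_SLTwo (p := p) hp
  refine CfsgLib.LocalEven.QuadSylowTwo.not_involves_of_shape hp hQc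
    (zpowers (r (1 : ZMod (2 ^ σ.n)))) (fun a ha b hb => ?_) (fun x hx => ?_)
    (CfsgLib.Fusion.involves_sylow hsl Q hQ σ.S (sylowEquiv σ.inj σ.range).toMonoidHom
      (sylowEquiv σ.inj σ.range).injective)
  · obtain ⟨i, rfl⟩ := ha
    obtain ⟨j, rfl⟩ := hb
    exact ((Commute.refl _).zpow_zpow i j).eq
  · rcases x with i | i
    · exfalso
      apply hx
      obtain ⟨c, rfl⟩ := ZMod.intCast_surjective i
      exact ⟨c, r_one_zpow c⟩
    · exact sr_mul_self i

/-- The involution `t` centralises a Sylow `r`-subgroup of the core of a fused subgroup, when every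
four-group with rotation centralises the `r`-subgroups it normalises. -/
theorem exists_centralized_sylow (σ : Hyp G) {r : ℕ} [Fact r.Prime]
    (hB : ∀ (E : Subgroup G) (t u g : G), IsPGroup r E → Rot t u g →
      t ∈ normalizer (E : Set G) → u ∈ normalizer (E : Set G) → g ∈ normalizer (E : Set G) →
      ∀ a ∈ E, Commute t a ∧ Commute u a)
    {X : Subgroup G} {t u g : G} (hF : Fused X t u g) :
    ∃ R : Sylow r (core X),
      ∀ p ∈ (R : Subgroup (core X)).map (core X).subtype, Commute t p := by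
  classical
  haveI : Fact (Nat.Prime 2) := ⟨Nat.prime_two⟩
  set C := core X with hC
  have hCn : X ≤ normalizer (C : Set G) := le_normalizer_core X
  obtain ⟨R₀⟩ : Nonempty (Sylow r C) := inferInstance
  set R₀' := (R₀ : Subgroup C).map C.subtype with hR₀'
  set Y := X ⊓ normalizer (R₀' : Set G) with hY
  have hfac : X ≤ C ⊔ Y := by
    intro x hx
    set Q := R₀'.map (MulAut.conj x).toMonoidHom with hQ
    have hQC : Q ≤ C := by
      rintro _ ⟨p, hp, rfl⟩
      exact (mem_normalizer_iff.1 (hCn hx) p).1 (map_subtype_le _ hp)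
    obtain ⟨k, hk, hkQ⟩ := CfsgLib.Core.exists_conj_of_card_eq R₀ hQC
      (by rw [hQ, CfsgLib.Transfer.card_map_conj])
    have h1 : k⁻¹ * x ∈ Y := by
      refine Subgroup.mem_inf.2 ⟨mul_mem (inv_mem (core_le X hk)) hx,
        mem_normalizer_of_conj fun q hq => ?_⟩
      have h2 : x * q * x⁻¹ ∈ Q := CfsgLib.Transfer.conj_mem_map_conj hq
      rw [← hkQ, Subgroup.mem_pointwise_smul_iff_inv_smul_mem, ← map_inv, MulAut.smul_def,
        MulAut.conj_apply] at h2
      rw [show k⁻¹ * x * q * (k⁻¹ * x)⁻¹ = k⁻¹ * (x * q * x⁻¹) * k⁻¹⁻¹ by group]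
      exact h2
    rw [show x = k * (k⁻¹ * x) by group]
    exact mul_mem (mem_sup_left hk) (mem_sup_right h1)
  obtain ⟨t', u', g', htY, huY, hgY, hR⟩ := Sig.exists_rot_in_supplement σ.base
    (inf_le_left : Y ≤ X) (odd_core X) hCn hfac hF.rot hF.mem_t hF.mem_g
  have hfix := hB R₀' t' u' g' (R₀.2.map _) hR htY.2 huY.2 hgY.2
  set K := X ⊓ centralizer (R₀' : Set G) with hK
  have hKY : Y ≤ normalizer (K : Set G) :=
    (le_inf (inf_le_left.trans le_normalizer)
      (inf_le_right.trans (CfsgLib.Signalizer.normalizer_le_normalizer_centralizer_set R₀'))).trans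
        CfsgLib.Transfer.normalizer_le_normalizer_inf
  set L := K ⊔ C with hL
  have hXL : X ≤ normalizer (L : Set G) := by
    refine hfac.trans (sup_le (le_sup_right.trans le_normalizer) fun y hy => ?_)
    refine CfsgLib.Transfer.map_conj_eq_self_iff.1 ?_
    rw [hL, Subgroup.map_sup, CfsgLib.Transfer.map_conj_eq_self_iff.2 (hKY hy),
      CfsgLib.Transfer.map_conj_eq_self_iff.2 (hCn hy.1)]
  have htK : t' ∈ K :=
    ⟨htY.1, mem_centralizer_iff.2 fun a ha => ((hfix a ha).1).symm.eq⟩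
  have hLe : ¬ Odd (Nat.card L) := fun ho => involution_ne_one hR.ht
    ((Sig.twoElt_of_involution hR.ht).eq_one_of_mem ho (mem_sup_left htK))
  have hgL : ∀ {w : G}, w ∈ L → g * w * g⁻¹ ∈ L := fun hw =>
    (mem_normalizer_iff.1 (hXL hF.mem_g) _).1 hw
  have htL : t ∈ L := by
    have hgtu : g * (t * u) * g⁻¹ = t := by
      rw [show g * (t * u) * g⁻¹ = g * t * g⁻¹ * (g * u * g⁻¹) by group, hF.rot.conj1, hF.rot.conj2,
        ← mul_assoc, ← hF.rot.comm.eq, mul_assoc, involution_sq hF.rot.hu, mul_one]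
    rcases σ.base.four_meets hLe hF.rot.ht hF.rot.hu hF.rot.ne hF.rot.comm (hXL hF.mem_t)
      (hXL hF.mem_u) with h | h | h
    · exact h
    · exact hgtu ▸ hgL (hF.rot.conj2 ▸ hgL h)
    · exact hgtu ▸ hgL h
  -- `t` is conjugate in `L` into `K`
  obtain ⟨SK⟩ : Nonempty (Sylow 2 K) := inferInstance
  set S' := (SK : Subgroup K).map K.subtype with hS'
  have hS'L : S' ≤ L := (map_subtype_le _).trans le_sup_left
  have hKC : K ≤ normalizer (C : Set G) := inf_le_left.trans hCn
  have hfL : (Nat.card L).factorization 2 = (Nat.card K).factorization 2 := by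
    refine le_antisymm ?_ ((Nat.factorization_le_iff_dvd Nat.card_pos.ne' Nat.card_pos.ne').2
      (card_dvd_of_le le_sup_left) 2)
    refine (Nat.prime_two.pow_dvd_iff_le_factorization Nat.card_pos.ne').1 ?_
    refine Nat.Coprime.dvd_of_dvd_mul_right ?_
      ((Nat.ordProj_dvd (Nat.card L) 2).trans (CfsgLib.Core.card_sup_dvd K C hKC))
    exact (Nat.coprime_two_left.2 (odd_core X)).pow_left _
  have hS'c : Nat.card (S'.subgroupOf L) = 2 ^ (Nat.card L).factorization 2 := by
    rw [Nat.card_congr (subgroupOfEquivOfLe hS'L).toEquiv, hS',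
      card_map_of_injective K.subtype_injective, SK.card_eq_multiplicity, hfL]
  obtain ⟨l, hl⟩ := CfsgLib.TwoGroups.exists_conj_le_sylow (Sylow.ofCard _ hS'c)
    ((IsPGroup.of_card (n := 1) (by rw [Nat.card_zpowers, hF.rot.ht, pow_one]) :
      IsPGroup 2 (zpowers t)).comap_of_injective L.subtype L.subtype_injective :
        IsPGroup 2 ((zpowers t).subgroupOf L))
  have hlt := hl (CfsgLib.TwoGroups.conj_mem_map_conj
    (show (⟨t, htL⟩ : L) ∈ (zpowers t).subgroupOf L from mem_zpowers t))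
  rw [Sylow.coe_ofCard, mem_subgroupOf] at hlt
  have hlK : (l : G) * t * (l : G)⁻¹ ∈ K := map_subtype_le _ hlt
  -- split `l` along `L = K C`
  obtain ⟨k, hk, c, hc, hl'⟩ := (CfsgLib.Core.mem_sup_iff_mul hKC).1 l.2
  have hcK : c * t * c⁻¹ ∈ K := by
    have h1 := mul_mem (mul_mem (inv_mem hk) hlK) hk
    rwa [hl', show k⁻¹ * (k * c * t * (k * c)⁻¹) * k = c * t * c⁻¹ by group] at h1
  refine ⟨(⟨c, hc⟩ : C)⁻¹ • R₀, fun p hp => ?_⟩
  rw [← CfsgLib.Core.sylow_map_conj_smul, Subgroup.mem_pointwise_smul_iff_inv_smul_mem, ← map_inv,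
    MulAut.smul_def, MulAut.conj_apply] at hp
  simp only [InvMemClass.coe_inv, inv_inv] at hp
  have h1 : Commute (c * t * c⁻¹) (c * p * c⁻¹) :=
    (mem_centralizer_iff.1 hcK.2 _ hp).symm
  have h2 := h1.map (MulAut.conj c⁻¹).toMonoidHom
  simpa [MulAut.conj_apply, mul_assoc] using h2

/-- (B) holds at the primes where it is needed. -/
theorem coreFixed (σ : Hyp G) (hK : ∀ r : ℕ, r.Prime → r ≠ 2 → Sig.KFacts G r) : CoreFixed G := by
  intro r hrp hbig X P t u g hF hP hPX htP
  haveI := Fact.mk hrp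
  by_cases hr : r = 2
  · subst hr
    intro p hp
    obtain ⟨k, hk⟩ := hP ⟨p, hp⟩
    have h1 : Sig.TwoElt p := ⟨k, congrArg Subtype.val hk⟩
    rw [h1.eq_one_of_mem (odd_core X) (hPX hp)]
    exact Commute.one_left t
  have S : Sig.Std G r :=
    ⟨σ.base, hK r hrp hr, hr, σ.noQd_of_dihedral hr, σ.simple⟩
  have hbigU : Sig.BigU G r := by
    rcases hbig with h | ⟨h, -⟩
    · exact Or.inl h
    · exact Or.inr h
  obtain ⟨R, hR⟩ := exists_centralized_sylow σ
    (fun E a b c hE hrot ha hb hc => Sig.commute_of_rot S hbigU hE hrot ha hb hc) hF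
  set A := zpowers t with hA
  have hAC : A ≤ normalizer (core X : Set G) := (zpowers_le.2 hF.mem_t).trans (le_normalizer_core X)
  have hcop : (Nat.card A).Coprime (Nat.card (core X)) := by
    rw [hA, Nat.card_zpowers, hF.rot.ht]
    exact Nat.coprime_two_left.2 (odd_core X)
  have hsolv : Group.IsSolvable A ∨ Group.IsSolvable (core X) :=
    Or.inr (CfsgLib.OddLocal.FTFinal.odd_order_solvable (odd_core X))
  obtain ⟨R₁, hPR, hAR⟩ := CfsgLib.Core.exists_invariant_sylow_ge hAC hcop hsolv hPX hP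
    (zpowers_le.2 htP)
  have hAR0 : A ≤ normalizer ((R : Subgroup (core X)).map (core X).subtype : Set G) :=
    zpowers_le.2 (mem_normalizer_of_conj fun q hq => by
      rw [conj_eq_of_commute (hR q hq)]; exact hq)
  obtain ⟨c, hc, hcR⟩ := CfsgLib.Core.invariant_sylow_conj hAC hcop hsolv R R₁ hAR0 hAR
  intro p hp
  have h1 := hPR hp
  rw [← hcR, ← CfsgLib.Core.sylow_map_conj_smul, Subgroup.mem_pointwise_smul_iff_inv_smul_mem,
    ← map_inv, MulAut.smul_def, MulAut.conj_apply, inv_inv] at h1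
  have hct : Commute t (c : G) := mem_centralizer_iff.1 hc t (mem_zpowers t)
  have h2 : Commute t ((c : G)⁻¹ * p * (c : G)) := hR _ h1
  have h3 := h2.map (MulAut.conj (c : G)).toMonoidHom
  simp only [MulEquiv.coe_toMonoidHom, MulAut.conj_apply] at h3
  rw [conj_eq_of_commute hct.symm, show (c : G) * ((c : G)⁻¹ * p * (c : G)) * (c : G)⁻¹ = p by group]
    at h3
  exact h3.symm

end CfsgLib.GW.Dne
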