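import Cfsg.Agent.Lib.GW.Dne.Setup

/-!
# The counting lemma: interface

`M` is the normaliser of a line `⟨y⟩` of fixed points in a mixed prime, `w` an element of
`O(C(t)) ⊓ M` inverted by `u₁`; the conjugates of the line under `O(C(t))` are at most `orderOf w`.
-/

set_option autoImplicit false

namespace CfsgLib.GW.Dne

open Subgroup CfsgLib.GW

universe u

variable {G : Type u} [Group G]

/-- The data of the counting lemma. -/
structure LineData (σ : Hyp G) (t u₁ u₂ g₁ g₂ : G) (M : Subgroup G) (w : G) : Prop where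
  frame : Frame σ t u₁ u₂ g₁ g₂
  ne_top : M ≠ ⊤
  mem_t : t ∈ M
  mem_u₁ : u₁ ∈ M
  mem_u₂ : u₂ ∈ M
  mem_g₁ : g₁ ∈ M
  mem_g₂ : g₂ ∈ M
  not_solvable : ¬ Group.IsSolvable M
  w_mem : w ∈ U t ⊓ M
  w_inv : u₁ * w * u₁⁻¹ = w⁻¹
  w_core : ∀ k : ℤ, w ^ k ∈ core M → w ^ k = 1
  w_side : u₂ * w * u₂⁻¹ = w⁻¹ ∨ Commute w u₂
  index_ne : M.relIndex (U t) ≠ 1
  index_le : M.relIndex (U t) ≤ orderOf w
  pair : ∃ k : ℤ, w ^ k ≠ 1 ∧ ∀ h ∈ U t, h ∉ M → ∀ j ∈ M, orderOf j = 2 → h⁻¹ * j * h ∈ M →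
    Commute j (w ^ k)

/-- The counting lemma: the data are contradictory. -/
def LineCount (G : Type u) [Group G] : Prop :=
  ∀ (σ : Hyp G) (t u₁ u₂ g₁ g₂ : G) (M : Subgroup G) (w : G), ¬ LineData σ t u₁ u₂ g₁ g₂ M w

end CfsgLib.GW.Dne
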