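import Cfsg.Agent.Lib.GW.Dne.Local
import Cfsg.Agent.Lib.GW.ZJFactor

/-!
# Invariant Sylow subgroups of `O(C(t))`, centralisers of four-groups, fused subgroups
-/

set_option autoImplicit false

namespace CfsgLib.GW.Dne

open Subgroup DihedralGroup CfsgLib.GW
open CfsgLib.TwoGroups CfsgLib.TwoGroups.Dihedral
open CfsgLib.Signalizer (involution_sq involution_inv involution_ne_one orderOf_eq_two_of orderOf_conj)

universe u

variable {G : Type u} [Group G] [Finite G]

namespace Hyp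

variable (σ : Hyp G)

include σ in
/-- An element centralising a four-group is an odd element times an element of the four-group. -/
theorem commute_four {t u c : G} (ht : orderOf t = 2) (hu : orderOf u = 2) (hne : t ≠ u)
    (htu : Commute t u) (h1 : Commute c t) (h2 : Commute c u) :
    ∃ d ∈ D t u, ∃ s ∈ four t u, c = d * s := by
  classical
  have : Fact (Nat.Prime 2) := ⟨Nat.prime_two⟩
  obtain ⟨a, m, hm, hco⟩ := Nat.exists_eq_two_pow_mul_odd (orderOf_pos c).ne'
  have hgcd : Nat.gcd (2 ^ a) m = 1 := (Nat.coprime_two_left.2 hm).pow_left a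
  have hbez : (1 : ℤ) = (2 ^ a : ℕ) * Nat.gcdA (2 ^ a) m + (m : ℕ) * Nat.gcdB (2 ^ a) m := by
    have := Nat.gcd_eq_gcd_ab (2 ^ a) m
    rwa [hgcd, Nat.cast_one] at this
  set co : G := (c ^ 2 ^ a) ^ Nat.gcdA (2 ^ a) m with hco'
  set c2 : G := (c ^ m) ^ Nat.gcdB (2 ^ a) m with hc2'
  have hsplit : c = co * c2 := by
    rw [hco', hc2', ← zpow_natCast c m, ← zpow_mul, ← zpow_natCast c (2 ^ a), ← zpow_mul,
      ← zpow_add, ← hbez, zpow_one]
  have hcoD : co ∈ D t u := by
    refine zpow_mem ((σ.mem_D ht).2 ⟨h1.pow_left _, h2.pow_left _, ?_⟩) _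
    rw [orderOf_pow_of_dvd (pow_ne_zero _ two_ne_zero) (hco ▸ dvd_mul_right _ _), hco,
      Nat.mul_div_cancel_left _ (pow_pos two_pos a)]
    exact hm
  have hc2t : Commute c2 t := (h1.pow_left _).zpow_left _
  have hc2u : Commute c2 u := (h2.pow_left _).zpow_left _
  have hc2p : c2 ^ 2 ^ a = 1 := by
    rw [hc2', ← zpow_natCast, ← zpow_mul, mul_comm, zpow_mul, zpow_natCast, ← pow_mul, mul_comm,
      ← hco, pow_orderOf_eq_one, one_zpow]
  refine ⟨co, hcoD, c2, ?_, hsplit⟩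
  -- the `2`-part lies in the four-group
  have hQ : IsPGroup 2 (closure ({t, u, c2} : Set G)) := by
    letI : CommGroup (closure ({t, u, c2} : Set G)) := Subgroup.closureCommGroupOfComm (by
      intro p hp q hq
      rcases hp with rfl | rfl | rfl <;> rcases hq with rfl | rfl | rfl <;>
        first | rfl | exact htu.eq | exact htu.eq.symm | exact hc2t.eq | exact hc2t.eq.symm |
          exact hc2u.eq | exact hc2u.eq.symm)
    intro q
    refine ⟨a + 1, Subtype.ext ?_⟩
    rw [coe_pow, coe_one]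
    obtain ⟨q, hq⟩ := q
    show q ^ 2 ^ (a + 1) = 1
    induction hq using closure_induction with
    | mem y hy =>
      rcases hy with rfl | rfl | rfl
      · rw [pow_succ', pow_mul, pow_two, involution_sq ht, one_pow]
      · rw [pow_succ', pow_mul, pow_two, involution_sq hu, one_pow]
      · rw [pow_succ, pow_mul, hc2p, one_pow]
    | one => exact one_pow _
    | mul y z hy hz ihy ihz =>
      have hyz : Commute y z := congrArg Subtype.val
        (mul_comm (⟨y, hy⟩ : closure ({t, u, c2} : Set G)) ⟨z, hz⟩)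
      rw [hyz.mul_pow, ihy, ihz, one_mul]
    | inv y _ ih => rw [inv_pow, ih, inv_one]
  obtain ⟨e, he⟩ := exists_pull σ.range hQ
  obtain ⟨t', ht'⟩ := he t (subset_closure (by simp))
  obtain ⟨u', hu'⟩ := he u (subset_closure (by simp))
  obtain ⟨d, hd⟩ := he c2 (subset_closure (by simp))
  have hcomm : ∀ {p q : G} {p' q' : DihedralGroup (2 ^ σ.n)}, σ.f p' = e * p * e⁻¹ →
      σ.f q' = e * q * e⁻¹ → Commute p q → Commute p' q' := fun hp hq hpq => σ.inj (by
    rw [map_mul, map_mul, hp, hq]; exact (hpq.map (MulAut.conj e).toMonoidHom).eq)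
  have hd2 : d * d = 1 := by
    rcases d with i | i
    · -- a rotation commuting with a reflection
      have hto : orderOf t' = 2 := by rw [← orderOf_injective σ.f σ.inj, ht', orderOf_conj]; exact ht
      have huo : orderOf u' = 2 := by rw [← orderOf_injective σ.f σ.inj, hu', orderOf_conj]; exact hu
      have hsr : ∀ w : DihedralGroup (2 ^ σ.n), orderOf w = 2 → w = r (half σ.n) ∨ ∃ j, w = sr j := by
        intro w hw
        rcases w with k | k
        · rcases CfsgLib.TwoGroups.Dihedral.sq_eq_one_r σ.pos (involution_sq hw) with e' | e'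
          · exact absurd e' (involution_ne_one hw)
          · exact Or.inl (by rw [e'])
        · exact Or.inr ⟨k, rfl⟩
      obtain ⟨j, hj⟩ : ∃ j, Commute (r i) (sr j : DihedralGroup (2 ^ σ.n)) := by
        rcases hsr u' huo with e1 | ⟨j, e1⟩
        · rcases hsr t' hto with e2 | ⟨j, e2⟩
          · exfalso
            rw [e1, ← e2, ht'] at hu'
            exact hne (mul_left_cancel (mul_right_cancel hu'))
          · exact ⟨j, e2 ▸ hcomm hd ht' hc2t⟩
        · exact ⟨j, e1 ▸ hcomm hd hu' hc2u⟩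
      have h3 := hj.eq
      rw [r_mul_sr, sr_mul_r, sr.injEq] at h3
      rw [r_mul_r, show i + i = 0 by linear_combination -h3]
      rfl
    · exact sr_mul_self i
  have hc22 : c2 * c2 = 1 := by
    have := congrArg σ.f hd2
    rwa [map_mul, map_one, hd, show e * c2 * e⁻¹ * (e * c2 * e⁻¹) = e * (c2 * c2) * e⁻¹ by group,
      conj_eq_one_iff] at this
  rcases three_involutions σ.inj σ.range σ.pos ht hu hc22 hne htu hc2t.symm hc2u.symm with
    h | h | h | h
  · rw [h]; exact one_mem _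
  · rw [h]; exact subset_closure (by simp)
  · rw [h]; exact subset_closure (by simp)
  · rw [h]; exact mul_mem (subset_closure (by simp)) (subset_closure (by simp))

end Hyp

namespace Frame

variable {σ : Hyp G} {t u₁ u₂ g₁ g₂ : G} (h : Frame σ t u₁ u₂ g₁ g₂)

include h

theorem left_mem_normalizer_U : u₁ ∈ normalizer (U t : Set G) :=
  Setting.le_normalizer_U t (mem_centralizer_of_commute h.commute₁)

/-- A Sylow subgroup of `O(C(t))` invariant under the Sylow subgroup of the frame. -/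
theorem exists_invariant_sylow (r : ℕ) [Fact r.Prime] :
    ∃ P : Sylow r (U t), closure ({u₁, u₂} : Set G) ≤
      normalizer ((P : Subgroup (U t)).map (U t).subtype : Set G) := by
  refine CfsgLib.Core.exists_invariant_sylow
    (h.closure_le_centralizer.trans (Setting.le_normalizer_U t)) ?_
    (Or.inr (CfsgLib.OddLocal.FTFinal.odd_order_solvable (σ.odd_U h.ht))) r
  rw [h.card_closure]
  exact (Nat.coprime_two_left.2 (σ.odd_U h.ht)).pow_left _

/-- The fixed points on an invariant Sylow subgroup form a Sylow subgroup of `D`. -/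
theorem fixed_card_max {r : ℕ} [Fact r.Prime] {P : Sylow r (U t)}
    (hP : u₁ ∈ normalizer ((P : Subgroup (U t)).map (U t).subtype : Set G)) {R : Subgroup G}
    (hR : IsPGroup r R) (hRD : R ≤ D t u₁) :
    ∃ c ∈ D t u₁, ∀ x ∈ R, c * x * c⁻¹ ∈
      (P : Subgroup (U t)).map (U t).subtype ⊓ centralizer ({u₁} : Set G) := by
  have hA : zpowers u₁ ≤ normalizer (U t : Set G) := zpowers_le.2 h.left_mem_normalizer_U
  have hcop := coprime_zpowers_two h.hu₁ (σ.odd_U h.ht)
  have hs : Group.IsSolvable (zpowers u₁) ∨ Group.IsSolvable (U t) :=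
    Or.inr (CfsgLib.OddLocal.FTFinal.odd_order_solvable (σ.odd_U h.ht))
  have hAR : zpowers u₁ ≤ normalizer (R : Set G) := zpowers_le.2 (mem_normalizer_of_conj fun x hx => by
    rw [conj_eq_of_commute (Hyp.D_commute (hRD hx)).symm]; exact hx)
  obtain ⟨P₁, hRP, hP₁⟩ := CfsgLib.Core.exists_invariant_sylow_ge hA hcop hs
    (hRD.trans (Hyp.D_le_U t u₁)) hR hAR
  obtain ⟨c, hcC, hc⟩ := CfsgLib.Core.invariant_sylow_conj hA hcop hs P₁ P hP₁ (zpowers_le.2 hP)
  have hcu : Commute (c : G) u₁ := by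
    have := mem_centralizer_iff.1 hcC u₁ (mem_zpowers u₁)
    exact this.symm
  have hcD : (c : G) ∈ D t u₁ := ⟨c.2, mem_centralizer_of_commute hcu⟩
  refine ⟨c, hcD, fun x hx => ⟨?_, ?_⟩⟩
  · obtain ⟨y, hy, rfl⟩ := hRP hx
    refine ⟨c * y * c⁻¹, ?_, rfl⟩
    rw [← hc, SetLike.mem_coe, CfsgLib.Transfer.mem_sylow_smul]
    show (c⁻¹ * (c * y * c⁻¹) * c : U t) ∈ (P₁ : Subgroup (U t))
    rwa [show c⁻¹ * (c * y * c⁻¹) * c = y by group]
  · exact mem_centralizer_of_commute
      ((hcu.mul_left (Hyp.D_commute (hRD hx))).mul_left hcu.inv_left)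

/-- A proper subgroup containing the Sylow subgroup and both rotations is not solvable. -/
theorem not_isSolvable (hn : 2 ≤ σ.n) {X : Subgroup G} (hg₁ : g₁ ∈ X) (hg₂ : g₂ ∈ X)
    (hS : closure ({u₁, u₂} : Set G) ≤ X) : ¬ Group.IsSolvable X := by
  intro hs
  classical
  haveI := hs
  have : Fact (Nat.Prime 2) := ⟨Nat.prime_two⟩
  obtain ⟨P, hP⟩ := h.exists_sylow
  set S₀ := closure ({u₁, u₂} : Set G) with hS₀
  set O := Cfsg.oddCore X with hO
  set Y := X ⧸ O with hY
  have hO' : Cfsg.pPrimeCore 2 Y = ⊥ := CfsgLib.Core.pPrimeCore_quotient_pPrimeCore 2 X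
  set π : X →* Y := QuotientGroup.mk' O with hπ
  have htX : t ∈ X := hS h.t_mem_closure
  have hu₁X : u₁ ∈ X := hS (subset_closure (by simp))
  have hu₂X : u₂ ∈ X := hS (subset_closure (by simp))
  have hker : ∀ {a : X}, π a = 1 → a ∈ O := fun ha => (QuotientGroup.eq_one_iff _).1 ha
  have htwo : ∀ {a : X}, a ∈ O → (a : G) ∈ S₀ → (a : G) = 1 := fun {a} ha haS => by
    obtain ⟨k, hk⟩ := IsPGroup.iff_orderOf.1 P.2 ⟨(a : G), hP ▸ haS⟩
    rw [Subgroup.orderOf_mk] at hk
    have h2 : orderOf (a : G) ∣ Nat.card O := by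
      rw [Subgroup.orderOf_coe]; exact Subgroup.orderOf_dvd_natCard _ ha
    exact orderOf_eq_one_iff.1 (Nat.eq_one_of_dvd_coprimes
      ((CfsgLib.Core.coprime_card_pPrimeCore 2 X).pow_right k) h2 (hk ▸ dvd_rfl))
  -- `O₂` contains an involution, hence all
  haveI hnorm : (Cfsg.pCore 2 Y).Normal := CfsgLib.Core.normal_pCore 2 Y
  have hne : Cfsg.pCore 2 Y ≠ ⊥ := by
    intro e
    have h1 := CfsgLib.GW.centralizer_pCore_le_of_solvable hO' (by infer_instance)
    rw [e] at h1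
    have h2 : π ⟨t, htX⟩ = 1 := mem_bot.1 (h1 (mem_centralizer_iff.2 fun y hy => by
      rw [mem_bot.1 hy, one_mul, mul_one]))
    exact involution_ne_one h.ht (htwo (hker h2) h.t_mem_closure)
  have hone : ∀ x : X, orderOf (x : G) = 2 → ∃ m : X, (m : G) * t * (m : G)⁻¹ = x := by
    intro x hx
    have hz : IsPGroup 2 (zpowers x) :=
      IsPGroup.of_card (n := 1) (by rw [Nat.card_zpowers, pow_one, ← Subgroup.orderOf_coe]; exact hx)
    have hPX : (P : Subgroup G) ≤ X := hP ▸ hS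
    obtain ⟨k, hk⟩ := CfsgLib.TwoGroups.exists_conj_le_sylow (P.subtype hPX) hz
    have h1 := hk (CfsgLib.TwoGroups.conj_mem_map_conj (mem_zpowers x))
    rw [Sylow.coe_subtype, mem_subgroupOf, hP] at h1
    have h1o : orderOf ((k : G) * x * (k : G)⁻¹) = 2 := by rw [orderOf_conj]; exact hx
    rcases h.involution_cases h1 h1o with e | ⟨c, hc, e | e⟩
    · refine ⟨k⁻¹, ?_⟩
      simp only [Subgroup.coe_mul, Subgroup.coe_inv] at e ⊢
      rw [← e]; group
    · refine ⟨k⁻¹ * (⟨c, hS hc⟩ : X)⁻¹ * ⟨g₁, hg₁⟩, ?_⟩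
      simp only [Subgroup.coe_mul, Subgroup.coe_inv] at e ⊢
      calc (k : G)⁻¹ * c⁻¹ * g₁ * t * ((k : G)⁻¹ * c⁻¹ * g₁)⁻¹
          = (k : G)⁻¹ * c⁻¹ * (g₁ * t * g₁⁻¹) * c * k := by group
        _ = x := by rw [h.rot₁.conj1, ← e]; group
    · refine ⟨k⁻¹ * (⟨c, hS hc⟩ : X)⁻¹ * ⟨g₂, hg₂⟩, ?_⟩
      simp only [Subgroup.coe_mul, Subgroup.coe_inv] at e ⊢
      calc (k : G)⁻¹ * c⁻¹ * g₂ * t * ((k : G)⁻¹ * c⁻¹ * g₂)⁻¹
          = (k : G)⁻¹ * c⁻¹ * (g₂ * t * g₂⁻¹) * c * k := by group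
        _ = x := by rw [h.rot₂.conj1, ← e]; group
  obtain ⟨w, hwC, hwo⟩ : ∃ w ∈ Cfsg.pCore 2 Y, orderOf w = 2 := by
    obtain ⟨k, hk, hcard⟩ := ((CfsgLib.Core.isPGroup_pCore 2 Y).nontrivial_iff_card).1
      ((nontrivial_iff_ne_bot _).2 hne)
    obtain ⟨w, hw⟩ := exists_prime_orderOf_dvd_card' (G := Cfsg.pCore 2 Y) 2
      (hcard ▸ dvd_pow_self 2 hk.ne')
    exact ⟨w, w.2, by rw [Subgroup.orderOf_coe]; exact hw⟩
  obtain ⟨w₀, rfl⟩ := QuotientGroup.mk'_surjective O w
  have htC : π ⟨t, htX⟩ ∈ Cfsg.pCore 2 Y := by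
    obtain ⟨a, m, hm, hwo'⟩ := Nat.exists_eq_two_pow_mul_odd (orderOf_pos w₀).ne'
    -- the `2`-part of a lift is a lift
    have hlift : π (w₀ ^ m) = π w₀ := by
      obtain ⟨j, hj⟩ := hm
      rw [map_pow, hj, pow_succ, pow_mul, pow_two, involution_sq hwo, one_pow, one_mul]
    have h2 : orderOf ((w₀ ^ m : X) : G) = 2 ^ a := by
      rw [Subgroup.orderOf_coe, orderOf_pow_of_dvd hm.pos.ne' (hwo' ▸ dvd_mul_left _ _), hwo',
        Nat.mul_div_cancel _ hm.pos]
    have ha : a ≠ 0 := fun e => by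
      rw [e, pow_zero, orderOf_eq_one_iff] at h2
      rw [show w₀ ^ m = 1 from Subtype.ext h2, map_one] at hlift
      rw [← hlift, orderOf_one] at hwo
      exact absurd hwo (by norm_num)
    set i : X := (w₀ ^ m) ^ 2 ^ (a - 1) with hi
    have hio : orderOf (i : G) = 2 := by
      rw [hi, coe_pow, orderOf_pow_of_dvd (pow_ne_zero _ two_ne_zero)
        (h2 ▸ pow_dvd_pow 2 (Nat.sub_le a 1)), h2, Nat.pow_div (Nat.sub_le a 1) two_pos,
        show a - (a - 1) = 1 by omega, pow_one]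
    obtain ⟨mm, hmm⟩ := hone i hio
    have hiC : π i ∈ Cfsg.pCore 2 Y := by
      rw [hi, map_pow, hlift]; exact pow_mem hwC _
    have e : π ⟨t, htX⟩ = (π mm)⁻¹ * π i * π mm := by
      rw [← map_inv, ← map_mul, ← map_mul]
      congr 1
      refine Subtype.ext ?_
      simp only [Subgroup.coe_mul, Subgroup.coe_inv, ← hmm]
      group
    rw [e]
    have h7 := hnorm.conj_mem _ hiC (π mm)⁻¹
    rwa [inv_inv] at h7
  have hall : ∀ x : X, orderOf (x : G) = 2 → π x ∈ Cfsg.pCore 2 Y := by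
    intro x hx
    obtain ⟨m, hm⟩ := hone x hx
    have e : π x = π m * π ⟨t, htX⟩ * (π m)⁻¹ := by
      rw [← map_inv, ← map_mul, ← map_mul]
      exact congrArg π (Subtype.ext (by simp [hm]))
    rw [e]
    exact hnorm.conj_mem _ htC _
  -- `u₁` is the image of `t`, which is central
  let SX : Subgroup X := S₀.comap X.subtype
  have hle : Cfsg.pCore 2 Y ≤ SX.map π := by
    have h1 : Nat.card (SX.map π) = Nat.card S₀ := by
      rw [← Nat.card_congr (subgroupOfEquivOfLe hS).toEquiv]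
      refine (Nat.card_congr (Equiv.ofBijective
        (fun a : SX => (⟨π a, a, a.2, rfl⟩ : SX.map π)) ⟨fun a b e => ?_, ?_⟩)).symm
      · have e' : π ((a : X)⁻¹ * b) = 1 := by
          have e'' : π a = π b := congrArg Subtype.val e
          rw [map_mul, map_inv, e'', inv_mul_cancel]
        have h3 := htwo (hker e') (mul_mem (inv_mem a.2) b.2)
        exact Subtype.ext (inv_mul_eq_one.1 (Subtype.ext h3))
      · rintro ⟨_, a, ha, rfl⟩
        exact ⟨⟨a, ha⟩, rfl⟩
    have h2 : SX.map π ≤ Cfsg.pCore 2 Y := by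
      rw [map_le_iff_le_comap]
      intro a ha
      have hu : ∀ b : G, b ∈ S₀ → ∀ hb : b ∈ X, π ⟨b, hb⟩ ∈ Cfsg.pCore 2 Y := by
        intro b hb
        induction hb using closure_induction with
        | mem y hy =>
          intro hy'
          refine hall ⟨y, hy'⟩ ?_
          rcases hy with rfl | rfl
          exacts [h.hu₁, h.hu₂]
        | one => exact fun _ => one_mem _
        | mul y z hy hz ihy ihz =>
          intro _
          have := mul_mem (ihy (hS hy)) (ihz (hS hz))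
          rwa [← map_mul] at this
        | inv y hy ih =>
          intro _
          have := inv_mem (ih (hS hy))
          rwa [← map_inv] at this
      exact hu a ha a.2
    refine (eq_of_le_of_card_ge h2 ?_).ge
    rw [h1, h.card_closure]
    obtain ⟨k, hk⟩ := IsPGroup.iff_card.1 (CfsgLib.Core.isPGroup_pCore 2 Y)
    have h3 : 2 ^ k ∣ Nat.card X :=
      hk ▸ (card_subgroup_dvd_card _).trans (card_quotient_dvd_card O)
    have h4 : Nat.card X ∣ Nat.card G := card_subgroup_dvd_card X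
    rw [hk, h.two_pow_eq_card_sylow, Sylow.card_eq_multiplicity]
    exact Nat.pow_le_pow_right two_pos
      ((Nat.Prime.pow_dvd_iff_le_factorization Nat.prime_two Nat.card_pos.ne').1 (h3.trans h4))
  -- so the image of `t` is central in the image of `S₀`, and so is its conjugate `u₁`
  have hcen : ∀ y ∈ Cfsg.pCore 2 Y, Commute y (π ⟨t, htX⟩) := by
    intro y hy
    obtain ⟨a, ha, rfl⟩ := hle hy
    have h1 : Commute a (⟨t, htX⟩ : X) :=
      Subtype.ext (commute_of_mem_centralizer (h.closure_le_centralizer ha)).eq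
    exact h1.map π
  have hcen₁ : Commute (π ⟨u₂, hu₂X⟩) (π ⟨u₁, hu₁X⟩) := by
    have e : π ⟨u₁, hu₁X⟩ = π ⟨g₁, hg₁⟩ * π ⟨t, htX⟩ * (π ⟨g₁, hg₁⟩)⁻¹ := by
      rw [← map_inv, ← map_mul, ← map_mul]
      exact congrArg π (Subtype.ext (by simp [h.rot₁.conj1]))
    have h2 := hnorm.conj_mem _ (hall ⟨u₂, hu₂X⟩ h.hu₂) (π ⟨g₁, hg₁⟩)⁻¹
    have h3 := (hcen _ h2).map (MulAut.conj (π ⟨g₁, hg₁⟩)).toMonoidHom
    rw [e]
    simpa [mul_assoc] using h3
  have hk1 : π (⟨u₁, hu₁X⟩ * ⟨u₂, hu₂X⟩ * (⟨u₁, hu₁X⟩ * ⟨u₂, hu₂X⟩)) = 1 := by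
    have e1 : π ⟨u₁, hu₁X⟩ * π ⟨u₁, hu₁X⟩ = 1 := by
      rw [← map_mul, show (⟨u₁, hu₁X⟩ : X) * ⟨u₁, hu₁X⟩ = 1 from
        Subtype.ext (involution_sq h.hu₁), map_one]
    have e2 : π ⟨u₂, hu₂X⟩ * π ⟨u₂, hu₂X⟩ = 1 := by
      rw [← map_mul, show (⟨u₂, hu₂X⟩ : X) * ⟨u₂, hu₂X⟩ = 1 from
        Subtype.ext (involution_sq h.hu₂), map_one]
    rw [map_mul, map_mul, mul_assoc, ← mul_assoc (π ⟨u₂, hu₂X⟩), hcen₁.eq, mul_assoc, e2, mul_one, e1]
  have h4 := htwo (hker hk1) (by
    have := mul_mem (subset_closure (by simp) : u₁ ∈ S₀) (subset_closure (by simp) : u₂ ∈ S₀)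
    exact mul_mem this this)
  have h5 : orderOf (u₁ * u₂) ∣ 2 := orderOf_dvd_of_pow_eq_one (by rw [pow_two]; exact h4)
  rw [h.ord] at h5
  have h6 : 2 ^ 2 ≤ 2 ^ σ.n := Nat.pow_le_pow_right two_pos hn
  have h7 := Nat.le_of_dvd two_pos h5
  norm_num at h6
  omega

end Frame

end CfsgLib.GW.Dne
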