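import Cfsg.Agent.Lib.GW.Dne.Inverted
import Cfsg.Agent.Lib.GW.Dne.Sylows
import Cfsg.Agent.Lib.GW.Dne.Line

/-!
# Tools for the counting lemma

Centraliser orders of the frame, the order bound of the principal block, the fixed points of a
rotated four-group on a normalised odd subgroup, and `A₇` has no element of order twelve.
-/

set_option autoImplicit false

namespace CfsgLib.GW.Dne.Line

open Subgroup DihedralGroup CfsgLib.GW
open CfsgLib.TwoGroups CfsgLib.TwoGroups.Dihedral
open CfsgLib.Signalizer (involution_sq involution_inv involution_ne_one orderOf_eq_two_of orderOf_conj)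

universe u

variable {G : Type u} [Group G] [Finite G]

theorem zmod_two_neg : ∀ w : ZMod 2, -w = w := by decide

theorem zmod_two_neg_one_ne : ¬ ((-1 : ZMod 2) = 0) := by decide

/-- `A₇` has no element of order twelve. -/
theorem alt_seven_ne_twelve (z : alternatingGroup (Fin 7)) : orderOf z ≠ 12 := by
  intro hz
  set s := (z : Equiv.Perm (Fin 7)) with hs
  have ho : s.cycleType.lcm = 12 := by
    rw [Equiv.Perm.lcm_cycleType, hs, Subgroup.orderOf_coe]; exact hz
  have hsum : s.cycleType.sum ≤ 7 := (s.sum_cycleType_le).trans_eq (Fintype.card_fin 7)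
  have hpart : ∀ p ∈ s.cycleType, 2 ≤ p ∧ p ≤ 7 ∧ p ∣ 12 := fun p hp =>
    ⟨Equiv.Perm.two_le_of_mem_cycleType hp,
      (Multiset.single_le_sum (fun _ _ => Nat.zero_le _) _ hp).trans hsum,
      ho ▸ Multiset.dvd_lcm hp⟩
  have h4 : 4 ∈ s.cycleType := by
    by_contra h4
    have h6 : s.cycleType.lcm ∣ 6 := Multiset.lcm_dvd.2 fun p hp => by
      obtain ⟨h1, h2, h3⟩ := hpart p hp
      interval_cases p <;> first | exact absurd hp h4 | omega
    rw [ho] at h6
    norm_num at h6
  obtain ⟨m, hm⟩ := Multiset.exists_cons_of_mem h4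
  rw [hm, Multiset.sum_cons] at hsum
  rw [hm, Multiset.lcm_cons] at ho
  have h3 : 3 ∈ m := by
    by_contra h3
    have h2 : m.lcm ∣ 4 := Multiset.lcm_dvd.2 fun p hp => by
      have h1 := Equiv.Perm.two_le_of_mem_cycleType (show p ∈ s.cycleType from hm ▸ Multiset.mem_cons_of_mem hp)
      have h5 := Multiset.single_le_sum (fun _ _ => Nat.zero_le _) _ hp
      have h6 : p ≤ 3 := by omega
      interval_cases p
      · norm_num
      · exact absurd hp h3
    have h7 : GCDMonoid.lcm 4 m.lcm ∣ 4 := lcm_dvd dvd_rfl h2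
    rw [ho] at h7
    norm_num at h7
  obtain ⟨m', hm'⟩ := Multiset.exists_cons_of_mem h3
  rw [hm', Multiset.sum_cons] at hsum
  have hm0 : m' = 0 := by
    refine Multiset.eq_zero_of_forall_notMem fun p hp => ?_
    have h1 := Equiv.Perm.two_le_of_mem_cycleType (show p ∈ s.cycleType from
      hm ▸ Multiset.mem_cons_of_mem (hm' ▸ Multiset.mem_cons_of_mem hp))
    have h5 := Multiset.single_le_sum (fun _ _ => Nat.zero_le _) _ hp
    omega
  have hsign := Equiv.Perm.sign_of_cycleType s
  rw [hs, Equiv.Perm.mem_alternatingGroup.1 z.2, ← hs, hm, hm', hm0] at hsign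
  exact absurd hsign (by decide)

/-- The fixed points of the involutions of a rotated four-group on a normalised odd subgroup. -/
theorem cube_le {O : Subgroup G} (hO : Odd (Nat.card O)) {t u g : G} (hR : Rot t u g)
    (htO : t ∈ normalizer (O : Set G)) (huO : u ∈ normalizer (O : Set G))
    (hgO : g ∈ normalizer (O : Set G)) :
    Nat.card (O ⊓ centralizer ({t} : Set G) : Subgroup G) ^ 3 ≤
      Nat.card O * Nat.card (O ⊓ centralizer ({t} : Set G) ⊓ centralizer ({u} : Set G) : Subgroup G) ^ 2 := by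
  classical
  haveI := Fintype.ofFinite G
  set A := O ⊓ centralizer ({t} : Set G) with hA
  set B := O ⊓ centralizer ({u} : Set G) with hB
  set C := O ⊓ centralizer ({t * u} : Set G) with hC
  set T := A ⊓ centralizer ({u} : Set G) with hT
  have hmove : ∀ {h v w : G}, h ∈ normalizer (O : Set G) → h * v * h⁻¹ = w →
      Nat.card (O ⊓ centralizer ({v} : Set G) : Subgroup G) ≤
        Nat.card (O ⊓ centralizer ({w} : Set G) : Subgroup G) := by
    intro h v w hh e
    refine Nat.card_le_card_of_injective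
      (fun a => ⟨h * a * h⁻¹, (mem_normalizer_iff.1 hh a).1 a.2.1, mem_centralizer_of_commute
        (e ▸ (commute_of_mem_centralizer a.2.2).map (MulAut.conj h).toMonoidHom)⟩)
      fun a b e' => Subtype.ext (mul_left_cancel (mul_right_cancel (congrArg Subtype.val e')))
  have hAB : Nat.card A ≤ Nat.card B := hmove hgO hR.conj1
  have hAC : Nat.card A ≤ Nat.card C := hmove (inv_mem hgO) (swap_rot hR).conj1
  -- the product map
  let P : A × B × C → O := fun p => ⟨(p.1 : G) * p.2.1 * p.2.2,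
    mul_mem (mul_mem p.1.2.1 p.2.1.2.1) p.2.2.2.1⟩
  have hfib : ∀ o ∈ (Finset.univ : Finset O),
      ((Finset.univ : Finset (A × B × C)).filter fun p => P p = o).card ≤ Nat.card T ^ 2 := by
    intro o _
    rcases ((Finset.univ : Finset (A × B × C)).filter fun p => P p = o).eq_empty_or_nonempty with
      he | ⟨p₀, hp₀⟩
    · rw [he]; simp
    rw [Finset.mem_filter] at hp₀
    have key : ∀ p : A × B × C, P p = o →
        (p.1 : G)⁻¹ * p₀.1 ∈ T ∧ (p₀.2.2 : G) * (p.2.2 : G)⁻¹ ∈ T := by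
      rintro ⟨⟨a, ha⟩, ⟨b, hb⟩, ⟨c, hc⟩⟩ hp
      obtain ⟨⟨⟨a₀, ha₀⟩, ⟨b₀, hb₀⟩, ⟨c₀, hc₀⟩⟩, -⟩ := p₀, hp₀.1
      have hprod : a * b * c = a₀ * b₀ * c₀ := congrArg Subtype.val (hp.trans hp₀.2.symm)
      show a⁻¹ * a₀ ∈ T ∧ c₀ * c⁻¹ ∈ T
      set α := a⁻¹ * a₀ with hα
      set γ := c₀ * c⁻¹ with hγ
      have hαA : α ∈ A := mul_mem (inv_mem ha) ha₀
      have hγC : γ ∈ C := mul_mem hc₀ (inv_mem hc)
      have hb' : b = α * b₀ * γ := by
        calc b = a⁻¹ * (a * b * c) * c⁻¹ := by group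
          _ = α * b₀ * γ := by rw [hprod, hα, hγ]; group
      have hub : ∀ {z : G}, Commute z u → u * z * u⁻¹ = z := fun h => conj_eq_of_commute h.symm
      set α' := u * α * u⁻¹ with hα'
      set γ' := u * γ * u⁻¹ with hγ'
      have hb'' : b = α' * b₀ * γ' := by
        rw [← hub (commute_of_mem_centralizer hb.2), hb', hα', hγ']
        rw [show u * (α * b₀ * γ) * u⁻¹ = u * α * u⁻¹ * (u * b₀ * u⁻¹) * (u * γ * u⁻¹) by group,
          hub (commute_of_mem_centralizer hb₀.2)]
      have e1 : b₀⁻¹ * (α⁻¹ * α') * b₀ = γ * γ'⁻¹ := by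
        have h1 : α * b₀ * γ = α' * b₀ * γ' := hb'.symm.trans hb''
        calc b₀⁻¹ * (α⁻¹ * α') * b₀ = b₀⁻¹ * α⁻¹ * (α' * b₀ * γ') * γ'⁻¹ := by group
          _ = γ * γ'⁻¹ := by rw [← h1]; group
      -- the action of `t`
      have hγt : t * γ' * t⁻¹ = γ := by
        have := conj_eq_of_commute (commute_of_mem_centralizer hγC.2).symm
        rw [← this, hγ']; group
      have hγt' : t * γ * t⁻¹ = γ' := by
        rw [← hγt, show t * (t * γ' * t⁻¹) * t⁻¹ = t * t * γ' * (t * t)⁻¹ by group,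
          involution_sq hR.ht]
        simp
      have hα't : Commute (α⁻¹ * α') t := by
        refine (commute_of_mem_centralizer hαA.2).inv_left.mul_left ?_
        have h := (commute_of_mem_centralizer hαA.2).map (MulAut.conj u).toMonoidHom
        have e : u * t * u⁻¹ = t := by rw [← hR.comm.eq, mul_inv_cancel_right]
        simpa [e] using h
      set d := (t * b₀ * t⁻¹)⁻¹ * b₀ with hd
      have hdO : d ∈ O := mul_mem (inv_mem ((mem_normalizer_iff.1 htO b₀).1 hb₀.1)) hb₀.1
      have hBO : γ * γ'⁻¹ ∈ O :=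
        mul_mem hγC.1 (inv_mem ((mem_normalizer_iff.1 huO γ).1 hγC.1))
      have e2 : d * (γ * γ'⁻¹) * d⁻¹ = (γ * γ'⁻¹)⁻¹ := by
        have h1 : t * (γ * γ'⁻¹) * t⁻¹ = (γ * γ'⁻¹)⁻¹ := by
          rw [show t * (γ * γ'⁻¹) * t⁻¹ = t * γ * t⁻¹ * (t * γ' * t⁻¹)⁻¹ by group, hγt, hγt']
          group
        have h2 : t * (α⁻¹ * α') * t⁻¹ = α⁻¹ * α' := conj_eq_of_commute hα't.symm
        calc d * (γ * γ'⁻¹) * d⁻¹
            = (t * b₀ * t⁻¹)⁻¹ * (b₀ * (b₀⁻¹ * (α⁻¹ * α') * b₀) * b₀⁻¹) * (t * b₀ * t⁻¹) := by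
              rw [e1, hd]; group
          _ = t * b₀⁻¹ * t⁻¹ * (α⁻¹ * α') * (t * b₀ * t⁻¹) := by group
          _ = t * b₀⁻¹ * t⁻¹ * (t * (α⁻¹ * α') * t⁻¹) * (t * b₀ * t⁻¹) := by rw [h2]
          _ = t * (b₀⁻¹ * (α⁻¹ * α') * b₀) * t⁻¹ := by group
          _ = (γ * γ'⁻¹)⁻¹ := by rw [e1, h1]
      have hB1 : γ * γ'⁻¹ = 1 :=
        eq_one_of_conj_eq_inv (odd_orderOf_of_mem hO hdO) (odd_orderOf_of_mem hO hBO) e2
      have hA1 : α⁻¹ * α' = 1 := by
        rw [hB1] at e1
        exact conj_eq_one_iff.1 (show b₀⁻¹ * (α⁻¹ * α') * b₀⁻¹⁻¹ = 1 by rw [inv_inv]; exact e1)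
      have hγu : Commute γ u := (commute_of_conj_eq (mul_inv_eq_one.1 hB1).symm).symm
      have hαu : Commute α u := (commute_of_conj_eq (inv_mul_eq_one.1 hA1).symm).symm
      refine ⟨⟨hαA, mem_centralizer_of_commute hαu⟩, ⟨hγC.1, mem_centralizer_of_commute ?_⟩,
        mem_centralizer_of_commute hγu⟩
      have h := (commute_of_mem_centralizer hγC.2).mul_right hγu
      rwa [mul_assoc, involution_sq hR.hu, mul_one] at h
    have hcard : Nat.card T ^ 2 = (Finset.univ : Finset (T × T)).card := by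
      rw [Finset.card_univ, ← Nat.card_eq_fintype_card, Nat.card_prod, pow_two]
    rw [hcard]
    refine Finset.card_le_card_of_injOn
      (fun p => if h : P p = o then (⟨_, (key p h).1⟩, ⟨_, (key p h).2⟩) else 1)
      (fun _ _ => Finset.mem_coe.2 (Finset.mem_univ _)) ?_
    intro p hp q hq e
    have hp' : P p = o := (Finset.mem_filter.1 hp).2
    have hq' : P q = o := (Finset.mem_filter.1 hq).2
    simp only [dif_pos hp', dif_pos hq', Prod.mk.injEq, Subtype.mk.injEq] at e
    have e1 : (p.1 : G) = q.1 := inv_injective (mul_right_cancel e.1)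
    have e3 : (p.2.2 : G) = q.2.2 := inv_injective (mul_left_cancel e.2)
    have e2 : (p.2.1 : G) = q.2.1 := by
      have h := congrArg Subtype.val (hp'.trans hq'.symm)
      simp only [P, e1, e3] at h
      exact mul_left_cancel (mul_right_cancel h)
    exact Prod.ext (Subtype.ext e1) (Prod.ext (Subtype.ext e2) (Subtype.ext e3))
  have hmain := Finset.card_le_mul_card_image_of_maps_to
    (f := P) (s := Finset.univ) (t := Finset.univ) (fun _ _ => Finset.mem_univ _) _ hfib
  rw [Finset.card_univ, Finset.card_univ, ← Nat.card_eq_fintype_card, ← Nat.card_eq_fintype_card,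
    Nat.card_prod, Nat.card_prod] at hmain
  calc Nat.card A ^ 3 = Nat.card A * (Nat.card A * Nat.card A) := by ring
    _ ≤ Nat.card A * (Nat.card B * Nat.card C) :=
      Nat.mul_le_mul_left _ (Nat.mul_le_mul hAB hAC)
    _ ≤ Nat.card T ^ 2 * Nat.card O := hmain
    _ = _ := mul_comm _ _

variable {σ : Hyp G} {t u₁ u₂ g₁ g₂ : G}

theorem card_four {v w : G} (hv : orderOf v = 2) (hw : orderOf w = 2) (hne : v ≠ w)
    (hc : Commute v w) : Nat.card (four v w) = 4 := by
  obtain ⟨F, hF, hR⟩ := CfsgLib.Signalizer.exists_dihedral_hom hv hw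
  rw [four, ← hR, ← Nat.card_congr (MonoidHom.ofInjective hF).toEquiv, DihedralGroup.nat_card,
    orderOf_eq_two_of (fun e => hne ((eq_inv_of_mul_eq_one_left e).trans (involution_inv hw))) (by
      rw [show v * w * (v * w) = v * (w * v) * w by group, ← hc.eq,
        show v * (v * w) * w = v * v * (w * w) by group, involution_sq hv, involution_sq hw, one_mul])]

/-- `|C(⟨t, u⟩)| = 4 |D t u|`. -/
theorem card_centralizer_pair (σ : Hyp G) {v w : G} (hv : orderOf v = 2) (hw : orderOf w = 2)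
    (hne : v ≠ w) (hc : Commute v w) :
    Nat.card (centralizer ({v, w} : Set G)) = 4 * Nat.card (D v w) := by
  haveI : Fact (Nat.Prime 2) := ⟨Nat.prime_two⟩
  have hcom : ∀ {a}, a ∈ centralizer ({v, w} : Set G) ↔ Commute a v ∧ Commute a w := fun {a} => by
    rw [mem_centralizer_iff]
    exact ⟨fun h => ⟨(h v (by simp)).symm, (h w (by simp)).symm⟩, fun h b hb => by
      rcases hb with rfl | rfl
      exacts [h.1.eq.symm, h.2.eq.symm]⟩
  have hVD : four v w ≤ normalizer (D v w : Set G) := four_le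
    (Hyp.commute_centralizer_mem_normalizer_D (Commute.refl v) hc)
    (Hyp.commute_centralizer_mem_normalizer_D hc.symm (Commute.refl w))
  have heq : centralizer ({v, w} : Set G) = four v w ⊔ D v w := by
    refine le_antisymm (fun c hc' => ?_) (sup_le (four_le ?_ ?_) fun a ha => ?_)
    · obtain ⟨h1, h2⟩ := hcom.1 hc'
      obtain ⟨d, hd, s, hs, rfl⟩ := σ.commute_four hv hw hne hc h1 h2
      exact mul_mem (mem_sup_right hd) (mem_sup_left hs)
    · exact hcom.2 ⟨Commute.refl v, hc⟩
    · exact hcom.2 ⟨hc.symm, Commute.refl w⟩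
    · exact hcom.2 ⟨((σ.mem_D hv).1 ha).1, ((σ.mem_D hv).1 ha).2.1⟩
  rw [heq, CfsgLib.Core.card_sup_of_coprime _ _ hVD, card_four hv hw hne hc]
  rw [card_four hv hw hne hc]
  exact (Nat.coprime_two_left.2 (σ.odd_D hv)).pow_left 2

theorem card_centralizer_conj (s : Set G) (c : G) :
    Nat.card (centralizer ((fun z => c * z * c⁻¹) '' s)) = Nat.card (centralizer s) := by
  refine le_antisymm ?_ ?_
  · refine Nat.card_le_card_of_injective (fun a => ⟨c⁻¹ * a * c, mem_centralizer_iff.2 fun z hz => ?_⟩)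
      fun a b e => Subtype.ext (mul_left_cancel (mul_right_cancel (congrArg Subtype.val e)))
    have h := mem_centralizer_iff.1 a.2 _ ⟨z, hz, rfl⟩
    calc z * (c⁻¹ * a * c) = c⁻¹ * (c * z * c⁻¹ * a) * c := by group
      _ = c⁻¹ * a * c * z := by rw [h]; group
  · refine Nat.card_le_card_of_injective (fun a => ⟨c * a * c⁻¹, mem_centralizer_iff.2 ?_⟩)
      fun a b e => Subtype.ext (mul_left_cancel (mul_right_cancel (congrArg Subtype.val e)))
    rintro _ ⟨z, hz, rfl⟩
    have h := mem_centralizer_iff.1 a.2 z hz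
    calc c * z * c⁻¹ * (c * a * c⁻¹) = c * (z * a) * c⁻¹ := by group
      _ = c * a * c⁻¹ * (c * z * c⁻¹) := by rw [h]; group

theorem card_centralizer_t (h : Frame σ t u₁ u₂ g₁ g₂) :
    Nat.card (centralizer ({t} : Set G)) = 2 ^ (σ.n + 1) * Nat.card (U t) := by
  have hPN : closure ({u₁, u₂} : Set G) ≤ normalizer (U t : Set G) :=
    h.closure_le_centralizer.trans (Setting.le_normalizer_U t)
  have heq : centralizer ({t} : Set G) = closure ({u₁, u₂} : Set G) ⊔ U t := by
    refine le_antisymm (fun c hc => ?_) (sup_le h.closure_le_centralizer (U_le t))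
    obtain ⟨a, ha, s, hs, rfl⟩ := h.exists_mul (commute_of_mem_centralizer hc)
    exact mul_mem (mem_sup_right ha) (mem_sup_left hs)
  rw [heq, CfsgLib.Core.card_sup_of_coprime _ _ hPN (by
    rw [h.card_closure]; exact (Nat.coprime_two_left.2 (σ.odd_U h.ht)).pow_left _), h.card_closure]

theorem card_centralizer_t_inf (h : Frame σ t u₁ u₂ g₁ g₂) {M : Subgroup G} (h1 : u₁ ∈ M)
    (h2 : u₂ ∈ M) : Nat.card (centralizer ({t} : Set G) ⊓ M : Subgroup G) =
      2 ^ (σ.n + 1) * Nat.card (U t ⊓ M : Subgroup G) := by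
  have hSM : closure ({u₁, u₂} : Set G) ≤ M := by
    rw [closure_le]
    rintro a (rfl | rfl) <;> assumption
  have hPN : closure ({u₁, u₂} : Set G) ≤ normalizer ((U t ⊓ M : Subgroup G) : Set G) :=
    (le_inf (h.closure_le_centralizer.trans (Setting.le_normalizer_U t))
      (hSM.trans le_normalizer)).trans CfsgLib.Transfer.normalizer_le_normalizer_inf
  have heq : centralizer ({t} : Set G) ⊓ M = closure ({u₁, u₂} : Set G) ⊔ (U t ⊓ M) := by
    refine le_antisymm (fun c hc => ?_) (sup_le (le_inf h.closure_le_centralizer hSM)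
      (inf_le_inf_right _ (U_le t)))
    obtain ⟨a, ha, s, hs, rfl⟩ := h.exists_mul (commute_of_mem_centralizer hc.1)
    refine mul_mem (mem_sup_right (mem_inf.2 ⟨ha, ?_⟩)) (mem_sup_left hs)
    have := mul_mem (mem_inf.1 hc).2 (inv_mem (hSM hs))
    simpa using this
  rw [heq, CfsgLib.Core.card_sup_of_coprime _ _ hPN (by
    rw [h.card_closure]
    exact ((Nat.coprime_two_left.2 (σ.odd_U h.ht)).pow_left _).coprime_dvd_right
      (card_dvd_of_le inf_le_left)), h.card_closure]

/-- The order bound from the principal block. -/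
theorem order_bound (h : Frame σ t u₁ u₂ g₁ g₂) :
    (Nat.card G : ℚ) ≤ 15 / 8 * (2 ^ σ.n) ^ 3 * (Nat.card (U t) : ℚ) ^ 3 *
      (1 / (Nat.card (D t u₁) : ℚ) + 1 / (Nat.card (D t u₂) : ℚ)) ^ 2 := by
  classical
  haveI := σ.simple
  haveI : Fact (Nat.Prime 2) := ⟨Nat.prime_two⟩
  obtain ⟨Mi, hMi⟩ := CfsgLib.ZStar.exists_isPModular Nat.prime_two
  obtain ⟨S, hS⟩ := h.exists_sylow
  obtain ⟨f, hf, hfS⟩ := σ.exists_model_at S
  have hC := card_centralizer_t h
  have hN0 : (0 : ℚ) < 2 ^ σ.n := by positivity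
  have hU0 : (0 : ℚ) ≤ (Nat.card (U t) : ℚ) := Nat.cast_nonneg _
  have hd1 : (0 : ℚ) < Nat.card (D t u₁) := Nat.cast_pos.2 Nat.card_pos
  have hd2 : (0 : ℚ) < Nat.card (D t u₂) := Nat.cast_pos.2 Nat.card_pos
  have hzC : ∀ z : G, orderOf z = 2 → Nat.card (centralizer ({z} : Set G)) =
      Nat.card (centralizer ({t} : Set G)) := fun z hz => by
    obtain ⟨c, hc⟩ := isConj_iff.1 (σ.one_class t z h.ht hz)
    rw [← hc, ← card_centralizer_conj ({t} : Set G) c, Set.image_singleton]
  rcases Nat.lt_or_ge σ.n 2 with hn | hn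
  · have hn1 : σ.n = 1 := by have := σ.pos; omega
    obtain ⟨α, hα, -, hαle⟩ := klein_bounds hf hfS hn1 σ.one_class Mi hMi
    have hα' := hαle inferInstance
    rw [hzC _ (orderOf_half hf σ.pos), hC, hS] at hα
    have hu2 : u₂ = t * u₁ := by
      have h1 := h.pow
      rw [hn1] at h1
      simp only [Nat.sub_self, pow_zero, pow_one] at h1
      calc u₂ = u₁⁻¹ * (u₁ * u₂) := by group
        _ = u₁⁻¹ * t := by rw [h1]
        _ = t * u₁ := by rw [involution_inv h.hu₁, h.commute₁.eq]
    have hDD : D t u₂ = D t u₁ := by rw [hu2, σ.D_mul h.ht]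
    have hcl : centralizer ((closure ({u₁, u₂} : Set G) : Subgroup G) : Set G) =
        centralizer ({t, u₁} : Set G) := by
      ext c
      rw [centralizer_closure, mem_centralizer_iff, mem_centralizer_iff]
      constructor
      · intro hc b hb
        have e1 : Commute c u₁ := (hc u₁ (by simp)).symm
        have e2 : Commute c u₂ := (hc u₂ (by simp)).symm
        rcases hb with rfl | rfl
        · have := e2.mul_right e1
          rw [hu2, mul_assoc, involution_sq h.hu₁, mul_one] at this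
          exact this.symm.eq
        · exact e1.symm.eq
      · intro hc b hb
        have e1 : Commute c t := (hc t (by simp)).symm
        have e2 : Commute c u₁ := (hc u₁ (by simp)).symm
        rcases hb with rfl | rfl
        · exact e2.symm.eq
        · rw [hu2]; exact (e1.mul_right e2).symm.eq
    rw [hcl, card_centralizer_pair σ h.ht h.hu₁ h.rot₁.ne h.rot₁.comm] at hα
    push_cast at hα
    rw [hDD, hα, hn1]
    have e : (8 : ℚ) * α * (2 ^ (1 + 1) * (Nat.card (U t) : ℚ)) ^ 3 / (4 * (Nat.card (D t u₁) : ℚ)) ^ 2 =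
        α * ((2 ^ 1) ^ 3 * (Nat.card (U t) : ℚ) ^ 3 *
          (1 / (Nat.card (D t u₁) : ℚ) + 1 / (Nat.card (D t u₁) : ℚ)) ^ 2) := by
      field_simp
      ring
    rw [hn1] at *
    rw [e, mul_assoc (15 / 8 : ℚ), mul_assoc (15 / 8 : ℚ)]
    exact mul_le_mul_of_nonneg_right hα' (by positivity)
  · obtain ⟨α, hα, -, hαle⟩ := dihedral_bounds hf hfS hn σ.one_class Mi hMi
    have hα' := hαle inferInstance
    -- the centre and the two classes of reflections
    have hz : f (r (half σ.n)) = t := by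
      have ht' : t ∈ f.range := by rw [hfS, hS]; exact h.t_mem_closure
      obtain ⟨a, ha⟩ := ht'
      have hu' : u₁ ∈ f.range := by rw [hfS, hS]; exact subset_closure (by simp)
      have hao : orderOf a = 2 := by rw [← orderOf_injective f hf, ha]; exact h.ht
      rcases a with i | i
      · rcases CfsgLib.TwoGroups.Dihedral.sq_eq_one_r σ.pos (involution_sq hao) with e | e
        · exact absurd e (involution_ne_one hao)
        · rw [← ha, e]
      · exfalso
        have hr : f (r 1) ∈ centralizer ({t} : Set G) := by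
          refine h.closure_le_centralizer ?_
          rw [← hS, ← hfS]; exact ⟨_, rfl⟩
        rw [← ha] at hr
        have h3 := hf (a₁ := r 1 * sr i) (a₂ := sr i * r 1) (by
          rw [map_mul, map_mul]; exact (commute_of_mem_centralizer hr).eq)
        rw [r_mul_sr, sr_mul_r, sr.injEq] at h3
        have h4 : ((2 : ℕ) : ZMod (2 ^ σ.n)) = 0 := by push_cast; linear_combination -h3
        rw [ZMod.natCast_eq_zero_iff] at h4
        have h5 := Nat.le_of_dvd two_pos h4
        have h6 : 2 ^ 2 ≤ 2 ^ σ.n := Nat.pow_le_pow_right two_pos hn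
        norm_num at h6
        omega
    have hrefl : ∀ j : ZMod (2 ^ σ.n), ∃ c ∈ f.range,
        c * f (sr j) * c⁻¹ = u₁ ∨ c * f (sr j) * c⁻¹ = u₂ := by
      intro j
      have hjS : f (sr j) ∈ closure ({u₁, u₂} : Set G) := by rw [← hS, ← hfS]; exact ⟨_, rfl⟩
      have hjo : orderOf (f (sr j)) = 2 := by rw [orderOf_injective f hf, orderOf_sr]
      rcases h.involution_cases hjS hjo with e | ⟨c, hc, e⟩
      · exfalso
        rw [← hz] at e
        cases hf e
      · exact ⟨c, by rw [hfS, hS]; exact hc, e⟩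
    have hcard : ∀ j : ZMod (2 ^ σ.n), ∀ c v : G, c ∈ f.range → (v = u₁ ∨ v = u₂) →
        c * f (sr j) * c⁻¹ = v →
        Nat.card (centralizer ({t, f (sr j)} : Set G)) = 4 * Nat.card (D t v) := by
      intro j c v hc hv e
      have hct : c * t * c⁻¹ = t := by
        refine conj_eq_of_commute (commute_of_mem_centralizer (h.closure_le_centralizer ?_))
        rw [← hS, ← hfS]; exact hc
      rw [← card_centralizer_conj _ c, Set.image_pair, hct, e]
      rcases hv with rfl | rfl
      · exact card_centralizer_pair σ h.ht h.hu₁ h.rot₁.ne h.rot₁.comm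
      · exact card_centralizer_pair σ h.ht h.hu₂ h.rot₂.ne h.rot₂.comm
    have hdiff : ∀ c c' v : G, c ∈ f.range → c' ∈ f.range → c * f (sr 0) * c⁻¹ = v →
        c' * f (sr (-1)) * c'⁻¹ = v → False := by
      rintro _ _ v ⟨a, rfl⟩ ⟨b, rfl⟩ e e'
      have h1 := e.trans e'.symm
      rw [← map_inv, ← map_inv, ← map_mul, ← map_mul, ← map_mul, ← map_mul] at h1
      have h2 := hf h1
      have h2dvd : (2 : ℕ) ∣ 2 ^ σ.n := dvd_pow_self 2 (by omega)
      let π : ZMod (2 ^ σ.n) →+* ZMod 2 := ZMod.castHom h2dvd (ZMod 2)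
      have hconj : ∀ (a : DihedralGroup (2 ^ σ.n)) (j : ZMod (2 ^ σ.n)),
          ∃ k : ZMod (2 ^ σ.n), a * sr j * a⁻¹ = sr k ∧ π k = π j := by
        have hneg := zmod_two_neg
        intro a j
        rcases a with i | i
        · refine ⟨j - i - i, ?_, ?_⟩
          · rw [inv_r, r_mul_sr, sr_mul_r]; congr 1; ring
          · rw [map_sub, map_sub, sub_sub, ← two_mul, show (2 : ZMod 2) = 0 from rfl, zero_mul,
              sub_zero]
        · refine ⟨i + i - j, ?_, ?_⟩
          · rw [inv_sr, sr_mul_sr, r_mul_sr]; congr 1; ring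
          · rw [map_sub, map_add, ← two_mul, show (2 : ZMod 2) = 0 from rfl, zero_mul, zero_sub,
              hneg]
      obtain ⟨k, hk, hkp⟩ := hconj a 0
      obtain ⟨k', hk', hkp'⟩ := hconj b (-1)
      rw [hk, hk', sr.injEq] at h2
      rw [h2, hkp', map_zero, map_neg, map_one] at hkp
      exact zmod_two_neg_one_ne hkp
    rw [hzC _ (orderOf_half hf σ.pos), hz, ← map_mul, r_mul_sr, zero_sub, hC] at hα
    obtain ⟨c, hc, hcv⟩ := hrefl 0
    obtain ⟨c', hc', hcv'⟩ := hrefl (-1)
    have hsum : (1 : ℚ) / (Nat.card (centralizer ({t, f (sr 0)} : Set G)) : ℚ) +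
        1 / (Nat.card (centralizer ({t, f (sr (-1))} : Set G)) : ℚ) =
        (1 / (Nat.card (D t u₁) : ℚ) + 1 / (Nat.card (D t u₂) : ℚ)) / 4 := by
      rcases hcv with e | e <;> rcases hcv' with e' | e'
      · exact (hdiff c c' _ hc hc' e e').elim
      · rw [hcard 0 c u₁ hc (Or.inl rfl) e, hcard (-1) c' u₂ hc' (Or.inr rfl) e']
        push_cast; field_simp
      · rw [hcard 0 c u₂ hc (Or.inr rfl) e, hcard (-1) c' u₁ hc' (Or.inl rfl) e']
        push_cast; field_simp; ring
      · exact (hdiff c c' _ hc hc' e e').elim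
    rw [hsum] at hα
    push_cast at hα
    rw [hα]
    have e : 2 * α * ((2 : ℚ) ^ (σ.n + 1) * (Nat.card (U t) : ℚ)) ^ 3 *
        ((1 / (Nat.card (D t u₁) : ℚ) + 1 / (Nat.card (D t u₂) : ℚ)) / 4) ^ 2 =
        α * ((2 ^ σ.n) ^ 3 * (Nat.card (U t) : ℚ) ^ 3 *
          (1 / (Nat.card (D t u₁) : ℚ) + 1 / (Nat.card (D t u₂) : ℚ)) ^ 2) := by
      rw [pow_succ]; ring
    rw [e, mul_assoc (15 / 8 : ℚ), mul_assoc (15 / 8 : ℚ)]
    exact mul_le_mul_of_nonneg_right hα' (by positivity)

end CfsgLib.GW.Dne.Line
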