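import Cfsg.Agent.Lib.GW.Dne.Index
import Mathlib.GroupTheory.SpecificGroups.Alternating.Simple

/-!
# Subgroups with quotient `A₇` by the core
-/

set_option autoImplicit false

namespace CfsgLib.GW.Dne

open Subgroup CfsgLib.GW
open CfsgLib.Signalizer (involution_sq involution_inv involution_ne_one orderOf_eq_two_of orderOf_conj)

universe u

theorem alt_seven_isConj {x y : alternatingGroup (Fin 7)} (hx : orderOf x = 2) (hy : orderOf y = 2) :
    IsConj x y := by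
  have key : ∀ z : alternatingGroup (Fin 7), orderOf z = 2 →
      (z : Equiv.Perm (Fin 7)).cycleType = Multiset.replicate 2 2 := by
    intro z hz
    have ho : orderOf (z : Equiv.Perm (Fin 7)) = 2 := by rw [Subgroup.orderOf_coe]; exact hz
    obtain ⟨k, hk⟩ := Equiv.Perm.cycleType_prime_order (σ := (z : Equiv.Perm (Fin 7)))
      (by rw [ho]; exact Nat.prime_two)
    rw [ho] at hk
    have hsum : (z : Equiv.Perm (Fin 7)).cycleType.sum ≤ 7 := by
      rw [Equiv.Perm.sum_cycleType]; exact (Finset.card_le_univ _).trans_eq (Fintype.card_fin 7)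
    have hs := Equiv.Perm.sign_of_cycleType (z : Equiv.Perm (Fin 7))
    rw [Equiv.Perm.mem_alternatingGroup.1 z.2, eq_comm, neg_one_pow_eq_one_iff_even (by decide),
      hk, Multiset.sum_replicate, Multiset.card_replicate, smul_eq_mul] at hs
    rw [hk, Multiset.sum_replicate, smul_eq_mul] at hsum
    obtain ⟨j, hj⟩ := hs
    rw [hk, show k + 1 = 2 by omega]
  refine alternatingGroup.isConj_of (Equiv.Perm.isConj_iff_cycleType_eq.2 ?_) ?_
  · rw [key x hx, key y hy]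
  · rw [← Equiv.Perm.sum_cycleType, key x hx]
    simp

variable {G : Type u} [Group G] [Finite G]

/-- A subgroup with quotient `A₇` by the core has one class of involutions. -/
theorem seven_isConj {X : Subgroup G} (hX : Seven X) {x y : G} (hx : x ∈ X) (hy : y ∈ X)
    (hxo : orderOf x = 2) (hyo : orderOf y = 2) : ∃ m ∈ X, m * x * m⁻¹ = y := by
  obtain ⟨e⟩ := hX
  set O := Cfsg.oddCore X with hO
  set π : X →* alternatingGroup (Fin 7) := e.toMonoidHom.comp (QuotientGroup.mk' O) with hπ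
  have hker : ∀ a : X, π a = 1 → (a : G) ∈ core X := fun a ha => by
    refine mem_core_iff.2 ⟨a.2, (QuotientGroup.eq_one_iff a).1 ?_⟩
    exact e.injective (ha.trans e.map_one.symm)
  have hπo : ∀ z : G, ∀ hz : z ∈ X, orderOf z = 2 → orderOf (π ⟨z, hz⟩) = 2 := fun z hz hzo => by
    refine orderOf_eq_two_of (fun h1 => ?_) ?_
    · have h2 := orderOf_dvd_natCard (core X) (hker _ h1)
      rw [hzo] at h2
      exact (odd_core X).not_two_dvd_nat h2
    · rw [← map_mul, show (⟨z, hz⟩ : X) * ⟨z, hz⟩ = 1 from Subtype.ext (involution_sq hzo), map_one]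
  obtain ⟨c, hc⟩ := isConj_iff.1 (alt_seven_isConj (hπo x hx hxo) (hπo y hy hyo))
  obtain ⟨c', hc'⟩ := e.surjective c
  obtain ⟨m, rfl⟩ := QuotientGroup.mk'_surjective O c'
  have hd : (m : G) * x * (m : G)⁻¹ * y ∈ core X := by
    refine hker (m * ⟨x, hx⟩ * m⁻¹ * ⟨y, hy⟩) ?_
    rw [map_mul, map_mul, map_mul, map_inv, show π m = c from hc', hc, ← map_mul,
      show (⟨y, hy⟩ : X) * ⟨y, hy⟩ = 1 from Subtype.ext (involution_sq hyo), map_one]
  set x' : G := (m : G) * x * (m : G)⁻¹ with hx'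
  set d : G := x' * y with hd'
  have hx'o : orderOf x' = 2 := by rw [hx', orderOf_conj]; exact hxo
  have hinv : y * d * y⁻¹ = d⁻¹ := by
    rw [hd', mul_inv_rev, involution_inv hx'o, involution_inv hyo]
    calc y * (x' * y) * y = y * x' * (y * y) := by group
      _ = y * x' := by rw [involution_sq hyo, mul_one]
  obtain ⟨j, hj⟩ := odd_orderOf_of_mem (odd_core X) hd
  set i : G := d ^ (j + 1) with hi
  have hii : i * i = d := by
    rw [hi, ← pow_add, show j + 1 + (j + 1) = orderOf d + 1 by omega, pow_succ, pow_orderOf_eq_one,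
      one_mul]
  have hyi : y * i⁻¹ * y⁻¹ = i := by
    rw [hi, ← inv_pow, ← conj_pow, show y * d⁻¹ * y⁻¹ = (y * d * y⁻¹)⁻¹ by group, hinv, inv_inv]
  refine ⟨i⁻¹ * m, mul_mem (inv_mem (pow_mem (core_le X hd) _)) m.2, ?_⟩
  calc i⁻¹ * m * x * (i⁻¹ * m)⁻¹ = i⁻¹ * (x' * y) * y⁻¹ * i := by rw [hx']; group
    _ = i⁻¹ * (i * i) * y⁻¹ * (y * i⁻¹ * y⁻¹) := by rw [hyi, hii]
    _ = y⁻¹ := by group
    _ = y := involution_inv hyo

/-- With quotient `A₇` a normal subgroup containing an involution covers the quotient. -/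
theorem seven_cover {X N : Subgroup G} (hX : Seven X) (hNX : N ≤ X)
    (hn : X ≤ normalizer (N : Set G)) {t : G} (ht : orderOf t = 2) (htN : t ∈ N) {x : G}
    (hx : x ∈ X) : ∃ a ∈ N, ∃ o ∈ core X, x = a * o := by
  obtain ⟨e⟩ := hX
  haveI : IsSimpleGroup (alternatingGroup (Fin 7)) := alternatingGroup.isSimpleGroup (by simp)
  haveI : (N.subgroupOf X).Normal := normal_subgroupOf_of_le_normalizer hn
  set π : X →* alternatingGroup (Fin 7) := e.toMonoidHom.comp (QuotientGroup.mk' (Cfsg.oddCore X))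
  have hsurj : Function.Surjective π := e.surjective.comp (QuotientGroup.mk'_surjective _)
  have hker : ∀ a : X, π a = 1 → (a : G) ∈ core X := fun a ha =>
    mem_core_iff.2 ⟨a.2, (QuotientGroup.eq_one_iff a).1 (e.injective (ha.trans e.map_one.symm))⟩
  have hne : (N.subgroupOf X).map π ≠ ⊥ := by
    intro h0
    have h1 : π ⟨t, hNX htN⟩ = 1 := by
      rw [← mem_bot, ← h0]; exact mem_map_of_mem _ (by exact htN)
    have h2 := orderOf_dvd_natCard (core X) (hker _ h1)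
    rw [ht] at h2
    exact (odd_core X).not_two_dvd_nat h2
  have htop := ((Subgroup.Normal.map inferInstance π hsurj).eq_bot_or_eq_top).resolve_left hne
  obtain ⟨a, ha, hax⟩ : π ⟨x, hx⟩ ∈ (N.subgroupOf X).map π := htop ▸ mem_top _
  refine ⟨a, ha, (a : G)⁻¹ * x, hker (a⁻¹ * ⟨x, hx⟩) (by rw [map_mul, map_inv, hax, inv_mul_cancel]),
    by group⟩

namespace Frame

variable {σ : Hyp G} {t u₁ u₂ g₁ g₂ : G} (h : Frame σ t u₁ u₂ g₁ g₂)

include h

/-- The rotation of order four of the frame swaps `u₁` and `t u₁`. -/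
theorem swap_pow (hn : 2 ≤ σ.n) :
    Commute ((u₁ * u₂) ^ 2 ^ (σ.n - 2)) t ∧
      (u₁ * u₂) ^ 2 ^ (σ.n - 2) * u₁ * ((u₁ * u₂) ^ 2 ^ (σ.n - 2))⁻¹ = t * u₁ := by
  refine ⟨(h.commute₁.mul_left h.commute₂).pow_left _, ?_⟩
  set m : ℕ := 2 ^ (σ.n - 2) with hm
  have hmm : m + m = 2 ^ (σ.n - 1) := by
    rw [hm, ← two_mul, ← pow_succ', show σ.n - 2 + 1 = σ.n - 1 by omega]
  have hswap : (u₁ * u₂) ^ (m : ℤ) * u₁ = u₁ * (u₁ * u₂) ^ (-(m : ℤ)) := by
    rw [CfsgLib.Signalizer.mul_pair_zpow h.hu₁ h.hu₂, neg_neg]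
  rw [zpow_natCast, zpow_neg, zpow_natCast] at hswap
  rw [hswap, mul_assoc, ← mul_inv_rev, ← pow_add, hmm, h.pow, involution_inv h.ht]
  exact h.commute₁.eq

/-- An element of `C(t)` in a subgroup containing the Sylow subgroup of the frame. -/
theorem exists_swap_mem (hn : 2 ≤ σ.n) {X : Subgroup G} (hS : closure ({u₁, u₂} : Set G) ≤ X)
    {v : G} (hv : v ∈ X) (hvo : orderOf v = 2) (hvt : Commute v t) (hne : v ≠ t) :
    ∃ c ∈ X, c * t * c⁻¹ = t ∧ c * v * c⁻¹ = t * v := by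
  have : Fact (Nat.Prime 2) := ⟨Nat.prime_two⟩
  obtain ⟨P, hP⟩ := h.exists_sylow
  set Y : Subgroup G := X ⊓ centralizer ({t} : Set G) with hY
  have hPY : (P : Subgroup G) ≤ Y := le_inf (hP ▸ hS) (hP ▸ h.closure_le_centralizer)
  have hvY : v ∈ Y := ⟨hv, mem_centralizer_of_commute hvt⟩
  have hz : IsPGroup 2 (zpowers (⟨v, hvY⟩ : Y)) :=
    IsPGroup.of_card (n := 1) (by rw [Nat.card_zpowers, pow_one, Subgroup.orderOf_mk]; exact hvo)
  obtain ⟨k, hk⟩ := CfsgLib.TwoGroups.exists_conj_le_sylow (P.subtype hPY) hz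
  have h1 := hk (CfsgLib.TwoGroups.conj_mem_map_conj (mem_zpowers (⟨v, hvY⟩ : Y)))
  rw [Sylow.coe_subtype, mem_subgroupOf, hP] at h1
  have hkt : (k : G) * t * (k : G)⁻¹ = t :=
    conj_eq_of_commute (commute_of_mem_centralizer k.2.2)
  have h1' : (k : G) * v * (k : G)⁻¹ ∈ closure ({u₁, u₂} : Set G) := h1
  have h1o : orderOf ((k : G) * v * (k : G)⁻¹) = 2 := by rw [orderOf_conj]; exact hvo
  have fin : ∀ (w s c₀ : G), s ∈ X → Commute s t → s * w * s⁻¹ = t * w → c₀ ∈ X → Commute c₀ t →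
      c₀ * v * c₀⁻¹ = w → ∃ c ∈ X, c * t * c⁻¹ = t ∧ c * v * c⁻¹ = t * v := by
    intro w s c₀ hs hst hsw hc₀ hc₀t e
    have hct : Commute (c₀⁻¹ * s * c₀) t := (hc₀t.inv_left.mul_left hst).mul_left hc₀t
    refine ⟨c₀⁻¹ * s * c₀, mul_mem (mul_mem (inv_mem hc₀) hs) hc₀, conj_eq_of_commute hct, ?_⟩
    calc c₀⁻¹ * s * c₀ * v * (c₀⁻¹ * s * c₀)⁻¹
        = c₀⁻¹ * (s * (c₀ * v * c₀⁻¹) * s⁻¹) * c₀ := by group
      _ = c₀⁻¹ * t * c₀ * v := by rw [e, hsw, ← e]; group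
      _ = t * v := by rw [mul_assoc c₀⁻¹, ← hc₀t.eq, inv_mul_cancel_left]
  rcases h.involution_cases h1' h1o with e | ⟨c, hc, e | e⟩
  · exact absurd ((MulAut.conj (k : G)).injective (e.trans hkt.symm : (k:G) * v * (k:G)⁻¹ = _)) hne
  · exact fin u₁ _ (c * k) (pow_mem (mul_mem (hS (subset_closure (by simp)))
      (hS (subset_closure (by simp)))) _) (h.swap_pow hn).1 (h.swap_pow hn).2
      (mul_mem (hS hc) k.2.1)
      ((commute_of_mem_centralizer (h.closure_le_centralizer hc)).mul_left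
        (commute_of_mem_centralizer k.2.2)) (by rw [← e]; group)
  · exact fin u₂ _ (c * k) (pow_mem (mul_mem (hS (subset_closure (by simp)))
      (hS (subset_closure (by simp)))) _) (h.symm.swap_pow hn).1 (h.symm.swap_pow hn).2
      (mul_mem (hS hc) k.2.1)
      ((commute_of_mem_centralizer (h.closure_le_centralizer hc)).mul_left
        (commute_of_mem_centralizer k.2.2)) (by rw [← e]; group)

/-- A subgroup containing the Sylow subgroup in which `u₂` is conjugate to `t` rotates `⟨t, u₂⟩`. -/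
theorem exists_rot_mem (hn : 2 ≤ σ.n) {X : Subgroup G} (hS : closure ({u₁, u₂} : Set G) ≤ X)
    {k : G} (hk : k ∈ X) (hkt : k * t * k⁻¹ = u₂) : ∃ g ∈ X, Rot t u₂ g := by
  have htX : t ∈ X := hS h.t_mem_closure
  obtain ⟨c₁, hc₁, h1t, h1u⟩ :=
    h.exists_swap_mem hn hS (hS (subset_closure (by simp))) h.hu₂ h.commute₂ h.rot₂.ne.symm
  set v : G := k⁻¹ * t * k with hv
  have hkv : k * v * k⁻¹ = t := by rw [hv]; group
  have hvt : Commute v t := by
    refine commute_of_conj_eq ?_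
    apply (MulAut.conj k).injective
    show k * (v * t * v⁻¹) * k⁻¹ = k * t * k⁻¹
    calc k * (v * t * v⁻¹) * k⁻¹ = (k * v * k⁻¹) * (k * t * k⁻¹) * (k * v * k⁻¹)⁻¹ := by group
      _ = k * t * k⁻¹ := by rw [hkv, hkt, conj_eq_of_commute h.commute₂.symm]
  have hne : v ≠ t := fun e => h.rot₂.ne (by rw [e, hkt] at hkv; exact hkv.symm)
  have hvo : orderOf v = 2 := by rw [← orderOf_conj k, hkv]; exact h.ht
  obtain ⟨c, hc, h2t, h2v⟩ :=
    h.exists_swap_mem hn hS (mul_mem (mul_mem (inv_mem hk) htX) hk) hvo hvt hne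
  have hu : k * c * k⁻¹ * u₂ * (k * c * k⁻¹)⁻¹ = u₂ := by
    rw [← hkt, show k * c * k⁻¹ * (k * t * k⁻¹) * (k * c * k⁻¹)⁻¹ = k * (c * t * c⁻¹) * k⁻¹ by group,
      h2t]
  have ht' : k * c * k⁻¹ * t * (k * c * k⁻¹)⁻¹ = u₂ * t := by
    calc k * c * k⁻¹ * t * (k * c * k⁻¹)⁻¹
        = k * (c * (k⁻¹ * t * k) * c⁻¹) * k⁻¹ := by group
      _ = (k * t * k⁻¹) * (k * v * k⁻¹) := by rw [← hv, h2v, hv]; group
      _ = u₂ * t := by rw [hkt, hkv]
  refine ⟨c₁ * (k * c * k⁻¹), mul_mem hc₁ (mul_mem (mul_mem hk hc) (inv_mem hk)),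
    h.ht, h.hu₂, h.rot₂.ne, h.rot₂.comm, ?_, ?_⟩
  · calc c₁ * (k * c * k⁻¹) * t * (c₁ * (k * c * k⁻¹))⁻¹
        = c₁ * (k * c * k⁻¹ * t * (k * c * k⁻¹)⁻¹) * c₁⁻¹ := by group
      _ = c₁ * u₂ * c₁⁻¹ * (c₁ * t * c₁⁻¹) := by rw [ht']; group
      _ = u₂ := by rw [h1t, h1u, h.rot₂.comm.eq, mul_assoc, involution_sq h.ht, mul_one]
  · calc c₁ * (k * c * k⁻¹) * u₂ * (c₁ * (k * c * k⁻¹))⁻¹
        = c₁ * (k * c * k⁻¹ * u₂ * (k * c * k⁻¹)⁻¹) * c₁⁻¹ := by group
      _ = t * u₂ := by rw [hu, h1u]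

end Frame

end CfsgLib.GW.Dne
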