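import Cfsg.Agent.Lib.GW.Dne.FixedLinear
import Cfsg.Agent.Lib.GW.Dne.Seven

/-!
# Fixed linear characters: abelian `O(C(t))`, and Sylow `2`-subgroups of order at least sixteen
-/

set_option autoImplicit false

namespace CfsgLib.GW.Dne

open Subgroup CfsgLib.GW
open CfsgLib.Signalizer (involution_sq involution_inv involution_ne_one orderOf_eq_two_of orderOf_conj)

universe u

namespace Frame

variable {G : Type u} [Group G] [Finite G] {σ : Hyp G} {t u₁ u₂ g₁ g₂ : G}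
variable (h : Frame σ t u₁ u₂ g₁ g₂)

include h

/-- With Sylow subgroups of order at least sixteen a subgroup containing one and a rotation is not
solvable. -/
theorem not_isSolvable_of_three (hn : 3 ≤ σ.n) {X : Subgroup G} {g : G} (hg : Rot t u₁ g) (hgX : g ∈ X)
    (hS : closure ({u₁, u₂} : Set G) ≤ X) : ¬ Group.IsSolvable X := by
  intro hs
  classical
  haveI := hs
  have : Fact (Nat.Prime 2) := ⟨Nat.prime_two⟩
  obtain ⟨P, hP⟩ := h.exists_sylow
  set O := Cfsg.oddCore X with hO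
  set π : X →* X ⧸ O := QuotientGroup.mk' O with hπ
  set PC : Subgroup (X ⧸ O) := Cfsg.pCore 2 (X ⧸ O) with hPC
  haveI hnorm : PC.Normal := CfsgLib.Core.normal_pCore 2 _
  have hO' : Cfsg.pPrimeCore 2 (X ⧸ O) = ⊥ := CfsgLib.Core.pPrimeCore_quotient_pPrimeCore 2 X
  have hcen := CfsgLib.GW.centralizer_pCore_le_of_solvable hO' (by infer_instance)
  have hPX : (P : Subgroup G) ≤ X := hP ▸ hS
  have hu₁S : u₁ ∈ closure ({u₁, u₂} : Set G) := subset_closure (by simp)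
  have hu₂S : u₂ ∈ closure ({u₁, u₂} : Set G) := subset_closure (by simp)
  have htX : t ∈ X := hS h.t_mem_closure
  have htwo : ∀ {a : X}, π a = 1 → (a : G) ∈ closure ({u₁, u₂} : Set G) → (a : G) = 1 := fun {a} ha haS => by
    obtain ⟨k, hk⟩ := IsPGroup.iff_orderOf.1 P.2 ⟨(a : G), hP ▸ haS⟩
    rw [Subgroup.orderOf_mk] at hk
    have h2 : orderOf (a : G) ∣ Nat.card O := by
      rw [Subgroup.orderOf_coe]
      exact Subgroup.orderOf_dvd_natCard _ ((QuotientGroup.eq_one_iff _).1 ha)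
    exact orderOf_eq_one_iff.1 (Nat.eq_one_of_dvd_coprimes
      ((CfsgLib.Core.coprime_card_pPrimeCore 2 X).pow_right k) h2 (hk ▸ dvd_rfl))
  have hrep : ∀ y ∈ PC, ∃ s : X, (s : G) ∈ closure ({u₁, u₂} : Set G) ∧ π s = y := by
    intro y hy
    have h1 := CfsgLib.Core.pCore_le_sylow
      ((P.subtype hPX).mapSurjective (QuotientGroup.mk'_surjective O)) hy
    rw [Sylow.coe_mapSurjective] at h1
    obtain ⟨s, hs', rfl⟩ := h1
    rw [SetLike.mem_coe, Sylow.coe_subtype, mem_subgroupOf, hP] at hs'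
    exact ⟨s, hs', rfl⟩
  set tX : X := ⟨t, htX⟩ with htXdef
  set uX : X := ⟨u₁, hS hu₁S⟩ with huXdef
  set vX : X := ⟨u₂ * u₁ * u₂⁻¹, hS (mul_mem (mul_mem hu₂S hu₁S) (inv_mem hu₂S))⟩ with hvXdef
  have htc : ∀ y ∈ PC, Commute y (π tX) := fun y hy => by
    obtain ⟨s, hs', rfl⟩ := hrep y hy
    exact (show Commute s tX from
      Subtype.ext (commute_of_mem_centralizer (h.closure_le_centralizer hs')).eq).map π
  have htPC : π tX ∈ PC := hcen (mem_centralizer_iff.2 fun y hy => (htc y hy).eq)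
  have heu : π uX = π ⟨g, hgX⟩ * π tX * (π ⟨g, hgX⟩)⁻¹ := by
    rw [← map_inv, ← map_mul, ← map_mul]
    exact congrArg π (Subtype.ext (by simp [htXdef, huXdef, hg.conj1]))
  have huPC : π uX ∈ PC := heu ▸ hnorm.conj_mem _ htPC _
  have huc : ∀ y ∈ PC, Commute y (π uX) := fun y hy => by
    have h3 := (htc _ (hnorm.conj_mem y hy (π ⟨g, hgX⟩)⁻¹)).map
      (MulAut.conj (π ⟨g, hgX⟩)).toMonoidHom
    rw [heu]
    simpa [mul_assoc] using h3
  have hvPC : π vX ∈ PC := by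
    have e : π vX = π ⟨u₂, hS hu₂S⟩ * π uX * (π ⟨u₂, hS hu₂S⟩)⁻¹ := by
      rw [← map_inv, ← map_mul, ← map_mul]
      exact congrArg π (Subtype.ext (by simp [hvXdef, huXdef]))
    exact e ▸ hnorm.conj_mem _ huPC _
  have hc : π (vX * uX * vX⁻¹ * uX⁻¹) = 1 := by
    rw [map_mul, map_mul, map_mul, map_inv, map_inv, conj_eq_of_commute (huc _ hvPC), mul_inv_cancel]
  have h1 := htwo hc (mul_mem (mul_mem (mul_mem (mul_mem (mul_mem hu₂S hu₁S) (inv_mem hu₂S)) hu₁S)
    (inv_mem (mul_mem (mul_mem hu₂S hu₁S) (inv_mem hu₂S)))) (inv_mem hu₁S))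
  simp only [hvXdef, huXdef, Subgroup.coe_mul, Subgroup.coe_inv, involution_inv h.hu₁,
    involution_inv h.hu₂, mul_inv_rev] at h1
  have h4 : (u₁ * u₂) ^ 4 = 1 := by
    refine inv_eq_one.1 (Eq.trans ?_ h1)
    rw [pow_succ, pow_succ, pow_two]
    simp only [mul_inv_rev, involution_inv h.hu₁, involution_inv h.hu₂]
    group
  have h5 := orderOf_dvd_of_pow_eq_one h4
  rw [h.ord, show (4 : ℕ) = 2 ^ 2 from rfl] at h5
  have := (Nat.pow_dvd_pow_iff_le_right (show 1 < 2 by norm_num)).1 h5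
  omega

variable {r : ℕ} [Fact r.Prime] {P : Sylow r (U t)}

/-- An inert Sylow subgroup gives invariance when the Sylow subgroups have order at least sixteen. -/
theorem invOn_of_inert_three (C : Components G) (hr : r ≠ 2) (hn : 3 ≤ σ.n)
    (hPS : closure ({u₁, u₂} : Set G) ≤ normalizer ((P : Subgroup (U t)).map (U t).subtype : Set G))
    (hin : ∀ x ∈ (P : Subgroup (U t)).map (U t).subtype, Commute x u₁)
    (l : U t →* ℂˣ) (hl : ∀ x, l x ^ r = 1) : InvOn t u₁ g₁ l := by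
  classical
  set PG := (P : Subgroup (U t)).map (U t).subtype with hPG
  have hP₁ : u₁ ∈ normalizer (PG : Set G) := hPS (subset_closure (by simp))
  by_cases hbot : PG = ⊥
  · refine h.invOn_of_centralizing hP₁ l hl h.rot₁ fun x hx _ => ?_
    rw [← hPG, hbot, mem_bot] at hx
    rw [hx]; exact Commute.one_right _
  have e1 : PG ⊓ centralizer ({u₁} : Set G) = PG :=
    inf_eq_left.2 fun x hx => mem_centralizer_of_commute (hin x hx)
  obtain ⟨a, ha, haN⟩ := h.exists_rot_normalizing hP₁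
  rw [← hPG, e1] at haN
  set X := normalizer (PG : Set G) with hX
  have hF : Fused X t u₁ a := ⟨σ.normalizer_ne_top_of_odd hbot (Setting.odd_of_pGroup hr (P.2.map _)),
    hPS h.t_mem_closure, hP₁, haN, ha⟩
  obtain ⟨g', hg'N, hg'⟩ := C.normalCover X (X ⊓ centralizer (PG : Set G)) t u₁ a hF
    (h.not_isSolvable_of_three hn ha haN hPS)
    inf_le_left (fun y hy => mem_normalizer_centralizer hy)
    ⟨hF.mem_t, mem_centralizer_iff.2 fun y hy => ((σ.mem_U h.ht).1 (map_subtype_le _ hy)).1.eq⟩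
  exact h.invOn_of_centralizing hP₁ l hl hg' fun y hy _ => (mem_centralizer_iff.1 hg'N.2 y hy).symm

/-- An element of an invariant subgroup fixed by the Sylow subgroup, outside the kernel of `l`. -/
theorem exists_fixed_ne_one (hab : ∀ x y : U t, x * y = y * x) (l : U t →* ℂˣ) (hl : ∀ x, l x ^ r = 1)
    (hr : r ≠ 2) (hf₁ : Fixed t u₁ l) (hf₂ : Fixed t u₂ l) {PG : Subgroup G} (hPG : PG ≤ U t)
    (hPS : closure ({u₁, u₂} : Set G) ≤ normalizer (PG : Set G))
    (hne : ∃ x : U t, (x : G) ∈ PG ∧ l x ≠ 1) :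
    ∃ e : U t, (e : G) ∈ PG ∧ l e ≠ 1 ∧ Commute (e : G) u₁ ∧ Commute (e : G) u₂ := by
  set x := u₁ * u₂ with hx
  have hxS : x ∈ closure ({u₁, u₂} : Set G) :=
    mul_mem (subset_closure (by simp)) (subset_closure (by simp))
  have hxt : ∀ m : ℕ, Commute (x ^ m) t := fun m =>
    commute_of_mem_centralizer (h.closure_le_centralizer (pow_mem hxS m))
  have hconj : ∀ {c : G}, Commute c t → ∀ z : U t, c * z * c⁻¹ ∈ U t := fun {c} hc z => by
    have := σ.conj_mem_U h.ht c z.2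
    rwa [conj_eq_of_commute hc] at this
  have hlp : ∀ (m : ℕ) (z w : U t), (w : G) = x ^ m * z * (x ^ m)⁻¹ → l w = l z := by
    intro m
    induction m with
    | zero =>
      intro z w e
      rw [pow_zero, one_mul, inv_one, mul_one] at e
      exact congrArg l (Subtype.ext e)
    | succ m ih =>
      intro z w e
      set z₁ : U t := ⟨x ^ m * z * (x ^ m)⁻¹, hconj (hxt m) z⟩
      set z₂ : U t := ⟨u₂ * z₁ * u₂⁻¹, hconj h.commute₂ z₁⟩
      rw [← ih z z₁ rfl, ← hf₂ z₁ z₂ rfl]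
      refine hf₁ z₂ w ?_
      rw [e, pow_succ']
      show _ = u₁ * (u₂ * (x ^ m * z * (x ^ m)⁻¹) * u₂⁻¹) * u₁⁻¹
      simp only [hx, mul_inv_rev, mul_assoc]
  have hsq : ∀ z : U t, l z ≠ 1 → l z * l z ≠ 1 := by
    intro z hz h2
    refine hz ?_
    obtain ⟨j, hj⟩ := (Nat.Prime.odd_of_ne_two Fact.out hr : Odd r)
    have h3 := hl z
    rwa [hj, pow_succ, pow_mul, pow_two, h2, one_pow, one_mul] at h3
  have hcomm : ∀ z w : U t, Commute (z : G) (w : G) := fun z w =>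
    congrArg Subtype.val (hab z w)
  have hxPG : ∀ (m : ℕ) (z : U t), (z : G) ∈ PG → x ^ m * z * (x ^ m)⁻¹ ∈ PG := fun m z hz =>
    (mem_normalizer_iff.1 (hPS (pow_mem hxS m)) _).1 hz
  -- fixed by ever larger parts of the rotations
  have key : ∀ k, k ≤ σ.n → ∃ e : U t, (e : G) ∈ PG ∧ l e ≠ 1 ∧ Commute (e : G) (x ^ 2 ^ (σ.n - k)) := by
    intro k
    induction k with
    | zero =>
      intro _
      obtain ⟨z, hz, hlz⟩ := hne
      refine ⟨z, hz, hlz, ?_⟩
      rw [Nat.sub_zero, ← h.ord, pow_orderOf_eq_one]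
      exact Commute.one_right _
    | succ k ih =>
      intro hk
      obtain ⟨e, he, hle, hec⟩ := ih (by omega)
      set c := x ^ 2 ^ (σ.n - (k + 1)) with hc
      have hcc : c * c = x ^ 2 ^ (σ.n - k) := by
        rw [hc, ← pow_add, ← two_mul, ← pow_succ', show σ.n - (k + 1) + 1 = σ.n - k by omega]
      set e' : U t := ⟨c * e * c⁻¹, hconj (hxt _) e⟩
      refine ⟨e * e', mul_mem he (hxPG _ e he), ?_, ?_⟩
      · rw [map_mul, hlp _ e e' rfl]; exact hsq e hle
      · refine (commute_of_conj_eq ?_).symm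
        show c * ((e : G) * (c * e * c⁻¹)) * c⁻¹ = e * (c * e * c⁻¹)
        calc c * ((e : G) * (c * e * c⁻¹)) * c⁻¹ = (c * e * c⁻¹) * (c * c * e * (c * c)⁻¹) := by group
          _ = (c * e * c⁻¹) * e := by rw [hcc, conj_eq_of_commute hec.symm]
          _ = _ := (hcomm e' e).eq
  obtain ⟨e, he, hle, hec⟩ := key σ.n le_rfl
  rw [Nat.sub_self, pow_zero, pow_one] at hec
  set e' : U t := ⟨u₁ * e * u₁⁻¹, hconj h.commute₁ e⟩
  refine ⟨e * e', mul_mem he ((mem_normalizer_iff.1 (hPS (subset_closure (by simp))) _).1 he), ?_, ?_⟩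
  · rw [map_mul, hf₁ e e' rfl]; exact hsq e hle
  have h1 : Commute (((e * e' : U t)) : G) u₁ := by
    refine (commute_of_conj_eq ?_).symm
    show u₁ * ((e : G) * (u₁ * e * u₁⁻¹)) * u₁⁻¹ = e * (u₁ * e * u₁⁻¹)
    calc u₁ * ((e : G) * (u₁ * e * u₁⁻¹)) * u₁⁻¹ = (u₁ * e * u₁⁻¹) * (u₁ * u₁ * e * (u₁ * u₁)⁻¹) := by group
      _ = (u₁ * e * u₁⁻¹) * e := by rw [involution_sq h.hu₁]; simp
      _ = _ := (hcomm e' e).eq
  refine ⟨h1, ?_⟩
  have h2 : Commute (((e * e' : U t)) : G) x := by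
    refine hec.mul_left ?_
    show Commute (u₁ * (e : G) * u₁⁻¹) x
    have h3 := hec.inv_right.map (MulAut.conj u₁).toMonoidHom
    simp only [MulEquiv.coe_toMonoidHom, MulAut.conj_apply] at h3
    rwa [show u₁ * x⁻¹ * u₁⁻¹ = x by
      rw [hx, mul_inv_rev, involution_inv h.hu₁, involution_inv h.hu₂, ← mul_assoc,
        mul_assoc _ u₁ u₁, involution_sq h.hu₁, mul_one]] at h3
  have h4 := h1.mul_right h2
  rwa [hx, ← mul_assoc, involution_sq h.hu₁, one_mul] at h4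

/-- A moved side next to an inert one: the fused centraliser is of type `A₇`. -/
theorem false_of_moved_inert (C : Components G) (hBr : CFixed G r) (hr : r ≠ 2) (hn : 2 ≤ σ.n)
    (hab : ∀ x y : U t, x * y = y * x) {e : G} (he : e ∈ D t u₁) (he1 : e ≠ 1)
    (hC : centralizer ({t} : Set G) ≤ centralizer ({e} : Set G))
    (hPS : closure ({u₁, u₂} : Set G) ≤ normalizer ((P : Subgroup (U t)).map (U t).subtype : Set G))
    {g : G} (hg : Rot t u₂ g) (hge : g ∈ centralizer ({e} : Set G))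
    (hin : ∀ x ∈ (P : Subgroup (U t)).map (U t).subtype, Commute x u₁)
    (hmove : ∃ x ∈ (P : Subgroup (U t)).map (U t).subtype, ¬ Commute x u₂) : False := by
  set X := centralizer ({e} : Set G) with hX
  set PG := (P : Subgroup (U t)).map (U t).subtype with hPG
  have hXtop : X ≠ ⊤ := σ.centralizer_ne_top he1
  have hS : closure ({u₁, u₂} : Set G) ≤ X := h.closure_le_centralizer.trans hC
  have hu₁X : u₁ ∈ X := hS (subset_closure (by simp))
  have hu₂X : u₂ ∈ X := hS (subset_closure (by simp))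
  have hF : Fused X t u₂ g := ⟨hXtop, hS h.t_mem_closure, hu₂X, hge, hg⟩
  obtain ⟨z, hz, hzu⟩ := hmove
  set v : G := z⁻¹ * (u₂ * z * u₂⁻¹) with hv
  have hzU : z ∈ U t := map_subtype_le _ hz
  have hz' : u₂ * z * u₂⁻¹ ∈ PG := (mem_normalizer_iff.1 (hPS (subset_closure (by simp))) z).1 hz
  have hvP : v ∈ PG := mul_mem (inv_mem hz) hz'
  have hv1 : v ≠ 1 := fun e => hzu (commute_of_conj_eq (inv_mul_eq_one.1 e).symm).symm
  have hvi : u₂ * v * u₂⁻¹ = v⁻¹ := by
    rw [hv, mul_inv_rev, inv_inv,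
      show u₂ * (z⁻¹ * (u₂ * z * u₂⁻¹)) * u₂⁻¹ = (u₂ * z * u₂⁻¹)⁻¹ * (u₂ * u₂ * z * (u₂ * u₂)⁻¹) by group,
      involution_sq h.hu₂, one_mul, inv_one, mul_one]
  have hvU : v ∈ U t := map_subtype_le _ hvP
  have hvX : v ∈ X := hC (U_le _ hvU)
  have hvr : IsRElt r v := isRElt_of_mem (P.2.map _) hvP
  have hncore : v ∉ core X := by
    intro hc
    have hP' : IsPGroup r (zpowers v) := (P.2.map _).to_le (zpowers_le.2 hvP)
    have hF' : Fused X u₂ (t * u₂) g := ⟨hXtop, hu₂X, mul_mem hF.mem_t hu₂X, hge, hg.next⟩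
    have hvu := hBr X (zpowers v) u₂ (t * u₂) g hF' hP' (zpowers_le.2 hc)
      (mem_normalizer_of_conj (by
        rintro _ ⟨k, rfl⟩
        refine ⟨-k, ?_⟩
        show v ^ (-k) = u₂ * v ^ k * u₂⁻¹
        rw [← conj_zpow, hvi, inv_zpow, zpow_neg])) v (mem_zpowers v)
    exact hv1 (eq_one_of_fixed_inverted (odd_orderOf_of_isRElt Fact.out hr hvr) hvu hvi)
  have hns : ¬ Group.IsSolvable X := fun hs => hncore (C.solvableLocal X t u₂ g v hF hs hvU hvX)
  by_cases h7 : Seven X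
  · obtain ⟨k, hk, hkt⟩ := seven_isConj h7 hF.mem_t hu₁X h.ht h.hu₁
    obtain ⟨g', hg', hR⟩ := h.symm.exists_rot_mem hn (by rwa [Set.pair_comm]) hk hkt
    exact (⟨hR, hg, h.ord, h.pow⟩ : Frame σ t u₁ u₂ g' g).not_both_fused
      (fun hbot => he1 (mem_bot.1 (hbot ▸ he))) hXtop hC hg' hge
  · have h2 := C.rotInverts X t u₂ g v u₁ hF hns h7 hvU hvX hvi hu₁X h.hu₁ h.commute₁ h.rot₁.ne.symm
    rw [conj_eq_of_commute (hin v hvP).symm, ← pow_two] at h2
    obtain ⟨j, hj⟩ := odd_orderOf_of_isRElt Fact.out hr hvr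
    refine hncore ?_
    have h3 : v = (v ^ 2) ^ (j + 1) := by
      rw [← pow_mul, show 2 * (j + 1) = orderOf v + 1 by omega, pow_succ, pow_orderOf_eq_one, one_mul]
    rw [h3]
    exact pow_mem h2 _

/-- Abelian `O(C(t))`: no fixed linear character. -/
theorem eq_one_of_comm (C : Components G) (hB : CoreFixed G) (hr : r ≠ 2) (hn : 2 ≤ σ.n)
    (hab : ∀ x y : U t, x * y = y * x)
    (hPS : closure ({u₁, u₂} : Set G) ≤ normalizer ((P : Subgroup (U t)).map (U t).subtype : Set G))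
    (l : U t →* ℂˣ) (hl : ∀ x, l x ^ r = 1) (hf₁ : Fixed t u₁ l) (hf₂ : Fixed t u₂ l) : l = 1 := by
  classical
  by_contra hl1
  set PG := (P : Subgroup (U t)).map (U t).subtype with hPG
  have hne : ∃ x : U t, (x : G) ∈ PG ∧ l x ≠ 1 := by
    by_contra hc
    push Not at hc
    exact hl1 (MonoidHom.ext (eq_one_of_sylow l hl P fun x hx => hc x ⟨x, hx, rfl⟩))
  obtain ⟨e, heP, hle, he₁, he₂⟩ := h.exists_fixed_ne_one hab l hl hr hf₁ hf₂ (map_subtype_le _) hPS hne
  have he1 : (e : G) ≠ 1 := fun q => hle (by rw [show e = 1 from Subtype.ext q, map_one])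
  have heD : (e : G) ∈ D t u₁ := ⟨e.2, mem_centralizer_of_commute he₁⟩
  have hBr : CFixed G r := hB r Fact.out (Or.inr ⟨fun t' x y ht' hx hy => by
    obtain ⟨c, rfl⟩ := isConj_iff.1 (σ.one_class t t' h.ht ht')
    have hb : ∀ z ∈ U (c * t * c⁻¹), c⁻¹ * z * c ∈ U t := fun z hz => by
      have h1 := σ.conj_mem_U ht' c⁻¹ hz
      simpa [mul_assoc] using h1
    have h1 : Commute (c⁻¹ * x * c) (c⁻¹ * y * c) :=
      congrArg Subtype.val (hab ⟨_, hb x hx⟩ ⟨_, hb y hy⟩)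
    simpa [mul_assoc] using h1.map (MulAut.conj c).toMonoidHom,
    t, u₁, g₁, h.rot₁, fun q => he1 (mem_bot.1 (q ▸ heD))⟩)
  have hC : centralizer ({t} : Set G) ≤ centralizer ({(e : G)} : Set G) := fun c hc => by
    obtain ⟨a, ha, s, hs, rfl⟩ := h.exists_mul (commute_of_mem_centralizer hc)
    refine mul_mem (mem_centralizer_of_commute (congrArg Subtype.val (hab ⟨a, ha⟩ e))) ?_
    refine (closure_le _).2 ?_ hs
    rintro y (rfl | rfl)
    exacts [mem_centralizer_of_commute he₁.symm, mem_centralizer_of_commute he₂.symm]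
  have hXtop : centralizer ({(e : G)} : Set G) ≠ ⊤ := σ.centralizer_ne_top he1
  have hPS' : closure ({u₂, u₁} : Set G) ≤ normalizer (PG : Set G) := by rwa [Set.pair_comm]
  have hD : D t u₁ ≠ ⊥ := fun q => he1 (mem_bot.1 (q ▸ heD))
  have mem : ∀ {g : G}, Commute g (e : G) → g ∈ centralizer ({(e : G)} : Set G) :=
    fun hg => mem_centralizer_of_commute hg
  by_cases hm₁ : ∃ x ∈ PG, ¬ Commute x u₁
  · obtain ⟨a₁, ha₁, hc₁⟩ := h.exists_rot_centralizing C hB hr hPS hm₁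
    have ha₁e := mem (hc₁ e heP he₁)
    by_cases hm₂ : ∃ x ∈ PG, ¬ Commute x u₂
    · obtain ⟨a₂, ha₂, hc₂⟩ := h.symm.exists_rot_centralizing C hB hr hPS' hm₂
      exact (⟨ha₁, ha₂, h.ord, h.pow⟩ : Frame σ t u₁ u₂ a₁ a₂).not_both_fused hD hXtop hC ha₁e
        (mem (hc₂ e heP he₂))
    · push Not at hm₂
      exact h.symm.false_of_moved_inert C hBr hr hn hab (e := e) ⟨e.2, mem_centralizer_of_commute he₂⟩ he1
        hC hPS' ha₁ ha₁e hm₂ hm₁
  · push Not at hm₁
    by_cases hm₂ : ∃ x ∈ PG, ¬ Commute x u₂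
    · obtain ⟨a₂, ha₂, hc₂⟩ := h.symm.exists_rot_centralizing C hB hr hPS' hm₂
      exact h.false_of_moved_inert C hBr hr hn hab heD he1 hC hPS ha₂ (mem (hc₂ e heP he₂)) hm₁ hm₂
    · push Not at hm₂
      obtain ⟨a₁, ha₁, hc₁⟩ := h.exists_rot_centralized C hr hn hPS hm₁ hm₂
      obtain ⟨a₂, ha₂, hc₂⟩ := h.symm.exists_rot_centralized C hr hn hPS' hm₂ hm₁
      exact (⟨ha₁, ha₂, h.ord, h.pow⟩ : Frame σ t u₁ u₂ a₁ a₂).not_both_fused hD hXtop hC
        (mem (hc₁ e heP)) (mem (hc₂ e heP))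

end Frame

end CfsgLib.GW.Dne
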