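import Cfsg.Agent.Lib.GW.Dne.Inverted
import Mathlib.GroupTheory.FiniteAbelian.Duality
import Mathlib.GroupTheory.SpecificGroups.Cyclic

/-!
# Homomorphisms of `O(C(t))` to commutative groups

With no fixed linear character, a homomorphism to a commutative group that is fixed by both
reflections is trivial.
-/

set_option autoImplicit false

namespace CfsgLib.GW.Dne

open Subgroup CfsgLib.GW
open CfsgLib.Signalizer (involution_sq involution_inv involution_ne_one orderOf_eq_two_of orderOf_conj)

universe u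

variable {G : Type u} [Group G] [Finite G]

theorem conj_mem_U_of_commute {t w x : G} (hw : Commute w t) (hx : x ∈ U t) : w * x * w⁻¹ ∈ U t :=
  (mem_normalizer_iff.1 (Setting.le_normalizer_U t (mem_centralizer_of_commute hw)) x).1 hx

variable {σ : Hyp G} {t u₁ u₂ g₁ g₂ : G}

/-- A homomorphism fixed by both reflections into a commutative group is trivial. -/
theorem eq_one_of_fixed (hL : NoFixedLinear G) (h : Frame σ t u₁ u₂ g₁ g₂) {A : Type*} [Group A]
    (φ : U t →* A) (hcomm : ∀ a b, φ a * φ b = φ b * φ a) (h1 : Fixed t u₁ φ) (h2 : Fixed t u₂ φ)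
    (x : U t) : φ x = 1 := by
  classical
  letI : CommGroup φ.range :=
    { (inferInstance : Group φ.range) with
      mul_comm := fun a b => by
        obtain ⟨a, a', rfl⟩ := a
        obtain ⟨b, b', rfl⟩ := b
        exact Subtype.ext (hcomm a' b') }
  by_contra hne
  have hne' : φ.rangeRestrict x ≠ 1 := fun e => hne (congrArg Subtype.val e)
  haveI : Finite φ.range := Finite.of_surjective _ φ.rangeRestrict_surjective
  obtain ⟨ψ, hψ⟩ := CommGroup.exists_apply_ne_one_of_hasEnoughRootsOfUnity φ.range ℂ hne'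
  have := hL σ t u₁ u₂ g₁ g₂ (ψ.comp φ.rangeRestrict) h
    (fun a b hab => congrArg ψ (Subtype.ext (h1 a b hab)))
    (fun a b hab => congrArg ψ (Subtype.ext (h2 a b hab)))
  exact hψ (DFunLike.congr_fun this x)

/-- A homomorphism into a commutative group fixed by `u₁` and by its conjugate under `u₂` is
inverted by `u₂`. -/
theorem apply_conj_eq_inv (hL : NoFixedLinear G) (h : Frame σ t u₁ u₂ g₁ g₂) {A : Type*} [Group A]
    (φ : U t →* A) (hcomm : ∀ a b, φ a * φ b = φ b * φ a) (h1 : Fixed t u₁ φ)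
    (h1' : Fixed t (u₂ * u₁ * u₂⁻¹) φ) {x y : U t} (hy : (y : G) = u₂ * x * u₂⁻¹) : φ y = (φ x)⁻¹ := by
  let c : U t →* U t :=
    { toFun := fun x => ⟨u₂ * x * u₂⁻¹, conj_mem_U_of_commute h.commute₂ x.2⟩
      map_one' := Subtype.ext (by simp)
      map_mul' := fun a b => Subtype.ext (by simp [mul_assoc]) }
  let ψ : U t →* A :=
    { toFun := fun x => φ x * φ (c x)
      map_one' := by rw [map_one, map_one, map_one, mul_one]
      map_mul' := fun a b => by
        rw [map_mul, map_mul, map_mul, mul_assoc, ← mul_assoc (φ b), hcomm b, mul_assoc, mul_assoc] }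
  have key := eq_one_of_fixed hL h ψ (fun a b => by
      show φ a * φ (c a) * (φ b * φ (c b)) = φ b * φ (c b) * (φ a * φ (c a))
      rw [← map_mul φ a, ← map_mul φ b, hcomm])
    (fun a b hab => by
      show φ b * φ (c b) = φ a * φ (c a)
      rw [h1 a b hab, h1' (c a) (c b) (by
        show u₂ * (b : G) * u₂⁻¹ = u₂ * u₁ * u₂⁻¹ * (u₂ * a * u₂⁻¹) * (u₂ * u₁ * u₂⁻¹)⁻¹
        rw [hab]; group)])
    (fun a b hab => by
      show φ b * φ (c b) = φ a * φ (c a)
      rw [show b = c a from Subtype.ext hab, show c (c a) = a from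
        Subtype.ext (conj_conj_involution h.hu₂), hcomm]) x
  rw [show y = c x from Subtype.ext hy]
  exact eq_inv_of_mul_eq_one_right key

/-- `O(C(t))` centralises a normal cyclic subgroup invariant under both reflections. -/
theorem commute_cyclic (hL : NoFixedLinear G) (h : Frame σ t u₁ u₂ g₁ g₂) {W : Subgroup G}
    [IsCyclic W] (hW : U t ≤ normalizer (W : Set G)) (hu₁ : u₁ ∈ normalizer (W : Set G))
    (hu₂ : u₂ ∈ normalizer (W : Set G)) {x w : G} (hx : x ∈ U t) (hw : w ∈ W) : Commute x w := by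
  set Φ : normalizer (W : Set G) →* (ZMod (Nat.card W))ˣ :=
    (IsCyclic.mulAutMulEquiv (G := W)).toMonoidHom.comp (normalizerMonoidHom W) with hΦ
  have hfix : ∀ u ∈ normalizer (W : Set G), Fixed t u (Φ.comp (inclusion hW)) := by
    intro u hu a b hab
    show Φ (inclusion hW b) = Φ (inclusion hW a)
    rw [show inclusion hW b = ⟨u, hu⟩ * inclusion hW a * ⟨u, hu⟩⁻¹ from Subtype.ext hab, map_mul,
      map_mul, map_inv, mul_comm (Φ ⟨u, hu⟩), mul_inv_cancel_right]
  have h1 := eq_one_of_fixed hL h (Φ.comp (inclusion hW)) (fun a b => mul_comm _ _)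
    (hfix u₁ hu₁) (hfix u₂ hu₂) ⟨x, hx⟩
  have h2 : normalizerMonoidHom W ⟨x, hW hx⟩ = 1 :=
    (IsCyclic.mulAutMulEquiv (G := W)).injective (h1.trans (map_one _).symm)
  refine commute_of_conj_eq ?_
  have h3 := congrArg Subtype.val (DFunLike.congr_fun h2 (⟨w, hw⟩ : W))
  exact h3

end CfsgLib.GW.Dne
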