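import Cfsg.Agent.Lib.GW.Dne.Sylows

/-!
# No linear character of `O(C(t))` is fixed by the `2`-part of `C(t)`
-/

set_option autoImplicit false

namespace CfsgLib.GW.Dne

open Subgroup CfsgLib.GW
open CfsgLib.Signalizer (involution_sq involution_inv involution_ne_one orderOf_eq_two_of orderOf_conj)

universe u

variable {G : Type u} [Group G] [Finite G]

/-- `y ↦ l (g y g⁻¹)` on `D t u`. -/
noncomputable def lconj (σ : Hyp G) {t u g : G} (h : Rot t u g) (l : U t →* ℂˣ) :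
    D t u →* ℂˣ where
  toFun y := l ⟨g * y * g⁻¹, (σ.rot_conj_mem_D h y.2).1⟩
  map_one' := by
    rw [← map_one l]
    exact congrArg l (Subtype.ext (by simp))
  map_mul' a b := by
    rw [← map_mul]
    exact congrArg l (Subtype.ext (by simp [mul_assoc]))

theorem mem_zpowers_involution {u a : G} (hu : orderOf u = 2) (ha : a ∈ zpowers u) :
    a = 1 ∨ a = u := by
  obtain ⟨k, rfl⟩ := ha
  have h2 : u ^ (2 : ℤ) = 1 := by rw [zpow_two]; exact involution_sq hu
  rcases Int.even_or_odd k with ⟨m, rfl⟩ | ⟨m, rfl⟩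
  · left
    show u ^ (m + m) = 1
    rw [← two_mul, zpow_mul, h2, one_zpow]
  · right
    show u ^ (2 * m + 1) = u
    rw [zpow_add, zpow_mul, h2, one_zpow, one_mul, zpow_one]

theorem mem_normalizer_centralizer {Y : Subgroup G} {x : G} (hx : x ∈ normalizer (Y : Set G)) :
    x ∈ normalizer ((normalizer (Y : Set G) ⊓ centralizer (Y : Set G) : Subgroup G) : Set G) := by
  refine mem_normalizer_of_conj fun c hc => ⟨(normalizer (Y : Set G)).mul_mem
    ((normalizer (Y : Set G)).mul_mem hx hc.1) ((normalizer (Y : Set G)).inv_mem hx),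
    mem_centralizer_iff.2 fun y hy => ?_⟩
  have hy' : x⁻¹ * y * x ∈ Y := (mem_normalizer_iff''.1 hx y).1 hy
  have h1 : x⁻¹ * y * x * c = c * (x⁻¹ * y * x) := mem_centralizer_iff.1 hc.2 _ hy'
  calc y * (x * c * x⁻¹) = x * (x⁻¹ * y * x * c) * x⁻¹ := by group
    _ = x * c * x⁻¹ * y := by rw [h1]; group

namespace Frame

variable {σ : Hyp G} {t u₁ u₂ g₁ g₂ : G} (h : Frame σ t u₁ u₂ g₁ g₂)
variable {r : ℕ} [Fact r.Prime] {P : Sylow r (U t)}

include h

/-- A homomorphism of exponent `r` on `D` vanishing on the fixed points of an invariant Sylow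
subgroup is trivial. -/
theorem eq_one_on_D (hP : u₁ ∈ normalizer ((P : Subgroup (U t)).map (U t).subtype : Set G))
    (φ : D t u₁ →* ℂˣ) (hφ : ∀ x, φ x ^ r = 1)
    (h0 : ∀ x : D t u₁, (x : G) ∈ (P : Subgroup (U t)).map (U t).subtype → φ x = 1)
    (x : D t u₁) : φ x = 1 := by
  obtain ⟨R⟩ : Nonempty (Sylow r (D t u₁)) := inferInstance
  refine eq_one_of_sylow φ hφ R (fun y hy => ?_) x
  obtain ⟨c, hc, hcR⟩ := h.fixed_card_max hP (R.2.map (D t u₁).subtype) (map_subtype_le _)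
  have h1 := hcR y ⟨y, hy, rfl⟩
  set c' : D t u₁ := ⟨c, hc⟩
  have h2 : φ (c' * y * c'⁻¹) = 1 := h0 _ h1.1
  rw [map_mul, map_mul, map_inv, mul_comm (φ c') (φ y), mul_inv_cancel_right] at h2
  exact h2

/-- A rotation centralising the fixed points of an invariant Sylow subgroup gives invariance. -/
theorem invOn_of_centralizing
    (hP : u₁ ∈ normalizer ((P : Subgroup (U t)).map (U t).subtype : Set G))
    (l : U t →* ℂˣ) (hl : ∀ x, l x ^ r = 1) {g' : G} (hg' : Rot t u₁ g')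
    (hc : ∀ x ∈ (P : Subgroup (U t)).map (U t).subtype, Commute x u₁ → Commute g' x) :
    InvOn t u₁ g₁ l := by
  -- invariance under `g'`
  set φ : D t u₁ →* ℂˣ := lconj σ hg' l * (l.comp (inclusion (Hyp.D_le_U t u₁)))⁻¹
  have hφ1 : ∀ x, φ x = 1 := by
    refine h.eq_one_on_D hP φ (fun x => ?_) (fun x hx => ?_)
    · show (lconj σ hg' l x * (l (inclusion (Hyp.D_le_U t u₁) x))⁻¹) ^ r = 1
      rw [mul_pow, inv_pow]
      show l _ ^ r * (l _ ^ r)⁻¹ = 1
      rw [hl, hl, inv_one, mul_one]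
    · show lconj σ hg' l x * (l (inclusion (Hyp.D_le_U t u₁) x))⁻¹ = 1
      rw [mul_inv_eq_one]
      refine congrArg l (Subtype.ext ?_)
      show g' * (x : G) * g'⁻¹ = x
      exact conj_eq_of_commute (hc x hx (Hyp.D_commute x.2))
  -- `g₁` differs by an element centralising the four-group
  intro x y hx hy
  set c := g'⁻¹ * g₁ with hcdef
  have hct : Commute c t := commute_of_conj_eq (by
    calc c * t * c⁻¹ = g'⁻¹ * (g₁ * t * g₁⁻¹) * g' := by rw [hcdef]; group
      _ = t := by rw [h.rot₁.conj1, ← hg'.conj1]; group)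
  have hcu : Commute c u₁ := commute_of_conj_eq (by
    calc c * u₁ * c⁻¹ = g'⁻¹ * (g₁ * u₁ * g₁⁻¹) * g' := by rw [hcdef]; group
      _ = u₁ := by rw [h.rot₁.conj2, ← hg'.conj2]; group)
  obtain ⟨d, hd, s, hs, hds⟩ := σ.commute_four h.ht h.hu₁ h.rot₁.ne h.rot₁.comm hct hcu
  have hsx : Commute s (x : G) := by
    rcases mem_four_cases h.ht h.hu₁ h.rot₁.comm hs with e | e | e | e <;> rw [e]
    · exact Commute.one_left _
    · exact ((σ.mem_D h.ht).1 hx).1.symm
    · exact (Hyp.D_commute hx).symm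
    · exact ((σ.mem_D h.ht).1 hx).1.symm.mul_left (Hyp.D_commute hx).symm
  have e1 : c * x * c⁻¹ = d * x * d⁻¹ := by
    rw [hds]
    calc d * s * x * (d * s)⁻¹ = d * (s * x * s⁻¹) * d⁻¹ := by group
      _ = d * x * d⁻¹ := by rw [conj_eq_of_commute hsx]
  set xD : D t u₁ := ⟨x, hx⟩
  set dD : D t u₁ := ⟨d, hd⟩
  have h1 := hφ1 (dD * xD * dD⁻¹)
  rw [MonoidHom.mul_apply, MonoidHom.inv_apply, mul_inv_eq_one] at h1
  have h2 : l y = lconj σ hg' l (dD * xD * dD⁻¹) := by
    refine congrArg l (Subtype.ext ?_)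
    show (y : G) = g' * (d * x * d⁻¹) * g'⁻¹
    rw [hy, ← e1, hcdef]
    group
  rw [h2, h1, map_mul, map_mul, map_inv]
  show l.comp (inclusion (Hyp.D_le_U t u₁)) dD * l x * (l.comp (inclusion (Hyp.D_le_U t u₁)) dD)⁻¹ = l x
  rw [mul_comm (l.comp (inclusion (Hyp.D_le_U t u₁)) dD) (l x), mul_inv_cancel_right]

/-- A rotation normalising the fixed points of an invariant Sylow subgroup. -/
theorem exists_rot_normalizing
    (hP : u₁ ∈ normalizer ((P : Subgroup (U t)).map (U t).subtype : Set G)) :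
    ∃ g' : G, Rot t u₁ g' ∧ g' ∈ normalizer
      (((P : Subgroup (U t)).map (U t).subtype ⊓ centralizer ({u₁} : Set G) : Subgroup G) : Set G) := by
  set PF := (P : Subgroup (U t)).map (U t).subtype ⊓ centralizer ({u₁} : Set G) with hPF
  have hPFD : PF ≤ D t u₁ := fun x hx => ⟨map_subtype_le _ hx.1, hx.2⟩
  have hPFp : IsPGroup r PF := (P.2.map _).to_le inf_le_left
  obtain ⟨c, hc, hcR⟩ := h.fixed_card_max hP (R := PF.map (MulAut.conj g₁).toMonoidHom)
    (hPFp.map _) (by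
      rintro _ ⟨x, hx, rfl⟩
      exact σ.rot_conj_mem_D h.rot₁ (hPFD hx))
  obtain ⟨hct, hcu, -⟩ := (σ.mem_D h.ht).1 hc
  refine ⟨c * g₁, ⟨h.ht, h.hu₁, h.rot₁.ne, h.rot₁.comm, ?_, ?_⟩,
    mem_normalizer_of_conj fun x hx => ?_⟩
  · rw [show c * g₁ * t * (c * g₁)⁻¹ = c * (g₁ * t * g₁⁻¹) * c⁻¹ by group, h.rot₁.conj1]
    exact conj_eq_of_commute hcu
  · rw [show c * g₁ * u₁ * (c * g₁)⁻¹ = c * (g₁ * u₁ * g₁⁻¹) * c⁻¹ by group, h.rot₁.conj2]
    exact conj_eq_of_commute (hct.mul_right hcu)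
  · have h1 := hcR _ ⟨x, hx, rfl⟩
    have e : c * g₁ * x * (c * g₁)⁻¹ = c * (g₁ * x * g₁⁻¹) * c⁻¹ := by group
    rw [e]
    exact h1

omit [Fact r.Prime] in
theorem le_normalizer_fixed (hn : t ∈ normalizer ((P : Subgroup (U t)).map (U t).subtype : Set G))
    (x : G) (hx : x ∈ ({t, u₁} : Set G)) :
    x ∈ normalizer
      (((P : Subgroup (U t)).map (U t).subtype ⊓ centralizer ({u₁} : Set G) : Subgroup G) : Set G) := by
  have _ := hn
  refine mem_normalizer_of_conj fun y hy => ?_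
  rcases hx with rfl | rfl
  · rw [conj_eq_of_commute ((σ.mem_U h.ht).1 (map_subtype_le _ hy.1)).1.symm]; exact hy
  · rw [conj_eq_of_commute (commute_of_mem_centralizer hy.2).symm]; exact hy

/-- With a non-inert Sylow subgroup a rotation centralises the fixed points. -/
theorem exists_rot_centralizing (C : Components G) (hB : CoreFixed G) (hr : r ≠ 2)
    (hPS : closure ({u₁, u₂} : Set G) ≤ normalizer ((P : Subgroup (U t)).map (U t).subtype : Set G))
    (hmove : ∃ x ∈ (P : Subgroup (U t)).map (U t).subtype, ¬ Commute x u₁) :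
    ∃ g'' : G, Rot t u₁ g'' ∧
      ∀ y ∈ (P : Subgroup (U t)).map (U t).subtype, Commute y u₁ → Commute g'' y := by
  classical
  set PG := (P : Subgroup (U t)).map (U t).subtype with hPG
  set PF := PG ⊓ centralizer ({u₁} : Set G) with hPF
  have hP : u₁ ∈ normalizer (PG : Set G) := hPS (subset_closure (by simp))
  by_cases hbot : PF = ⊥
  · refine ⟨g₁, h.rot₁, fun x hx hxu => ?_⟩
    have : x ∈ PF := ⟨hx, mem_centralizer_of_commute hxu⟩
    rw [hbot, mem_bot] at this
    rw [this]; exact Commute.one_right _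
  obtain ⟨g', hg', hg'N⟩ := h.exists_rot_normalizing hP
  have hPFD : PF ≤ D t u₁ := fun x hx => ⟨map_subtype_le _ hx.1, hx.2⟩
  set X := normalizer (PF : Set G) with hX
  have hF : Fused X t u₁ g' := ⟨σ.normalizer_ne_top_of_odd hbot
    ((σ.odd_D h.ht).of_dvd_nat (card_dvd_of_le hPFD)),
    h.le_normalizer_fixed (hPS h.t_mem_closure) t (by simp),
    h.le_normalizer_fixed (hPS h.t_mem_closure) u₁ (by simp), hg'N, hg'⟩
  obtain ⟨x, hx, hxu⟩ := hmove
  have hlt : PF < PG := lt_of_le_of_ne inf_le_left fun e => hxu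
    (commute_of_mem_centralizer ((e ▸ hx : x ∈ PF)).2)
  obtain ⟨v, hv, hvF, hvN, hvi⟩ := exists_inverted_normalizer (P.2.map _) hr h.hu₁ hP hF.mem_u hlt
    fun a ha hau => ⟨ha, mem_centralizer_of_commute hau⟩
  obtain ⟨a, haF, ha1⟩ := (bot_or_exists_ne_one PF).resolve_left hbot
  have hvr : IsRElt r v := isRElt_of_mem (P.2.map _) hv
  have hBig : Big G r := Or.inl ⟨t, PG, h.ht, map_subtype_le _, P.2.map _,
    not_isCyclic_of_fixed_inverted (P.2.map _) hr haF.1 hv ha1
      (fun e => hvF (e ▸ one_mem PF)) (commute_of_mem_centralizer haF.2) hvi⟩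
  have hns : ¬ Group.IsSolvable X := fun hs => by
    have hvc := C.solvableLocal X t u₁ g' v hF hs (map_subtype_le _ hv) hvN
    have hF' : Fused X u₁ (t * u₁) g' :=
      ⟨hF.ne_top, hF.mem_u, mul_mem hF.mem_t hF.mem_u, hF.mem_g, hg'.next⟩
    have hvu := hB r Fact.out hBig X (zpowers v) u₁ (t * u₁) g' hF'
      ((P.2.map _).to_le (zpowers_le.2 hv)) (zpowers_le.2 hvc)
      (mem_normalizer_of_conj (by
        rintro _ ⟨k, rfl⟩
        refine ⟨-k, ?_⟩
        show v ^ (-k) = u₁ * v ^ k * u₁⁻¹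
        rw [← conj_zpow, hvi, inv_zpow, zpow_neg])) v (mem_zpowers v)
    exact hvF ⟨hv, mem_centralizer_of_commute hvu⟩
  obtain ⟨g'', hg''N, hg''⟩ := C.normalCover X (X ⊓ centralizer (PF : Set G)) t u₁ g' hF hns
    inf_le_left (fun y hy => mem_normalizer_centralizer hy)
    ⟨hF.mem_t, mem_centralizer_iff.2 fun y hy => ((σ.mem_D h.ht).1 (hPFD hy)).1.eq⟩
  exact ⟨g'', hg'', fun y hy hyu =>
    (mem_centralizer_iff.1 hg''N.2 y ⟨hy, mem_centralizer_of_commute hyu⟩).symm⟩

/-- Non-inert Sylow subgroups give invariance. -/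
theorem invOn_of_moved (C : Components G) (hB : CoreFixed G) (hr : r ≠ 2)
    (hPS : closure ({u₁, u₂} : Set G) ≤ normalizer ((P : Subgroup (U t)).map (U t).subtype : Set G))
    (l : U t →* ℂˣ) (hl : ∀ x, l x ^ r = 1)
    (hmove : ∃ x ∈ (P : Subgroup (U t)).map (U t).subtype, ¬ Commute x u₁) : InvOn t u₁ g₁ l := by
  obtain ⟨g'', hg'', hc⟩ := h.exists_rot_centralizing C hB hr hPS hmove
  exact h.invOn_of_centralizing (hPS (subset_closure (by simp))) l hl hg'' hc

/-- Extension from `D` when a Sylow subgroup is inert. -/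
theorem exists_extension (hr : r ≠ 2)
    (hP : u₁ ∈ normalizer ((P : Subgroup (U t)).map (U t).subtype : Set G))
    (hin : ∀ x ∈ (P : Subgroup (U t)).map (U t).subtype, Commute x u₁)
    (ψ : D t u₁ →* ℂˣ) (hψ : ∀ x, ψ x ^ r = 1) :
    ∃ l₁ : U t →* ℂˣ, Fixed t u₁ l₁ ∧ ∀ (x : D t u₁) (x' : U t), (x' : G) = x → l₁ x' = ψ x := by
  classical
  have hPD : ∀ x : (P : Subgroup (U t)), ((x : U t) : G) ∈ D t u₁ := fun x =>
    ⟨(x : U t).2, mem_centralizer_of_commute (hin _ ⟨x, x.2, rfl⟩)⟩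
  let ψP : (P : Subgroup (U t)) →* ℂˣ :=
    { toFun := fun x => ψ ⟨_, hPD x⟩
      map_one' := by rw [← map_one ψ]; exact congrArg ψ (Subtype.ext rfl)
      map_mul' := fun a b => by rw [← map_mul]; exact congrArg ψ (Subtype.ext rfl) }
  have hinv : ∀ (y z : (P : Subgroup (U t))) (g : U t), (z : U t) = g⁻¹ * y * g → ψP z = ψP y := by
    intro y z g hz
    have hzG : ((z : U t) : G) = (g : G)⁻¹ * (y : U t) * g := by
      rw [hz]; simp
    set N := U t ⊓ centralizer ({((z : U t) : G)} : Set G) with hN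
    have hzu : Commute ((z : U t) : G) u₁ := Hyp.D_commute (hPD z)
    have huN : u₁ ∈ normalizer (N : Set G) := mem_normalizer_of_conj fun w hw => by
      refine ⟨(mem_normalizer_iff.1 h.left_mem_normalizer_U w).1 hw.1, mem_centralizer_of_commute ?_⟩
      have := (commute_of_mem_centralizer hw.2).map (MulAut.conj u₁).toMonoidHom
      simpa [conj_eq_of_commute hzu.symm] using this
    obtain ⟨n, hn, hgn⟩ := CfsgLib.Core.exists_centralizing_in_coset (A := zpowers u₁) (N := N)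
      (k := (g : G)) (zpowers_le.2 huN)
      (coprime_zpowers_two h.hu₁ ((σ.odd_U h.ht).of_dvd_nat (card_dvd_of_le inf_le_left)))
      (Or.inr (CfsgLib.OddLocal.FTFinal.odd_order_solvable
        ((σ.odd_U h.ht).of_dvd_nat (card_dvd_of_le inf_le_left)))) (by
        intro a ha
        rcases mem_zpowers_involution h.hu₁ ha with rfl | rfl
        · simp
        · refine ⟨(U t).mul_mem ((U t).inv_mem g.2) ((mem_normalizer_iff.1 h.left_mem_normalizer_U g).1 g.2),
            mem_centralizer_of_commute (commute_of_conj_eq ?_)⟩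
          have hyu : Commute ((y : U t) : G) a := Hyp.D_commute (hPD y)
          calc (g : G)⁻¹ * (a * g * a⁻¹) * ((z : U t) : G) * ((g : G)⁻¹ * (a * g * a⁻¹))⁻¹
              = (g : G)⁻¹ * (a * (g * (a⁻¹ * (z : U t) * a) * (g : G)⁻¹) * a⁻¹) * g := by group
            _ = (g : G)⁻¹ * (a * (g * (z : U t) * (g : G)⁻¹) * a⁻¹) * g := by
              rw [show a⁻¹ * ((z : U t) : G) * a = (z : U t) by
                rw [mul_assoc, hzu.eq, inv_mul_cancel_left]]
            _ = (g : G)⁻¹ * (a * (y : U t) * a⁻¹) * g := by rw [hzG]; group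
            _ = (z : U t) := by rw [conj_eq_of_commute hyu.symm, hzG])
    have hgnD : (g : G) * n ∈ D t u₁ := ⟨mul_mem g.2 hn.1, mem_centralizer_of_commute
      (mem_centralizer_iff.1 hgn u₁ (mem_zpowers u₁)).symm⟩
    set d : D t u₁ := ⟨_, hgnD⟩
    have e : (⟨_, hPD z⟩ : D t u₁) = d⁻¹ * ⟨_, hPD y⟩ * d := by
      refine Subtype.ext ?_
      show ((z : U t) : G) = ((g : G) * n)⁻¹ * (y : U t) * ((g : G) * n)
      have hnz : Commute n ((z : U t) : G) := commute_of_mem_centralizer hn.2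
      calc ((z : U t) : G) = n⁻¹ * (z : U t) * n := by rw [mul_assoc, hnz.symm.eq, inv_mul_cancel_left]
        _ = _ := by rw [hzG]; group
    show ψ ⟨_, hPD z⟩ = ψ ⟨_, hPD y⟩
    rw [e, map_mul, map_mul, map_inv, mul_comm (ψ d)⁻¹, inv_mul_cancel_right]
  obtain ⟨k, -, hk⟩ := Nat.exists_mul_mod_eq_one_of_coprime
    ((Nat.Prime.coprime_iff_not_dvd Fact.out).2 P.not_dvd_index).symm (Fact.out : r.Prime).one_lt
  set l₁ : U t →* ℂˣ := ψP.transfer ^ k with hl₁
  have hP1 : ∀ x : (P : Subgroup (U t)), l₁ (x : U t) = ψP x := by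
    intro x
    rw [hl₁, MonoidHom.pow_apply, transfer_apply_of_invariant ψP hinv, ← pow_mul]
    have h2 := Nat.div_add_mod ((P : Subgroup (U t)).index * k) r
    rw [hk] at h2
    rw [← h2, pow_succ, pow_mul]
    show (ψ ⟨_, hPD x⟩ ^ r) ^ _ * _ = _
    rw [hψ, one_pow, one_mul]
  have hlr : ∀ x : U t, l₁ x ^ r = 1 := by
    intro x
    rw [hl₁, MonoidHom.pow_apply, ← pow_mul, mul_comm, pow_mul]
    have : (ψP.transfer x) ^ r = 1 := by
      rw [← MonoidHom.pow_apply]
      have h0 : ψP ^ r = 1 := MonoidHom.ext fun y => hψ _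
      haveI := Fintype.ofFinite (Quotient (MulAction.orbitRel (zpowers x) (U t ⧸ (P : Subgroup (U t)))))
      rw [MonoidHom.pow_apply, MonoidHom.transfer_eq_prod_quotient_orbitRel_zpowers_quot,
        ← Finset.prod_pow]
      exact Finset.prod_eq_one fun q _ => DFunLike.congr_fun h0 _
    rw [this, one_pow]
  refine ⟨l₁, ?_, ?_⟩
  · -- invariance
    let cj : U t →* U t :=
      { toFun := fun x => ⟨u₁ * x * u₁⁻¹, (mem_normalizer_iff.1 h.left_mem_normalizer_U x).1 x.2⟩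
        map_one' := Subtype.ext (by simp)
        map_mul' := fun a b => Subtype.ext (by simp [mul_assoc]) }
    intro x y hy
    have h1 : (l₁.comp cj * l₁⁻¹) x = 1 := by
      refine eq_one_of_sylow _ (fun z => ?_) P (fun z hz => ?_) x
      · rw [MonoidHom.mul_apply, MonoidHom.inv_apply, mul_pow, inv_pow, MonoidHom.comp_apply, hlr,
          hlr, inv_one, mul_one]
      · rw [MonoidHom.mul_apply, MonoidHom.inv_apply, mul_inv_eq_one, MonoidHom.comp_apply]
        exact congrArg l₁ (Subtype.ext (conj_eq_of_commute (hin _ ⟨z, hz, rfl⟩).symm))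
    rw [MonoidHom.mul_apply, MonoidHom.inv_apply, mul_inv_eq_one, MonoidHom.comp_apply] at h1
    rw [← h1]
    exact congrArg l₁ (Subtype.ext hy)
  · intro x x' hx'
    obtain rfl : x' = inclusion (Hyp.D_le_U t u₁) x := Subtype.ext hx'
    have h1 : (l₁.comp (inclusion (Hyp.D_le_U t u₁)) * ψ⁻¹) x = 1 := by
      refine h.eq_one_on_D hP _ (fun z => ?_) (fun z hz => ?_) x
      · rw [MonoidHom.mul_apply, MonoidHom.inv_apply, mul_pow, inv_pow, MonoidHom.comp_apply, hlr,
          hψ, inv_one, mul_one]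
      · rw [MonoidHom.mul_apply, MonoidHom.inv_apply, mul_inv_eq_one, MonoidHom.comp_apply]
        obtain ⟨w, hw, hwz⟩ := hz
        obtain rfl : w = inclusion (Hyp.D_le_U t u₁) z := Subtype.ext hwz
        rw [hP1 ⟨_, hw⟩]
        exact congrArg ψ (Subtype.ext rfl)
    rwa [MonoidHom.mul_apply, MonoidHom.inv_apply, mul_inv_eq_one, MonoidHom.comp_apply] at h1

/-- Inert Sylow subgroups give extendible translates. -/
theorem tripleOn_of_inert (hr : r ≠ 2)
    (hP : u₁ ∈ normalizer ((P : Subgroup (U t)).map (U t).subtype : Set G))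
    (hin : ∀ x ∈ (P : Subgroup (U t)).map (U t).subtype, Commute x u₁)
    (l : U t →* ℂˣ) (hl : ∀ x, l x ^ r = 1) : TripleOn t u₁ g₁ l := by
  let gD : D t u₁ →* D t u₁ :=
    { toFun := fun x => ⟨g₁ * x * g₁⁻¹, σ.rot_conj_mem_D h.rot₁ x.2⟩
      map_one' := Subtype.ext (by simp)
      map_mul' := fun a b => Subtype.ext (by simp [mul_assoc]) }
  obtain ⟨l₁, hl₁, he₁⟩ := h.exists_extension hr hP hin (lconj σ h.rot₁ l) (fun x => hl _)
  obtain ⟨l₂, hl₂, he₂⟩ := h.exists_extension hr hP hin ((lconj σ h.rot₁ l).comp gD) (fun x => hl _)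
  refine ⟨l₁, l₂, hl₁, hl₂, fun x y hx hy => ?_, fun x y hx hy => ?_⟩
  · rw [he₁ ⟨x, hx⟩ x rfl]; exact congrArg l (Subtype.ext hy.symm)
  · rw [he₂ ⟨x, hx⟩ x rfl]; exact congrArg l (Subtype.ext hy.symm)

omit [Fact r.Prime] in
theorem tripleOn_of_invOn (l : U t →* ℂˣ) (hf : Fixed t u₁ l) (hi : InvOn t u₁ g₁ l) :
    TripleOn t u₁ g₁ l := by
  refine ⟨l, l, hf, hf, fun x y hx hy => (hi x y hx hy).symm, fun x y hx hy => ?_⟩
  have hm := σ.rot_conj_mem_D h.rot₁ hx
  rw [hi ⟨_, hm.1⟩ y hm hy, hi x ⟨_, hm.1⟩ hx rfl]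

/-- A centralised Sylow subgroup is centralised by a rotation. -/
theorem exists_rot_centralized (C : Components G) (hr : r ≠ 2) (hn : 2 ≤ σ.n)
    (hPS : closure ({u₁, u₂} : Set G) ≤ normalizer ((P : Subgroup (U t)).map (U t).subtype : Set G))
    (hin₁ : ∀ x ∈ (P : Subgroup (U t)).map (U t).subtype, Commute x u₁)
    (hin₂ : ∀ x ∈ (P : Subgroup (U t)).map (U t).subtype, Commute x u₂) :
    ∃ g'' : G, Rot t u₁ g'' ∧ ∀ y ∈ (P : Subgroup (U t)).map (U t).subtype, Commute g'' y := by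
  classical
  set PG := (P : Subgroup (U t)).map (U t).subtype with hPG
  have hP₁ : u₁ ∈ normalizer (PG : Set G) := hPS (subset_closure (by simp))
  have hP₂ : u₂ ∈ normalizer (PG : Set G) := hPS (subset_closure (by simp))
  by_cases hbot : PG = ⊥
  · refine ⟨g₁, h.rot₁, fun x hx => ?_⟩
    rw [hbot, mem_bot] at hx
    rw [hx]; exact Commute.one_right _
  have _ := hr
  have e1 : PG ⊓ centralizer ({u₁} : Set G) = PG :=
    inf_eq_left.2 fun x hx => mem_centralizer_of_commute (hin₁ x hx)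
  have e2 : PG ⊓ centralizer ({u₂} : Set G) = PG :=
    inf_eq_left.2 fun x hx => mem_centralizer_of_commute (hin₂ x hx)
  obtain ⟨a₁, ha₁, ha₁N⟩ := h.exists_rot_normalizing hP₁
  obtain ⟨a₂, ha₂, ha₂N⟩ := h.symm.exists_rot_normalizing hP₂
  rw [← hPG, e1] at ha₁N
  rw [← hPG, e2] at ha₂N
  set X := normalizer (PG : Set G) with hX
  have hXtop : X ≠ ⊤ := σ.normalizer_ne_top_of_odd hbot (Setting.odd_of_pGroup hr (P.2.map _))
  have hns : ¬ Group.IsSolvable X :=
    Frame.not_isSolvable (σ := σ) (g₁ := a₁) (g₂ := a₂) ⟨ha₁, ha₂, h.ord, h.pow⟩ hn ha₁N ha₂N hPS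
  have hF : Fused X t u₁ a₁ := ⟨hXtop, hPS h.t_mem_closure, hP₁, ha₁N, ha₁⟩
  obtain ⟨g'', hg''N, hg''⟩ := C.normalCover X (X ⊓ centralizer (PG : Set G)) t u₁ a₁ hF hns
    inf_le_left (fun y hy => mem_normalizer_centralizer hy)
    ⟨hF.mem_t, mem_centralizer_iff.2 fun y hy => ((σ.mem_U h.ht).1 (map_subtype_le _ hy)).1.eq⟩
  exact ⟨g'', hg'', fun y hy => (mem_centralizer_iff.1 hg''N.2 y hy).symm⟩

/-- A centralised Sylow subgroup is centralised by both rotations modulo `D`. -/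
theorem invOn_of_centralized (C : Components G) (hr : r ≠ 2) (hn : 2 ≤ σ.n)
    (hPS : closure ({u₁, u₂} : Set G) ≤ normalizer ((P : Subgroup (U t)).map (U t).subtype : Set G))
    (hin₁ : ∀ x ∈ (P : Subgroup (U t)).map (U t).subtype, Commute x u₁)
    (hin₂ : ∀ x ∈ (P : Subgroup (U t)).map (U t).subtype, Commute x u₂)
    (l : U t →* ℂˣ) (hl : ∀ x, l x ^ r = 1) : InvOn t u₁ g₁ l := by
  obtain ⟨g'', hg'', hc⟩ := h.exists_rot_centralized C hr hn hPS hin₁ hin₂
  exact h.invOn_of_centralizing (hPS (subset_closure (by simp))) l hl hg'' fun y hy _ => hc y hy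

end Frame

end CfsgLib.GW.Dne
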