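import Cfsg.Agent.Lib.GW.Counting
import Cfsg.Agent.Lib.GW.Dne.Basic

/-!
# No proper subgroup contains `C(t)` and fuses both classes of four-groups
-/

set_option autoImplicit false

namespace CfsgLib.GW.Dne

open Subgroup Cfsg DihedralGroup CfsgLib.GW
open CfsgLib.TwoGroups CfsgLib.TwoGroups.Dihedral
open CfsgLib.Signalizer (involution_sq involution_inv involution_ne_one orderOf_eq_two_of orderOf_conj)

universe u

variable {G : Type u} [Group G] [Finite G]

namespace Hyp

variable (σ : Hyp G)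

include σ in
/-- The setting rebased at another Sylow subgroup. -/
theorem exists_model_at (S : Sylow 2 G) :
    ∃ f : DihedralGroup (2 ^ σ.n) →* G, Function.Injective f ∧ f.range = (S : Subgroup G) := by
  have : Fact (Nat.Prime 2) := ⟨Nat.prime_two⟩
  obtain ⟨c, hc⟩ := MulAction.exists_smul_eq G σ.S S
  refine ⟨(MulAut.conj c).toMonoidHom.comp σ.f, (MulAut.conj c).injective.comp σ.inj, ?_⟩
  rw [MonoidHom.range_comp, σ.range, ← hc]
  rfl

end Hyp

/-- A proper subgroup with one class of involutions and all their centralisers has index at most five. -/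
theorem index_le_five (σ : Hyp G) (M : Subgroup G) (S : Sylow 2 G)
    (hSM : (S : Subgroup G) ≤ M)
    (hone : ∀ a b : G, orderOf a = 2 → orderOf b = 2 → a ∈ M → b ∈ M → ∃ m ∈ M, m * a * m⁻¹ = b)
    (hcen : ∀ a : G, orderOf a = 2 → a ∈ M → centralizer ({a} : Set G) ≤ M) : M.index ≤ 5 := by
  classical
  haveI := σ.simple
  have : Fact (Nat.Prime 2) := ⟨Nat.prime_two⟩
  obtain ⟨Mi, hMi⟩ := CfsgLib.ZStar.exists_isPModular Nat.prime_two
  obtain ⟨f, hf, hS⟩ := σ.exists_model_at S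
  have hfM : ∀ a, f a ∈ M := fun a => hSM (hS ▸ ⟨a, rfl⟩)
  set fM : DihedralGroup (2 ^ σ.n) →* M := f.codRestrict M hfM with hfMdef
  have hfMi : Function.Injective fM := fun a b e => hf (congrArg Subtype.val e)
  have hfMS : fM.range = ((S.subtype hSM : Sylow 2 M) : Subgroup M) := by
    ext x
    rw [Sylow.coe_subtype, mem_subgroupOf, ← hS]
    constructor
    · rintro ⟨a, rfl⟩; exact ⟨a, rfl⟩
    · rintro ⟨a, ha⟩; exact ⟨a, Subtype.ext ha⟩
  have honeM : ∀ a b : M, orderOf a = 2 → orderOf b = 2 → IsConj a b := by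
    intro a b ha hb
    rw [← Subgroup.orderOf_coe] at ha hb
    obtain ⟨m, hm, e⟩ := hone _ _ ha hb a.2 b.2
    exact isConj_iff.2 ⟨⟨m, hm⟩, Subtype.ext e⟩
  set z := f (r (half σ.n)) with hz
  have hzo : orderOf z = 2 := orderOf_half hf σ.pos
  have hzC : centralizer ({z} : Set G) ≤ M := hcen z hzo (hfM _)
  have hcz : ∀ s : Set M, fM (r (half σ.n)) ∈ s →
      Nat.card (centralizer s) = Nat.card (centralizer ((fun x : M => (x : G)) '' s)) := fun s hs =>
    card_centralizer_subgroup s (le_trans (centralizer_le (s := ({z} : Set G))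
      (Set.singleton_subset_iff.2 (show z ∈ (fun x : M => (x : G)) '' s from ⟨fM (r (half σ.n)), hs, rfl⟩))) hzC)
  have hidx : (Nat.card G : ℚ) = (M.index : ℚ) * (Nat.card M : ℚ) := by
    rw [← Nat.cast_mul, M.index_mul_card]
  have hMpos : (0 : ℚ) < Nat.card M := Nat.cast_pos.2 Nat.card_pos
  suffices h : (M.index : ℚ) * (Nat.card M : ℚ) ≤ 5 * (Nat.card M : ℚ) by
    exact_mod_cast le_of_mul_le_mul_right h hMpos
  rcases Nat.lt_or_ge σ.n 2 with hn | hn
  · have hn1 : σ.n = 1 := by have := σ.pos; omega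
    obtain ⟨α, hα, -, hαle⟩ := klein_bounds hf hS hn1 σ.one_class Mi hMi
    obtain ⟨β, hβ, hβge, -⟩ := klein_bounds hfMi hfMS hn1 honeM Mi hMi
    rw [hcz {fM (r (half σ.n))} (Set.mem_singleton _), hcz _ (by rw [SetLike.mem_coe, Sylow.coe_subtype, mem_subgroupOf]; exact hS ▸ ⟨_, rfl⟩),
      Set.image_singleton] at hβ
    rw [show ((fun x : M => (x : G)) '' (((S.subtype hSM : Sylow 2 M) : Subgroup M) : Set M)) =
      ((S : Subgroup G) : Set G) by
      ext x
      rw [Sylow.coe_subtype]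
      exact ⟨fun ⟨y, hy, e⟩ => e ▸ hy, fun hx => ⟨⟨x, hSM hx⟩, hx, rfl⟩⟩] at hβ
    set c : ℚ := (Nat.card (centralizer ({z} : Set G)) : ℚ) ^ 3 /
      (Nat.card (centralizer ((S : Subgroup G) : Set G)) : ℚ) ^ 2 with hc
    have e1 : (M.index : ℚ) * (Nat.card M : ℚ) = 8 * α * c := by rw [← hidx, hα, hc]; ring
    have e2 : (Nat.card M : ℚ) = 8 * β * c := by
      rw [hβ, hc, hz, hfMdef]
      simp only [MonoidHom.codRestrict_apply]
      ring
    have hc0 : 0 ≤ c := by rw [hc]; positivity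
    rw [e1, e2]
    have := hαle inferInstance
    nlinarith
  · obtain ⟨α, hα, -, hαle⟩ := dihedral_bounds hf hS hn σ.one_class Mi hMi
    obtain ⟨β, hβ, hβge, -⟩ := dihedral_bounds hfMi hfMS hn honeM Mi hMi
    rw [hcz {fM (r (half σ.n))} (Set.mem_singleton _), hcz {fM (r (half σ.n)), fM (sr 0)} (by simp),
      hcz {fM (r (half σ.n)), fM (r 1) * fM (sr 0)} (by simp), Set.image_pair, Set.image_pair,
      Set.image_singleton] at hβ
    set c : ℚ := (Nat.card (centralizer ({z} : Set G)) : ℚ) ^ 3 *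
        (1 / (Nat.card (centralizer ({z, f (sr 0)} : Set G)) : ℚ) +
          1 / (Nat.card (centralizer ({z, f (r 1) * f (sr 0)} : Set G)) : ℚ)) ^ 2 with hc
    have e1 : (M.index : ℚ) * (Nat.card M : ℚ) = 2 * α * c := by rw [← hidx, hα, hc]; ring
    have e2 : (Nat.card M : ℚ) = 2 * β * c := by
      rw [hβ, hc, hz, hfMdef, Subgroup.coe_mul]
      simp only [MonoidHom.codRestrict_apply]
      ring
    have hc0 : 0 ≤ c := by rw [hc]; positivity
    rw [e1, e2]
    have := hαle inferInstance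
    nlinarith

namespace Frame

variable {σ : Hyp G} {t u₁ u₂ g₁ g₂ : G} (h : Frame σ t u₁ u₂ g₁ g₂)

include h

/-- The involutions of the Sylow subgroup of the frame, up to conjugation in it. -/
theorem involution_cases {x : G} (hx : x ∈ closure ({u₁, u₂} : Set G)) (hxo : orderOf x = 2) :
    x = t ∨ ∃ c ∈ closure ({u₁, u₂} : Set G), c * x * c⁻¹ = u₁ ∨ c * x * c⁻¹ = u₂ := by
  obtain ⟨k, rfl | rfl⟩ := (CfsgLib.Signalizer.mem_closure_pair_iff h.hu₁ h.hu₂).1 hx
  · left
    have h2 : ((2 : ℤ) ^ σ.n) ∣ k * 2 := by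
      have h4 : ((u₁ * u₂) ^ k) ^ (2 : ℤ) = 1 := by rw [zpow_two]; exact involution_sq hxo
      rw [← zpow_mul] at h4
      have := orderOf_dvd_iff_zpow_eq_one.2 h4
      rwa [h.ord, Nat.cast_pow] at this
    obtain ⟨c, hc⟩ := h2
    have h3 : (2 : ℤ) ^ σ.n = 2 ^ (σ.n - 1) * 2 := by
      rw [← pow_succ]; congr 1; have := σ.pos; omega
    have hk : k = ((2 ^ (σ.n - 1) : ℕ) : ℤ) * c := by
      push_cast
      exact mul_right_cancel₀ (two_ne_zero (α := ℤ)) (by rw [hc, h3]; ring)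
    rw [hk, zpow_mul, zpow_natCast, h.pow]
    rcases Int.even_or_odd c with ⟨m, hm⟩ | ⟨m, hm⟩
    · exfalso
      refine involution_ne_one hxo ?_
      rw [hk, zpow_mul, zpow_natCast, h.pow, hm, ← two_mul, zpow_mul,
        show t ^ (2 : ℤ) = 1 by rw [zpow_two]; exact involution_sq h.ht, one_zpow]
    · rw [hm, zpow_add, zpow_mul, show t ^ (2 : ℤ) = 1 by rw [zpow_two]; exact involution_sq h.ht,
        one_zpow, one_mul, zpow_one]
  · right
    have hP : u₁ * u₂ ∈ closure ({u₁, u₂} : Set G) :=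
      mul_mem (subset_closure (by simp)) (subset_closure (by simp))
    have hswap : ∀ m : ℤ, (u₁ * u₂) ^ m * u₁ = u₁ * (u₁ * u₂) ^ (-m) := fun m => by
      rw [CfsgLib.Signalizer.mul_pair_zpow h.hu₁ h.hu₂, neg_neg]
    rcases Int.even_or_odd k with ⟨m, hm⟩ | ⟨m, hm⟩
    · refine ⟨(u₁ * u₂) ^ (-m), zpow_mem hP _, Or.inl ?_⟩
      rw [hm, hswap (m + m), ← zpow_neg, neg_neg, ← mul_assoc, hswap (-m), neg_neg, mul_assoc,
        mul_assoc, ← zpow_add, ← zpow_add]
      simp
    · refine ⟨u₁ * (u₁ * u₂) ^ (-m), mul_mem (subset_closure (by simp)) (zpow_mem hP _), Or.inr ?_⟩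
      calc u₁ * (u₁ * u₂) ^ (-m) * ((u₁ * u₂) ^ k * u₁) * (u₁ * (u₁ * u₂) ^ (-m))⁻¹
          = u₁ * (u₁ * u₂) ^ (-m + k) * (u₁ * (u₁ * u₂) ^ m) * u₁⁻¹ := by group
        _ = u₁ * (u₁ * u₂) ^ (-m + k) * ((u₁ * u₂) ^ (-m) * u₁) * u₁⁻¹ := by
          rw [hswap (-m), neg_neg]
        _ = u₁ * (u₁ * u₂) ^ (-m + k + -m) := by group
        _ = u₂ := by
          rw [show -m + k + -m = 1 by omega, zpow_one, ← mul_assoc, involution_sq h.hu₁, one_mul]

/-- A subgroup containing the Sylow subgroup and both rotations has one class of involutions. -/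
theorem conj_t_of_sylow_mem {M : Subgroup G} (hC : closure ({u₁, u₂} : Set G) ≤ M) (hg₁ : g₁ ∈ M)
    (hg₂ : g₂ ∈ M) {x : G} (hxM : x ∈ M) (hx : orderOf x = 2) : ∃ m ∈ M, m * t * m⁻¹ = x := by
  have : Fact (Nat.Prime 2) := ⟨Nat.prime_two⟩
  obtain ⟨P, hP⟩ := h.exists_sylow
  have hPM : (P : Subgroup G) ≤ M := hP ▸ hC
  have hz : IsPGroup 2 (zpowers (⟨x, hxM⟩ : M)) :=
    IsPGroup.of_card (n := 1) (by rw [Nat.card_zpowers, pow_one, Subgroup.orderOf_mk]; exact hx)
  obtain ⟨k, hk⟩ := CfsgLib.TwoGroups.exists_conj_le_sylow (P.subtype hPM) hz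
  have h1 := hk (CfsgLib.TwoGroups.conj_mem_map_conj (mem_zpowers (⟨x, hxM⟩ : M)))
  rw [Sylow.coe_subtype, mem_subgroupOf, hP] at h1
  have h1o : orderOf ((k : G) * x * (k : G)⁻¹) = 2 := by rw [orderOf_conj]; exact hx
  have hfin : ∀ y : G, (∃ m ∈ M, m * t * m⁻¹ = y) → ∀ c ∈ M, c * ((k : G) * x * (k : G)⁻¹) * c⁻¹ = y →
      ∃ m ∈ M, m * t * m⁻¹ = x := by
    rintro y ⟨m, hm, rfl⟩ c hc e
    exact ⟨(k : G)⁻¹ * c⁻¹ * m, mul_mem (mul_mem (inv_mem k.2) (inv_mem hc)) hm, by
      calc (k : G)⁻¹ * c⁻¹ * m * t * ((k : G)⁻¹ * c⁻¹ * m)⁻¹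
          = (k : G)⁻¹ * c⁻¹ * (m * t * m⁻¹) * c * k := by group
        _ = x := by rw [← e]; group⟩
  rcases h.involution_cases h1 h1o with e | ⟨c, hc, e | e⟩
  · exact hfin t ⟨1, one_mem M, by group⟩ 1 (one_mem M) (by rw [inv_one, one_mul, mul_one]; exact e)
  · exact hfin u₁ ⟨g₁, hg₁, h.rot₁.conj1⟩ c (hC hc) e
  · exact hfin u₂ ⟨g₂, hg₂, h.rot₂.conj1⟩ c (hC hc) e

/-- A subgroup containing `C(t)` and both rotations has one class of involutions. -/
theorem conj_t_of_mem {M : Subgroup G} (hC : centralizer ({t} : Set G) ≤ M) (hg₁ : g₁ ∈ M)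
    (hg₂ : g₂ ∈ M) {x : G} (hxM : x ∈ M) (hx : orderOf x = 2) : ∃ m ∈ M, m * t * m⁻¹ = x :=
  h.conj_t_of_sylow_mem (h.closure_le_centralizer.trans hC) hg₁ hg₂ hxM hx

omit h in
/-- A simple group is not the symmetric group of degree five. -/
theorem card_ne (σ : Hyp G) {M : Subgroup G} (hMtop : M ≠ ⊤) (h5 : M.index = 5)
    (h120 : Nat.card G = 120) : False := by
  classical
  haveI := Fintype.ofFinite (G ⧸ M)
  have hinj : Function.Injective (MulAction.toPermHom G (G ⧸ M)) := by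
    rw [← MonoidHom.ker_eq_bot_iff, ← Subgroup.normalCore_eq_ker]
    exact (σ.eq_bot_or_eq_top _ M.normalCore_normal).resolve_right fun e =>
      hMtop (eq_top_iff.2 (e ▸ M.normalCore_le))
  have hbij : Function.Bijective (MulAction.toPermHom G (G ⧸ M)) := by
    refine (Nat.bijective_iff_injective_and_card _).2 ⟨hinj, ?_⟩
    rw [Nat.card_perm, ← Subgroup.index_eq_card, h5, h120]
    rfl
  haveI : Nontrivial (G ⧸ M) := Finite.one_lt_card_iff_nontrivial.1
    (by rw [← Subgroup.index_eq_card, h5]; norm_num)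
  have hsurj : Function.Surjective (Equiv.Perm.sign.comp (MulAction.toPermHom G (G ⧸ M))) :=
    (Equiv.Perm.sign_surjective (G ⧸ M)).comp hbij.2
  set K := (Equiv.Perm.sign.comp (MulAction.toPermHom G (G ⧸ M))).ker with hK
  have hK2 : K.index = 2 := by
    rw [hK, Subgroup.index_ker, MonoidHom.range_eq_top.2 hsurj, card_top, Nat.card_eq_fintype_card,
      Fintype.card_units_int]
  rcases σ.eq_bot_or_eq_top K inferInstance with e | e
  · rw [e, index_bot] at hK2; omega
  · rw [e, index_top] at hK2; omega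

/-- With a fixed point of odd order on a four-group there is no such subgroup. -/
theorem not_both_fused (hD : D t u₁ ≠ ⊥) {M : Subgroup G} (hMtop : M ≠ ⊤)
    (hC : centralizer ({t} : Set G) ≤ M) (hg₁ : g₁ ∈ M) (hg₂ : g₂ ∈ M) : False := by
  classical
  obtain ⟨P, hP⟩ := h.exists_sylow
  have hPM : (P : Subgroup G) ≤ M := hP ▸ h.closure_le_centralizer.trans hC
  have hle := index_le_five σ M P hPM
    (fun a b ha hb haM hbM => by
      obtain ⟨m₁, hm₁, e₁⟩ := h.conj_t_of_mem hC hg₁ hg₂ haM ha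
      obtain ⟨m₂, hm₂, e₂⟩ := h.conj_t_of_mem hC hg₁ hg₂ hbM hb
      exact ⟨m₂ * m₁⁻¹, mul_mem hm₂ (inv_mem hm₁), by rw [← e₁, ← e₂]; group⟩)
    (fun a ha haM => by
      obtain ⟨m, hm, rfl⟩ := h.conj_t_of_mem hC hg₁ hg₂ haM ha
      intro y hy
      have h3 : Commute (m⁻¹ * y * m) t := by
        have := (commute_of_mem_centralizer hy).map (MulAut.conj m⁻¹).toMonoidHom
        simpa [mul_assoc] using this
      have h4 := mul_mem (mul_mem hm (hC (mem_centralizer_of_commute h3))) (inv_mem hm)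
      simpa [mul_assoc] using h4)
  -- `M` is large
  have hdvd : Nat.card G ∣ M.index.factorial :=
    haveI := σ.simple
    CfsgLib.Perm.AltDerange.card_dvd_factorial_index hMtop
  obtain ⟨x, hx, hx1⟩ := (bot_or_exists_ne_one (D t u₁)).resolve_left hD
  obtain ⟨hxt, hxu, hxo⟩ := (σ.mem_D h.ht).1 hx
  have h12 : 12 ≤ Nat.card (centralizer ({t} : Set G)) := by
    have h4 : 4 ∣ Nat.card (centralizer ({t} : Set G)) := by
      refine dvd_trans ?_ (card_dvd_of_le (h.closure_le_centralizer))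
      rw [h.card_closure, show (4 : ℕ) = 2 ^ 2 by norm_num]
      exact pow_dvd_pow 2 (by have := σ.pos; omega)
    have hxd : orderOf x ∣ Nat.card (centralizer ({t} : Set G)) :=
      orderOf_dvd_natCard _ (mem_centralizer_of_commute hxt)
    have h3 : 3 ≤ orderOf x := by
      obtain ⟨j, hj⟩ := hxo
      rcases Nat.eq_zero_or_pos j with rfl | hj'
      · exact absurd (orderOf_eq_one_iff.1 hj) hx1
      · omega
    have hd := (Nat.Coprime.mul_dvd_of_dvd_of_dvd
      (show Nat.Coprime 4 (orderOf x) from (Nat.coprime_two_left.2 hxo).pow_left 2) h4 hxd)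
    have := Nat.le_of_dvd Nat.card_pos hd
    omega
  have h24 : 24 ≤ Nat.card M := by
    have hd := card_dvd_of_le hC
    have hne : Nat.card (centralizer ({t} : Set G)) ≠ Nat.card M := by
      intro e
      have h2 : centralizer ({t} : Set G) = M := eq_of_le_of_card_ge hC e.ge
      have h3 : Commute g₁ t := commute_of_mem_centralizer (h2 ▸ hg₁)
      exact h.rot₁.ne (by rw [← h.rot₁.conj1, h3.eq, mul_inv_cancel_right])
    obtain ⟨j, hj⟩ := hd
    rcases j with _ | _ | j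
    · rw [mul_zero] at hj; exact absurd hj Nat.card_pos.ne'
    · rw [zero_add, mul_one] at hj; exact absurd hj.symm hne
    · rw [hj]; nlinarith
  have hi2 : M.index ≠ 2 := fun e => by
    rcases σ.eq_bot_or_eq_top M (normal_of_index_eq_two e) with e' | e'
    · rw [e', card_bot] at h24; omega
    · exact hMtop e'
  have hi1 : M.index ≠ 1 := fun e => hMtop (index_eq_one.1 e)
  have hG : Nat.card G = M.index * Nat.card M := M.index_mul_card.symm
  have hGle := Nat.le_of_dvd (Nat.factorial_pos _) hdvd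
  have hGeq : M.index = 5 ∧ Nat.card G = 120 := by
    have h0 : M.index ≠ 0 := index_ne_zero_of_finite
    set i := M.index with hi
    interval_cases i <;> simp [Nat.factorial] at hGle <;> omega
  exact card_ne σ hMtop hGeq.1 hGeq.2

end Frame

end CfsgLib.GW.Dne
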