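import Cfsg.Agent.Lib.GW.Dne.Seven
import Cfsg.Agent.Lib.GW.Dne.FixedLinear

/-!
# Inverted elements of an `r`-subgroup of `O(C(t))` in a fused subgroup

Under (B) the fixed points lie in the core and the inverted elements form a cyclic group.
-/

set_option autoImplicit false

namespace CfsgLib.GW.Dne

open Subgroup CfsgLib.GW
open CfsgLib.Signalizer (involution_sq involution_inv involution_ne_one orderOf_eq_two_of orderOf_conj)

universe u

variable {G : Type u} [Group G]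

theorem rCore_le (r : ℕ) (t : G) : rCore r t ≤ U t := map_subtype_le _

theorem isPGroup_rCore (r : ℕ) (t : G) : IsPGroup r (rCore r t) :=
  (CfsgLib.Core.isPGroup_pCore r _).map _

theorem centralizer_le_normalizer_rCore [Finite G] (r : ℕ) (t : G) :
    centralizer ({t} : Set G) ≤ normalizer (rCore r t : Set G) := by
  intro c hc
  have hU := Setting.le_normalizer_U t hc
  refine mem_normalizer_of_conj fun x hx => ?_
  obtain ⟨q, hq, rfl⟩ := hx
  let φ : MulAut (U t) := normalizerMonoidHom (U t) ⟨c, hU⟩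
  have h1 : φ q ∈ Cfsg.pCore r (U t) := by
    rw [← CfsgLib.Core.map_equiv_pCore φ]
    exact mem_map_of_mem _ hq
  exact ⟨φ q, h1, rfl⟩

theorem commute_of_sq [Finite G] {h v : G} (ho : Odd (orderOf h)) (h2 : Commute (h ^ 2) v) :
    Commute h v := by
  obtain ⟨j, hj⟩ := ho
  have h3 : h = (h ^ 2) ^ (j + 1) := by
    rw [← pow_mul, show 2 * (j + 1) = orderOf h + 1 by omega, pow_succ, pow_orderOf_eq_one, one_mul]
  rw [h3]
  exact h2.pow_left _

/-- An element of odd order does not invert a non-trivial element of odd order. -/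
theorem eq_one_of_conj_eq_inv [Finite G] {b z : G} (hb : Odd (orderOf b)) (hz : Odd (orderOf z))
    (h : b * z * b⁻¹ = z⁻¹) : z = 1 := by
  have h1 : Commute b z := by
    refine commute_of_sq hb (commute_of_conj_eq ?_)
    rw [pow_two, show b * b * z * (b * b)⁻¹ = b * (b * z * b⁻¹) * b⁻¹ by group, h,
      show b * z⁻¹ * b⁻¹ = (b * z * b⁻¹)⁻¹ by group, h, inv_inv]
  exact eq_one_of_inv_self hz (h.symm.trans (conj_eq_of_commute h1))

theorem conj_conj_involution {u x : G} (hu : orderOf u = 2) : u * (u * x * u⁻¹) * u⁻¹ = x := by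
  rw [show u * (u * x * u⁻¹) * u⁻¹ = u * u * x * (u * u)⁻¹ by group, involution_sq hu]
  simp

theorem zpowers_normalized_of_inverted {u v : G} (h : u * v * u⁻¹ = v⁻¹) :
    u ∈ normalizer (zpowers v : Set G) := by
  refine mem_normalizer_iff.2 fun x => ⟨?_, fun hx => ?_⟩
  · rintro ⟨k, rfl⟩
    refine ⟨-k, ?_⟩
    show v ^ (-k) = u * v ^ k * u⁻¹
    rw [← conj_zpow, h, inv_zpow, zpow_neg]
  · obtain ⟨k, hk⟩ := hx
    refine ⟨-k, ?_⟩
    show v ^ (-k) = x
    have h1 : u * v ^ (-k) * u⁻¹ = v ^ k := by rw [← conj_zpow, h, inv_zpow, zpow_neg, inv_inv]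
    exact mul_left_cancel (mul_right_cancel (h1.trans hk))

theorem inverted_zpow {u v : G} (h : u * v * u⁻¹ = v⁻¹) (k : ℤ) :
    u * v ^ k * u⁻¹ = (v ^ k)⁻¹ := by
  rw [← conj_zpow, h, inv_zpow]

variable [Finite G]

theorem Fused.next {X : Subgroup G} {t u g : G} (hF : Fused X t u g) : Fused X u (t * u) g :=
  ⟨hF.ne_top, hF.mem_u, mul_mem hF.mem_t hF.mem_u, hF.mem_g, hF.rot.next⟩

section

variable {X P : Subgroup G} {t u g : G} {r : ℕ} (hF : Fused X t u g)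
include hF

/-- An invariant `r`-subgroup of the core is fixed. -/
theorem Fused.commute_of_core (hB : CFixed G r) (hP : IsPGroup r P) (hPc : P ≤ core X)
    (huP : u ∈ normalizer (P : Set G)) {p : G} (hp : p ∈ P) : Commute p u :=
  hB X P u (t * u) g hF.next hP hPc huP p hp

theorem Fused.eq_one_of_inverted_core (hB : CFixed G r) (hr : r.Prime) (hr2 : r ≠ 2) {x : G}
    (hx : x ∈ core X) (hxr : IsRElt r x) (hxu : u * x * u⁻¹ = x⁻¹) : x = 1 := by
  have hP : IsPGroup r (zpowers x) := by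
    rintro ⟨_, k, rfl⟩
    obtain ⟨e, he⟩ := hxr
    refine ⟨e, Subtype.ext ?_⟩
    show (x ^ k) ^ r ^ e = 1
    rw [← zpow_natCast, ← zpow_mul, mul_comm, zpow_mul, zpow_natCast, he, one_zpow]
  exact eq_one_of_fixed_inverted (odd_orderOf_of_isRElt hr hr2 hxr)
    (hF.commute_of_core hB hP (zpowers_le.2 hx) (zpowers_normalized_of_inverted hxu) (mem_zpowers x))
    hxu

theorem Fused.not_solvable_of_inverted (hC : SolvableLocal G) (hB : CFixed G r) (hr : r.Prime)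
    (hr2 : r ≠ 2) {v : G} (hvU : v ∈ U t) (hvX : v ∈ X) (hv1 : v ≠ 1) (hvr : IsRElt r v)
    (hvu : u * v * u⁻¹ = v⁻¹) : ¬ Group.IsSolvable X := fun hs =>
  hv1 (hF.eq_one_of_inverted_core hB hr hr2 (hC X t u g v hF hs hvU hvX) hvr hvu)

variable [Fact r.Prime] (hB : CFixed G r) (hr2 : r ≠ 2) (hP : IsPGroup r P) (hPU : P ≤ U t)
  (hPX : P ≤ X) (huP : u ∈ normalizer (P : Set G))

include hB hr2 hP hPU hPX huP

/-- Two inverted elements of an invariant `r`-subgroup congruent modulo the core are equal. -/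
theorem Fused.eq_of_congr {x y : G} (hx : x ∈ P) (hy : y ∈ P) (hxu : u * x * u⁻¹ = x⁻¹)
    (hyu : u * y * u⁻¹ = y⁻¹) (h : y⁻¹ * x ∈ core X) : x = y := by
  have hP0 : IsPGroup r (P ⊓ core X : Subgroup G) := hP.to_le inf_le_left
  have hu0 : u ∈ normalizer ((P ⊓ core X : Subgroup G) : Set G) := mem_normalizer_of_conj fun z hz =>
    ⟨(mem_normalizer_iff.1 huP z).1 hz.1,
      (mem_normalizer_iff.1 (le_normalizer_core X hF.mem_u) z).1 hz.2⟩
  set o : G := y⁻¹ * x with ho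
  have hoP : o ∈ P ⊓ core X := ⟨P.mul_mem (P.inv_mem hy) hx, h⟩
  have hou : Commute o u := hF.commute_of_core hB hP0 inf_le_right hu0 hoP
  have h1 : u * o * u⁻¹ = y * x⁻¹ := by
    rw [ho, show u * (y⁻¹ * x) * u⁻¹ = (u * y * u⁻¹)⁻¹ * (u * x * u⁻¹) by group, hxu, hyu, inv_inv]
  rw [conj_eq_of_commute hou.symm] at h1
  have h2 : y * o * y⁻¹ = o⁻¹ := by
    have h3 : o⁻¹ = x * y⁻¹ := by rw [h1]; group
    rw [h3, ho]; group
  have h3 : o = 1 := eq_one_of_conj_eq_inv (odd_orderOf_of_isRElt Fact.out hr2 (isRElt_of_mem hP hy))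
    (odd_orderOf_of_isRElt Fact.out hr2 (isRElt_of_mem hP hoP.1)) h2
  rwa [ho, inv_mul_eq_one, eq_comm] at h3

/-- The inverted elements of an invariant `r`-subgroup are the powers of one of them. -/
theorem Fused.exists_inverted_generator (hT : TorusCyclic G) :
    ∃ v ∈ P, u * v * u⁻¹ = v⁻¹ ∧ ∀ x ∈ P, u * x * u⁻¹ = x⁻¹ → x ∈ zpowers v := by
  classical
  obtain ⟨w, hw, hwu, hgen⟩ := hT X t u g hF
  set O := Cfsg.oddCore X
  set π : X →* X ⧸ O := QuotientGroup.mk' O with hπ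
  set wb : X ⧸ O := π ⟨w, hw.2⟩ with hwb
  set S : Set G := {x | x ∈ P ∧ u * x * u⁻¹ = x⁻¹} with hS
  have himg : ∀ x (hx : x ∈ P), u * x * u⁻¹ = x⁻¹ → π ⟨x, hPX hx⟩ ∈ zpowers wb := by
    intro x hx hxu
    obtain ⟨k, hk⟩ := hgen x ⟨hPU hx, hPX hx⟩ hxu
    refine ⟨k, ?_⟩
    obtain ⟨hk', hmem⟩ := mem_core_iff.1 hk
    show wb ^ k = π ⟨x, hPX hx⟩
    have h1 : π (⟨x, hPX hx⟩ * ((⟨w, hw.2⟩ : X) ^ k)⁻¹) = 1 :=
      (QuotientGroup.eq_one_iff _).2 (by convert hmem using 1; exact Subtype.ext (by simp))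
    rw [map_mul, map_inv, map_zpow, mul_inv_eq_one] at h1
    exact h1.symm
  obtain ⟨v, ⟨hvP, hvu⟩, hmax⟩ := Set.exists_max_image S
    (fun x => if hx : x ∈ P then orderOf (π ⟨x, hPX hx⟩) else 0) (Set.toFinite _)
    ⟨1, one_mem P, by simp⟩
  refine ⟨v, hvP, hvu, fun x hx hxu => ?_⟩
  have h1 := hmax x ⟨hx, hxu⟩
  simp only [dif_pos hx, dif_pos hvP] at h1
  obtain ⟨i, hi⟩ := (IsPGroup.iff_orderOf.1 hP) ⟨v, hvP⟩
  obtain ⟨j, hj⟩ := (IsPGroup.iff_orderOf.1 hP) ⟨x, hx⟩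
  rw [Subgroup.orderOf_mk] at hi hj
  have hva : orderOf (π ⟨v, hPX hvP⟩) ∣ r ^ i :=
    hi ▸ (orderOf_map_dvd π _).trans (by rw [Subgroup.orderOf_mk])
  have hxa : orderOf (π ⟨x, hPX hx⟩) ∣ r ^ j :=
    hj ▸ (orderOf_map_dvd π _).trans (by rw [Subgroup.orderOf_mk])
  obtain ⟨i', -, hi'⟩ := (Nat.dvd_prime_pow Fact.out).1 hva
  obtain ⟨j', -, hj'⟩ := (Nat.dvd_prime_pow Fact.out).1 hxa
  rw [hi', hj'] at h1
  have hdvd : orderOf (π ⟨x, hPX hx⟩) ∣ orderOf (π ⟨v, hPX hvP⟩) := by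
    rw [hi', hj']
    exact pow_dvd_pow r ((Nat.pow_le_pow_iff_right (Fact.out : r.Prime).one_lt).1 h1)
  -- both lie in a cyclic group, where the order decides
  set vv : zpowers wb := ⟨_, himg v hvP hvu⟩
  set xx : zpowers wb := ⟨_, himg x hx hxu⟩
  have hle : zpowers (xx ^ (1 : ℕ)) ≤ zpowers vv := by
    rw [pow_one]
    have hvo : orderOf vv = orderOf (π ⟨v, hPX hvP⟩) := Subgroup.orderOf_mk _ _
    have hxo : orderOf xx = orderOf (π ⟨x, hPX hx⟩) := Subgroup.orderOf_mk _ _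
    obtain ⟨c, hc⟩ := hdvd
    have hc0 : c ≠ 0 := fun e => by
      rw [e, mul_zero] at hc; exact (orderOf_pos (π ⟨v, hPX hvP⟩)).ne' hc
    have h2 : orderOf (vv ^ c) = orderOf xx := by
      rw [orderOf_pow_of_dvd hc0 (hvo.symm ▸ Dvd.intro_left _ hc.symm), hvo, hxo, hc,
        Nat.mul_div_cancel _ (Nat.pos_of_ne_zero hc0)]
    have h3 : zpowers (vv ^ c) = zpowers xx :=
      eq_of_card_eq_of_cyclic _ _ (by rw [Nat.card_zpowers, Nat.card_zpowers, h2])
    exact h3 ▸ zpowers_le.2 (pow_mem (mem_zpowers _) _)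
  obtain ⟨k, hk⟩ := hle (mem_zpowers _)
  simp only [pow_one] at hk
  have hk' : π ⟨v, hPX hvP⟩ ^ k = π ⟨x, hPX hx⟩ := congrArg Subtype.val hk
  refine ⟨k, (hF.eq_of_congr hB hr2 hP hPU hPX huP hx (zpow_mem hvP k) hxu (inverted_zpow hvu k) ?_).symm⟩
  refine mem_core_iff.2 ⟨mul_mem (inv_mem (zpow_mem (hPX hvP) k)) (hPX hx),
    (QuotientGroup.eq_one_iff (((⟨v, hPX hvP⟩ : X) ^ k)⁻¹ * ⟨x, hPX hx⟩)).1 ?_⟩
  show π (((⟨v, hPX hvP⟩ : X) ^ k)⁻¹ * ⟨x, hPX hx⟩) = 1
  rw [map_mul, map_inv, map_zpow, hk', inv_mul_cancel]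

/-- Inverted elements of an invariant `r`-subgroup commute. -/
theorem Fused.commute_of_inverted (hT : TorusCyclic G) {x y : G} (hx : x ∈ P) (hy : y ∈ P)
    (hxu : u * x * u⁻¹ = x⁻¹) (hyu : u * y * u⁻¹ = y⁻¹) : Commute x y := by
  obtain ⟨v, -, -, hv⟩ := hF.exists_inverted_generator hB hr2 hP hPU hPX huP hT
  obtain ⟨a, rfl⟩ := hv x hx hxu
  obtain ⟨b, rfl⟩ := hv y hy hyu
  exact Commute.zpow_zpow (Commute.refl v) a b

/-- The fixed points of an invariant `r`-subgroup are its intersection with the core. -/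
theorem Fused.inf_core_eq (hT : FieldTrivial G) (hN : U t ⊓ X ≤ normalizer (P : Set G))
    {v : G} (hv : v ∈ P) (hv1 : v ≠ 1) (hvu : u * v * u⁻¹ = v⁻¹) :
    P ⊓ core X = P ⊓ centralizer ({u} : Set G) := by
  apply le_antisymm <;> intro z hz
  · refine ⟨hz.1, mem_centralizer_of_commute ?_⟩
    exact hF.commute_of_core hB (hP.to_le inf_le_left) inf_le_right
      (mem_normalizer_of_conj fun a ha => ⟨(mem_normalizer_iff.1 huP a).1 ha.1,
        (mem_normalizer_iff.1 (le_normalizer_core X hF.mem_u) a).1 ha.2⟩) hz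
  · refine ⟨hz.1, ?_⟩
    exact hT X P t u g r hF Fact.out hP hPU hPX hN huP (fun _ => ⟨v, ⟨hPU hv, hPX hv⟩, hvu,
      fun hc => hv1 (hF.eq_one_of_inverted_core hB Fact.out hr2 hc (isRElt_of_mem hP hv) hvu)⟩) hz

/-- The fixed points are normal. -/
theorem Fused.le_normalizer_fixed (hT : FieldTrivial G) (hN : U t ⊓ X ≤ normalizer (P : Set G))
    {v : G} (hv : v ∈ P) (hv1 : v ≠ 1) (hvu : u * v * u⁻¹ = v⁻¹) :
    P ≤ normalizer ((P ⊓ centralizer ({u} : Set G) : Subgroup G) : Set G) := by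
  rw [← hF.inf_core_eq hB hr2 hP hPU hPX huP hT hN hv hv1 hvu]
  intro z hz
  exact mem_normalizer_of_conj fun a ha => ⟨P.mul_mem (P.mul_mem hz ha.1) (P.inv_mem hz),
    (mem_normalizer_iff.1 (le_normalizer_core X (hPX hz)) a).1 ha.2⟩

end

/-- Outside `A₇` an involution moving `t`'s four-group cannot fix an inverted element. -/
theorem Fused.inverts_of_mem_zpowers {X : Subgroup G} {t u g : G} {r : ℕ} (hF : Fused X t u g)
    (hC : RotInverts G) (hS : SolvableLocal G) (h7 : ¬ Seven X) (hB : CFixed G r) (hr : r.Prime)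
    (hr2 : r ≠ 2) {v i : G} (hvU : v ∈ U t) (hvX : v ∈ X) (hv1 : v ≠ 1) (hvr : IsRElt r v)
    (hvu : u * v * u⁻¹ = v⁻¹) (hiX : i ∈ X) (hi : orderOf i = 2) (hit : Commute i t) (hne : i ≠ t)
    (hiv : i * v * i⁻¹ ∈ zpowers v) : i * v * i⁻¹ = v⁻¹ := by
  have hns := hF.not_solvable_of_inverted hS hB hr hr2 hvU hvX hv1 hvr hvu
  have hc := hC X t u g v i hF hns h7 hvU hvX hvu hiX hi hit hne
  obtain ⟨k, hk⟩ := hiv
  have hk' : v ^ k = i * v * i⁻¹ := hk
  rw [← hk', ← zpow_add_one] at hc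
  have hr' : IsRElt r (v ^ (k + 1)) := by
    obtain ⟨e, he⟩ := hvr
    exact ⟨e, by rw [← zpow_natCast, ← zpow_mul, mul_comm, zpow_mul, zpow_natCast, he, one_zpow]⟩
  have h1 := hF.eq_one_of_inverted_core hB hr hr2 hc hr' (inverted_zpow hvu _)
  rw [zpow_add_one, hk'] at h1
  exact eq_inv_of_mul_eq_one_left h1

/-- With quotient `A₇` the involutions of a subgroup centralise what `t` centralises. -/
theorem seven_centralizes {X Y : Subgroup G} (h7 : Seven X) (hY : Odd (Nat.card Y))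
    (hn : X ≤ normalizer (Y : Set G)) {t : G} (ht : orderOf t = 2) (htX : t ∈ X)
    (htY : ∀ y ∈ Y, Commute y t) {i : G} (hi : i ∈ X) (hio : orderOf i = 2) {y : G} (hy : y ∈ Y) :
    Commute i y := by
  have _ := hY
  obtain ⟨a, ha, o, ho, e⟩ := seven_cover h7 (N := X ⊓ centralizer (Y : Set G)) inf_le_left
    (fun x hx => mem_normalizer_of_conj fun c hc => ⟨X.mul_mem (X.mul_mem hx hc.1) (X.inv_mem hx),
      mem_centralizer_iff.2 fun z hz => by
        have hz' : x⁻¹ * z * x ∈ Y := (mem_normalizer_iff''.1 (hn hx) z).1 hz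
        calc z * (x * c * x⁻¹) = x * (x⁻¹ * z * x * c) * x⁻¹ := by group
          _ = x * c * x⁻¹ * z := by rw [mem_centralizer_iff.1 hc.2 _ hz']; group⟩)
    ht ⟨htX, mem_centralizer_iff.2 fun z hz => (htY z hz).eq⟩ hi
  have hact : ∀ z ∈ Y, i * z * i⁻¹ = o * z * o⁻¹ := fun z hz => by
    have hz' : o * z * o⁻¹ ∈ Y := (mem_normalizer_iff.1 (hn (core_le X ho)) z).1 hz
    rw [e]
    calc a * o * z * (a * o)⁻¹ = a * (o * z * o⁻¹) * a⁻¹ := by group
      _ = o * z * o⁻¹ := by rw [← mem_centralizer_iff.1 ha.2 _ hz', mul_inv_cancel_right]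
  have h2 : Commute (o ^ 2) y := by
    refine commute_of_conj_eq ?_
    have h3 := hact _ ((mem_normalizer_iff.1 (hn (core_le X ho)) y).1 hy)
    rw [← hact y hy, conj_conj_involution hio] at h3
    calc o ^ 2 * y * (o ^ 2)⁻¹ = o * (o * y * o⁻¹) * o⁻¹ := by rw [pow_two]; group
      _ = y := by rw [← hact y hy, ← h3]
  refine commute_of_conj_eq ?_
  rw [hact y hy, conj_eq_of_commute (commute_of_sq (odd_orderOf_of_mem (odd_core X) ho) h2)]

end CfsgLib.GW.Dne
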