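import Cfsg.Agent.Lib.GW.Dne.Linear.Inv
import Cfsg.Agent.Lib.GW.Dne.Basic
import Cfsg.Agent.Lib.Fusion.TwoRank.Examples.Homs

/-!
# Gorenstein–Walter, dihedral case: no fixed linear character invariant for both classes
-/

set_option autoImplicit false

namespace CfsgLib.GW.Dne

open Subgroup DihedralGroup CfsgLib.GW
open CfsgLib.TwoGroups CfsgLib.TwoGroups.Dihedral
open CfsgLib.Signalizer (involution_sq involution_inv involution_ne_one orderOf_conj)

universe u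

/-- Dihedral case, non-abelian core: no fixed linear character invariant for both classes. -/
def NoInvTwo (G : Type u) [Group G] : Prop :=
  ∀ (σ : Hyp G) (t u₁ u₂ g₁ g₂ : G) (l : U t →* ℂˣ), 2 ≤ σ.n → Frame σ t u₁ u₂ g₁ g₂ →
    (∃ a b : U t, a * b ≠ b * a) → Fixed t u₁ l → Fixed t u₂ l → InvOn t u₁ g₁ l → InvOn t u₂ g₂ l → l = 1

variable {G : Type u} [Group G] [Finite G]

/-- The dihedral coordinates of a frame. -/
theorem Frame.exists_hom {σ : Hyp G} {t u₁ u₂ g₁ g₂ : G} (h : Frame σ t u₁ u₂ g₁ g₂) (hn : 2 ≤ σ.n) :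
    ∃ F : DihedralGroup (2 ^ σ.n) →* G, Function.Injective F ∧ F (r (half σ.n)) = t ∧ F (sr 0) = u₁ ∧
      F (sr 1) = u₂ ∧ F.range = closure ({u₁, u₂} : Set G) := by
  haveI : NeZero (2 ^ σ.n) := ⟨pow_ne_zero _ two_ne_zero⟩
  set x := u₁ * u₂ with hx
  have hx0 : x ^ 2 ^ σ.n = 1 := by rw [← h.ord, pow_orderOf_eq_one]
  have hy := involution_sq h.hu₁
  have hc : u₁ * x * u₁⁻¹ = x⁻¹ := by
    rw [hx, mul_inv_rev, involution_inv h.hu₁, involution_inv h.hu₂, ← mul_assoc u₁ u₁, hy, one_mul]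
  obtain ⟨F, hr, hs⟩ := CfsgLib.Fusion.TwoRank.dihedral_hom (N := 2 ^ σ.n) hx0 hy hc
  have h2 : (2 : ZMod (2 ^ σ.n)) ≠ 0 := fun e => by
    have h4 : (2 : ℕ) ^ 2 ≤ 2 ^ σ.n := Nat.pow_le_pow_right two_pos hn
    have e' : ((2 : ℕ) : ZMod (2 ^ σ.n)) = 0 := by exact_mod_cast e
    have := Nat.le_of_dvd two_pos ((ZMod.natCast_eq_zero_iff 2 _).1 e')
    omega
  have hinj : Function.Injective F :=
    CfsgLib.Fusion.TwoRank.dihedral_injective h2 h.ord F hr
  have e0 : F (sr 0) = u₁ := by rw [hs, CfsgLib.TwoGroups.zexp_zero, mul_one]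
  have e1 : F (sr 1) = u₂ := by
    rw [hs, show (1 : ZMod (2 ^ σ.n)) = ((1 : ℕ) : ZMod (2 ^ σ.n)) from Nat.cast_one.symm,
      CfsgLib.TwoGroups.zexp_natCast hx0, pow_one, hx, ← mul_assoc, hy, one_mul]
  have et : F (r (half σ.n)) = t := by
    rw [hr, half, CfsgLib.TwoGroups.zexp_natCast hx0, h.pow]
  refine ⟨F, hinj, et, e0, e1, (eq_of_le_of_card_ge ((closure_le _).2 ?_) ?_).symm⟩
  · rintro y (rfl | rfl)
    exacts [⟨_, e0⟩, ⟨_, e1⟩]
  · rw [h.card_closure, ← Nat.card_congr (MonoidHom.ofInjective hinj).toEquiv, DihedralGroup.nat_card,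
      pow_succ']

/-- The character frame of a frame. -/
noncomputable def Frame.ctx {σ : Hyp G} {t u₁ u₂ g₁ g₂ : G} (h : Frame σ t u₁ u₂ g₁ g₂) (hn : 2 ≤ σ.n) :
    DLin.Ctx G where
  n := σ.n
  two_le := hn
  F := (h.exists_hom hn).choose
  inj := (h.exists_hom hn).choose_spec.1
  sylow := fun Q hQ => by
    have : Fact (Nat.Prime 2) := ⟨Nat.prime_two⟩
    obtain ⟨P, hP⟩ := h.exists_sylow
    obtain ⟨c, hc⟩ := CfsgLib.TwoGroups.exists_conj_le_sylow P hQ
    refine ⟨c, fun p hp => ?_⟩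
    rw [(h.exists_hom hn).choose_spec.2.2.2.2, ← hP]
    exact hc (CfsgLib.TwoGroups.conj_mem_map_conj hp)
  hone := σ.one_class
  U := U t
  hUC := by rw [(h.exists_hom hn).choose_spec.2.1]; exact U_le _
  hUodd := σ.odd_U h.ht
  hUmax := fun y hy ho => (σ.mem_U h.ht).2 ⟨by rwa [(h.exists_hom hn).choose_spec.2.1] at hy, ho⟩
  split := fun c hc => by
    rw [(h.exists_hom hn).choose_spec.2.1] at hc
    obtain ⟨a, ha, s, hs, e⟩ := h.exists_mul hc
    rw [← (h.exists_hom hn).choose_spec.2.2.2.2] at hs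
    obtain ⟨s', rfl⟩ := hs
    exact ⟨a, ha, s', e⟩
  g := fun i => if i then g₂ else g₁
  rot := fun i => by
    obtain ⟨-, et, e0, e1, -⟩ := (h.exists_hom hn).choose_spec
    cases i
    · simpa [et, e0] using h.rot₁
    · simpa [et, e1] using h.rot₂

section

variable {σ : Hyp G} {t u₁ u₂ g₁ g₂ : G} (h : Frame σ t u₁ u₂ g₁ g₂) (hn : 2 ≤ σ.n)

theorem Frame.ctx_w (i : Bool) : (h.ctx hn).w i = if i then u₂ else u₁ := by
  obtain ⟨-, -, e0, e1, -⟩ := (h.exists_hom hn).choose_spec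
  cases i
  · exact e0
  · exact e1

theorem Frame.ctx_good {l : U t →* ℂˣ} (hl₁ : Fixed t u₁ l) (hl₂ : Fixed t u₂ l) :
    (h.ctx hn).Good l := by
  refine ⟨fun i x y e => ?_⟩
  rw [h.ctx_w hn] at e
  cases i
  · exact hl₁ x y (by simpa using e)
  · exact hl₂ x y (by simpa using e)

theorem Frame.ctx_inv {l : U t →* ℂˣ} {i : Bool}
    (hi : InvOn t (if i then u₂ else u₁) (if i then g₂ else g₁) l) : (h.ctx hn).Inv i l := by
  intro x y hx e
  rw [h.ctx_w hn] at hx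
  exact hi x y ⟨x.2, mem_centralizer_of_commute hx⟩ e

end

/-- The dihedral slice for both classes invariant. -/
theorem noInvTwo : NoInvTwo G := by
  intro σ t u₁ u₂ g₁ g₂ l hn h hU hl₁ hl₂ hi₁ hi₂
  haveI := Fintype.ofFinite G
  haveI := σ.simple
  haveI := Fintype.ofFinite (Cfsg.IrrCharacter (h.ctx hn).R)
  haveI := Fintype.ofFinite (Cfsg.IrrCharacter G)
  refine (h.ctx_good hn hl₁ hl₂).eq_one (fun i => h.ctx_inv hn ?_) hU
  cases i
  · exact hi₁
  · exact hi₂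

end CfsgLib.GW.Dne
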