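import Cfsg.Agent.Lib.GW.Pair.Tools
import Cfsg.Agent.Lib.GW.Dne.PSLAut
import Cfsg.Agent.Lib.GW.KFactsProof.Shape
import Cfsg.Agent.Lib.GW.KFactsProof.Small
import Cfsg.Agent.Lib.Char.Burnside

/-!
# A proper subgroup modulo its core: involutions and inverted elements

Complements to `KFactsProof.Shape` for `X ⧸ O(X)`: in the solvable shapes odd elements commuting
with an involution are trivial; in the linear shape inverted elements of odd order are inner and
involutions are inner-diagonal.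
-/

set_option autoImplicit false

namespace CfsgLib.GW.Dne

open Subgroup CfsgLib.GW CfsgLib.GW.KFactsProof CfsgLib.Known.AutPSL
open CfsgLib.Signalizer (involution_sq involution_inv involution_ne_one orderOf_eq_two_of orderOf_conj)

universe u

variable {G : Type u} [Group G] {X : Subgroup G}

/-- `X ⧸ O(X)`. -/
abbrev Bar (X : Subgroup G) := ↥X ⧸ Cfsg.oddCore ↥X

/-- The projection of `X` onto `X ⧸ O(X)`. -/
abbrev bar (X : Subgroup G) : X →* Bar X := QuotientGroup.mk' (Cfsg.oddCore ↥X)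

theorem bar_surjective (X : Subgroup G) : Function.Surjective (bar X) :=
  QuotientGroup.mk'_surjective _

theorem bar_eq_one {x : G} (hx : x ∈ X) : bar X ⟨x, hx⟩ = 1 ↔ x ∈ core X := by
  rw [QuotientGroup.mk'_apply, QuotientGroup.eq_one_iff]
  refine ⟨fun h => ⟨⟨x, hx⟩, h, rfl⟩, ?_⟩
  rintro ⟨y, hy, rfl⟩
  exact hy

theorem bar_mul {a b : G} (ha : a ∈ X) (hb : b ∈ X) :
    bar X ⟨a, ha⟩ * bar X ⟨b, hb⟩ = bar X ⟨a * b, mul_mem ha hb⟩ := (map_mul _ _ _).symm

theorem bar_inv {a : G} (ha : a ∈ X) : (bar X ⟨a, ha⟩)⁻¹ = bar X ⟨a⁻¹, inv_mem ha⟩ :=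
  (map_inv _ _).symm

theorem bar_commute {a b : G} (ha : a ∈ X) (hb : b ∈ X) (h : Commute a b) :
    Commute (bar X ⟨a, ha⟩) (bar X ⟨b, hb⟩) :=
  (show Commute (⟨a, ha⟩ : X) ⟨b, hb⟩ from Subtype.ext h.eq).map (bar X)

theorem bar_conj {a b c : G} (ha : a ∈ X) (hb : b ∈ X) (hc : c ∈ X) (h : a * b * a⁻¹ = c) :
    bar X ⟨a, ha⟩ * bar X ⟨b, hb⟩ * (bar X ⟨a, ha⟩)⁻¹ = bar X ⟨c, hc⟩ := by
  rw [← map_mul, ← map_inv, ← map_mul]
  exact congrArg _ (Subtype.ext h)

variable [Finite G]

theorem oddCore_bar (X : Subgroup G) : Cfsg.oddCore (Bar X) = ⊥ :=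
  CfsgLib.Core.pPrimeCore_quotient_pPrimeCore 2 X

theorem bar_injOn {P : Subgroup X} (hP : IsPGroup 2 P) :
    Function.Injective ((bar X).comp P.subtype) := by
  rw [injective_iff_map_eq_one]
  intro w hw
  obtain ⟨k, hk⟩ := IsPGroup.iff_orderOf.1 hP w
  have h1 : (w : X) ∈ Cfsg.oddCore X := (QuotientGroup.eq_one_iff _).1 hw
  have h2 : Odd (orderOf (w : X)) := odd_orderOf_of_mem (CfsgLib.ZStar.odd_card_oddCore X) h1
  rw [Subgroup.orderOf_coe, hk] at h2
  refine orderOf_eq_one_iff.1 ?_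
  rcases k with _ | k
  · rw [hk, pow_zero]
  · exact absurd h2 (by simp [Nat.even_pow, parity_simps])

theorem bar_two_ne_one {x : G} (hx : x ∈ X) (ho : orderOf x = 2) : bar X ⟨x, hx⟩ ≠ 1 := by
  intro h
  have := odd_orderOf_of_mem (Pair.odd_core X) ((bar_eq_one hx).1 h)
  rw [ho] at this
  exact absurd this (by decide)

theorem bar_two_sq {x : G} (hx : x ∈ X) (ho : orderOf x = 2) :
    bar X ⟨x, hx⟩ * bar X ⟨x, hx⟩ = 1 := by
  rw [← map_mul, show (⟨x, hx⟩ : X) * ⟨x, hx⟩ = 1 from Subtype.ext (involution_sq ho), map_one]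

theorem bar_pair_ne {t u : G} (ht : t ∈ X) (hu : u ∈ X) (hto : orderOf t = 2) (huo : orderOf u = 2)
    (hne : t ≠ u) (hc : Commute t u) : bar X ⟨t, ht⟩ ≠ bar X ⟨u, hu⟩ := by
  intro h
  refine bar_two_ne_one (mul_mem ht hu) (Pair.Four.orderOf_mul ⟨hto, huo, hne, hc⟩) ?_
  rw [← bar_mul ht hu, h, bar_two_sq hu huo]

theorem bar_odd {x : G} (hx : x ∈ X) (ho : Odd (orderOf x)) : Odd (orderOf (bar X ⟨x, hx⟩)) :=
  ho.of_dvd_nat (by rw [← Subgroup.orderOf_mk x hx]; exact orderOf_map_dvd _ _)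

/-- In a Klein shape odd elements commuting with an involution are trivial. -/
theorem eq_one_of_klein {n : ℕ} {K : Type u} [Group K] [Finite K] (A : Ambient n K)
    (hK : Klein K) {a z : K} (ha : Odd (orderOf a))
    (hz : z * z = 1) (hz1 : z ≠ 1) (haz : Commute a z) : a = 1 := by
  classical
  obtain ⟨V, hVn, hV4, hexp, hCVeq⟩ := hK.exists_four
  have hCV : centralizer (V : Set K) ≤ V := hCVeq.le
  have hthree : ∀ {x y c : K}, x * x = 1 → y * y = 1 → c * c = 1 → x ≠ 1 → y ≠ 1 → x ≠ y →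
      Commute x y → Commute x c → Commute y c → c = 1 ∨ c = x ∨ c = y ∨ c = x * y :=
    fun hx hy hc hx1 hy1 hne h1 h2 h3 =>
      A.three ⟨orderOf_eq_two_of hx1 hx, orderOf_eq_two_of hy1 hy, hne, h1⟩ hc h2 h3
  have hfin : (∀ v ∈ V, Commute a v) → a = 1 := fun h => by
    have h1 := hexp a (hCV (mem_centralizer_iff.2 fun v hv => (h v hv).eq.symm))
    exact eq_one_of_inv_self ha (inv_eq_of_mul_eq_one_right h1)
  have hcomm : ∀ v ∈ V, ∀ w ∈ V, Commute v w := fun v hv w hw => by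
    calc v * w = (v * w)⁻¹ := (inv_eq_of_mul_eq_one_right (hexp _ (mul_mem hv hw))).symm
      _ = w * v := by rw [_root_.mul_inv_rev, inv_eq_of_mul_eq_one_right (hexp v hv),
        inv_eq_of_mul_eq_one_right (hexp w hw)]
  have hconj : ∀ v ∈ V, a * v * a⁻¹ ∈ V := fun v hv => hVn.conj_mem v hv a
  -- a nontrivial fixed point forces a trivial action
  have hfix : ∀ w ∈ V, w ≠ 1 → Commute a w → ∀ v ∈ V, Commute a v := by
    intro w hw hw1 haw v hv
    have hodd : a ∈ zpowers (a * a) := Pair.mem_zpowers_sq ha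
    refine Commute.symm ?_
    obtain ⟨k, hk⟩ := hodd
    rw [← hk]
    refine Commute.zpow_right (Commute.symm ?_) k
    refine commute_of_conj_eq ?_
    by_cases hv1 : v = 1
    · simp [hv1]
    by_cases hvw : v = w
    · rw [hvw]; exact conj_eq_of_commute ((haw.mul_left haw))
    have hsq : a * a * v * (a * a)⁻¹ = a * (a * v * a⁻¹) * a⁻¹ := by group
    rw [hsq]
    have hv' := hconj v hv
    rcases hthree (hexp w hw) (hexp v hv) (hexp _ hv') hw1 hv1 (Ne.symm hvw)
      (hcomm w hw v hv) (hcomm w hw _ hv') (hcomm v hv _ hv') with e | e | e | e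
    · exact absurd (conj_eq_one_iff.1 e) hv1
    · exact absurd (mul_left_cancel (mul_right_cancel (e.trans (conj_eq_of_commute haw).symm))) hvw
    · rw [e, e]
    · rw [e, show a * (w * v) * a⁻¹ = a * w * a⁻¹ * (a * v * a⁻¹) by group, conj_eq_of_commute haw, e,
        ← mul_assoc, hexp w hw, one_mul]
  by_cases hzV : z ∈ V
  · exact hfin (hfix z hzV hz1 haz)
  obtain ⟨v, hv, hvz⟩ : ∃ v ∈ V, ¬ Commute z v := by
    by_contra hno
    push Not at hno
    exact hzV (hCV (mem_centralizer_iff.2 fun v hv => (hno v hv).eq.symm))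
  have hv' : z * v * z⁻¹ ∈ V := hVn.conj_mem v hv z
  set w := v * (z * v * z⁻¹)
  have hw : w ∈ V := mul_mem hv hv'
  have hw1 : w ≠ 1 := fun e => hvz (commute_of_conj_eq (by
    have := eq_inv_of_mul_eq_one_right e
    rw [this, inv_eq_of_mul_eq_one_right (hexp v hv)]))
  have hzw : Commute z w := commute_of_conj_eq (by
    rw [show z * w * z⁻¹ = z * v * z⁻¹ * ((z * z) * v * (z * z)⁻¹) by
      show z * (v * (z * v * z⁻¹)) * z⁻¹ = _; group, hz, one_mul, inv_one, mul_one]
    exact (hcomm _ hv' v hv).eq)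
  -- `a w a⁻¹` is another fixed point of `z`
  have hw' := hconj w hw
  have hzw' : Commute z (a * w * a⁻¹) := (haz.symm.mul_right hzw).mul_right haz.symm.inv_right
  by_cases haw : Commute a w
  · exact hfin (hfix w hw hw1 haw)
  exfalso
  have hne : w ≠ a * w * a⁻¹ := fun e => haw (commute_of_conj_eq e.symm)
  rcases hthree (hexp w hw) (hexp _ hw') hz hw1 (fun e => hw1 (conj_eq_one_iff.1 e)) hne
    (hcomm w hw _ hw') hzw.symm hzw'.symm with e | e | e | e
  exacts [hz1 e, hzV (e ▸ hw), hzV (e ▸ hw'), hzV (e ▸ mul_mem hw hw')]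

variable (σ : Hyp G)

include σ in
theorem ambient_bar : Ambient σ.n (Bar X) := ambient σ X

include σ in
/-- In the solvable case odd elements commuting with an involution are trivial. -/
theorem eq_one_of_solvable (hX : X ≠ ⊤) (hs : Group.IsSolvable X) {a z : Bar X}
    (ha : Odd (orderOf a)) (hz : z * z = 1) (hz1 : z ≠ 1) (haz : Commute a z) : a = 1 := by
  haveI : Group.IsSolvable (Bar X) := solvable_of_surjective (bar_surjective X)
  rcases (ambient_bar (X := X) σ).solvable_shape with h | h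
  · exact eq_one_of_isPGroup_two h ha
  · exact eq_one_of_klein (ambient_bar (X := X) σ) h ha hz hz1 haz

theorem solvable_of_solvable_bar (X : Subgroup G) [Group.IsSolvable (Bar X)] :
    Group.IsSolvable X := by
  haveI : Group.IsSolvable (Cfsg.oddCore X) :=
    CfsgLib.OddLocal.FTFinal.odd_order_solvable (CfsgLib.ZStar.odd_card_oddCore X)
  exact CfsgLib.OddGated.isSolvable_of_normal (Cfsg.oddCore X) inferInstance inferInstance

/-- The linear shape of a subgroup modulo its core. -/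
structure LinBar (X : Subgroup G) where
  F : Type
  [fld : Field F]
  [fin : Fintype F]
  L : Subgroup (Bar X)
  [normal : L.Normal]
  e : L ≃* PSL 2 F
  lin : IsLin L e

attribute [instance] LinBar.fld LinBar.fin LinBar.normal

include σ in
theorem bar_cases (hX : X ≠ ⊤) (hns : ¬ Group.IsSolvable X) :
    Nonempty (LinBar X) ∨ Seven X := by
  rcases shape σ X hX with h | h | ⟨F, L, e, h⟩ | h
  · haveI : Fact (Nat.Prime 2) := ⟨Nat.prime_two⟩
    haveI := h.isNilpotent
    exact absurd (solvable_of_solvable_bar X) hns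
  · obtain ⟨d₁, d₂, h1, h2, hd⟩ := Nat.dvd_mul.1 (show Nat.card (Bar X) ∣ 2 ^ 3 * 3 from h.dvd)
    obtain ⟨i, -, rfl⟩ := (Nat.dvd_prime_pow Nat.prime_two).1 h1
    obtain ⟨j, -, rfl⟩ := (Nat.dvd_prime_pow Nat.prime_three).1 (show d₂ ∣ 3 ^ 1 by simpa using h2)
    haveI : Group.IsSolvable (Bar X) :=
      CfsgLib.Burnside.isSolvable_of_card_eq Nat.prime_two Nat.prime_three hd.symm
    exact absurd (solvable_of_solvable_bar X) hns
  · exact Or.inl ⟨⟨F, L, e, h⟩⟩
  · exact Or.inr h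

namespace LinBar

variable (E : LinBar X)

/-- The action on `PSL 2 F`. -/
noncomputable abbrev φ : Bar X →* MulAut (PSL 2 E.F) := toAut E.L E.e

omit [Finite G] in
theorem h2 : (2 : E.F) ≠ 0 := CfsgLib.Classical.Dickson.two_ne_zero_of_odd E.lin.odd

theorem φ_injective : Function.Injective E.φ := toAut_injective E.lin

theorem mem_range_of_mem {x : Bar X} (hx : x ∈ E.L) : E.φ x ∈ (innDiag 2 E.F).range :=
  inn_le_inndiag (inn_of_mem hx)

/-- Elements of odd order inverted by another one are inner. -/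
theorem mem_of_inverted {a u : Bar X} (ha : Odd (orderOf a)) (h : u * a * u⁻¹ = a⁻¹) : a ∈ E.L := by
  refine mem_of_inn E.lin ?_
  have h2 : E.φ (a * a) ∈ Cfsg.Inn (PSL 2 E.F) := by
    rw [show a * a = (u * a * u⁻¹ * a⁻¹)⁻¹ by rw [h, ← _root_.mul_inv_rev, inv_inv], map_inv]
    refine inv_mem ?_
    rw [map_mul, map_mul, map_mul, map_inv, map_inv]
    exact commutator_mem_inn _ _
  obtain ⟨k, hk⟩ := ha
  have h3 : a = (a * a) ^ (k + 1) := by
    rw [← pow_two, ← pow_mul, show 2 * (k + 1) = orderOf a + 1 by omega, pow_succ,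
      pow_orderOf_eq_one, one_mul]
  rw [h3, map_pow]
  exact pow_mem h2 _

include σ in
/-- Involutions are inner-diagonal. -/
theorem invol_mem {z : Bar X} (hz : z * z = 1) : E.φ z ∈ (innDiag 2 E.F).range := by
  obtain ⟨g, σ', hg⟩ := exists_semilin (E.φ z)
  have h := (ambient_bar (X := X) σ).fld_eq_one_of_sq E.lin hz
  have hg' : toAut E.L E.e z = semilin g σ' := hg
  rw [hg', fld_semilin] at h
  exact ⟨g, by rw [hg, h]; rfl⟩

end LinBar

end CfsgLib.GW.Dne
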