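import Cfsg.Agent.Lib.GW.Dne.Setup

/-!
# Every pair of commuting involutions is rotated (minimal counterexample setting)
-/

set_option autoImplicit false

namespace CfsgLib.GW.Dne

open Subgroup DihedralGroup CfsgLib.GW
open CfsgLib.TwoGroups CfsgLib.TwoGroups.Dihedral
open CfsgLib.Signalizer (involution_sq involution_inv involution_ne_one orderOf_eq_two_of orderOf_conj)

universe u

namespace Hyp

variable {G : Type u} [Group G] [Finite G] (σ : Hyp G)

include σ in
/-- For a Sylow subgroup of order at least eight the centraliser of `t` swaps the other two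
involutions of a four-group. -/
theorem exists_swap (hn : 2 ≤ σ.n) {t u : G} (ht : orderOf t = 2) (hu : orderOf u = 2) (hne : t ≠ u)
    (hc : Commute t u) : ∃ c : G, c * t * c⁻¹ = t ∧ c * u * c⁻¹ = t * u := by
  classical
  have : Fact (Nat.Prime 2) := ⟨Nat.prime_two⟩
  have hn1 : 1 ≤ σ.n := σ.pos
  set z : G := σ.f (r (half σ.n)) with hz
  obtain ⟨d, hd⟩ := isConj_iff.1 (σ.one_class t z ht (orderOf_half σ.inj σ.pos))
  set w : G := d * u * d⁻¹ with hw
  have hwo : orderOf w = 2 := by rw [hw, orderOf_conj]; exact hu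
  have hwz : Commute z w := by rw [← hd]; exact hc.map (MulAut.conj d).toMonoidHom
  have hwne : z ≠ w := fun e => hne (by
    rw [← hd] at e
    exact mul_left_cancel (mul_right_cancel e))
  set C := centralizer ({z} : Set G) with hC
  have hSC : (σ.S : Subgroup G) ≤ C := by
    rw [← σ.range]
    rintro _ ⟨a, rfl⟩
    refine mem_centralizer_of_commute ?_
    show σ.f a * σ.f (r (half σ.n)) = σ.f (r (half σ.n)) * σ.f a
    rw [← map_mul, ← map_mul]
    rcases a with i | i
    · rw [r_mul_r, r_mul_r, add_comm]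
    · rw [r_mul_sr, sr_mul_r, sub_eq_add_neg, neg_half σ.pos]
  have hQ : IsPGroup 2 ((four z w).subgroupOf C) :=
    (isPGroup_four (orderOf_half σ.inj σ.pos) hwo hwz).comap_of_injective _ C.subtype_injective
  obtain ⟨k, hk⟩ := CfsgLib.TwoGroups.exists_conj_le_sylow (σ.S.subtype hSC) hQ
  have hwC : w ∈ C := mem_centralizer_of_commute hwz.symm
  have h1 := hk (CfsgLib.TwoGroups.conj_mem_map_conj
    (show (⟨w, hwC⟩ : C) ∈ (four z w).subgroupOf C from subset_closure (by simp)))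
  rw [Sylow.coe_subtype, mem_subgroupOf] at h1
  obtain ⟨b, hb⟩ := (σ.range ▸ h1 : ((k : G) * w * (k : G)⁻¹) ∈ σ.f.range)
  have hkz : (k : G) * z * (k : G)⁻¹ = z := conj_eq_of_commute (commute_of_mem_centralizer k.2)
  obtain ⟨j, rfl⟩ : ∃ j, b = sr j := by
    rcases b with i | j
    · exfalso
      have h2 : orderOf ((r i : DihedralGroup (2 ^ σ.n))) = 2 := by
        rw [← orderOf_injective σ.f σ.inj, hb, orderOf_conj]; exact hwo
      rcases sq_eq_one_r σ.pos (involution_sq h2) with e | e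
      · exact involution_ne_one h2 e
      · rw [e, ← hz] at hb
        exact hwne (mul_left_cancel (mul_right_cancel (hkz.trans hb)))
    · exact ⟨j, rfl⟩
  obtain ⟨m, hm⟩ : ∃ m : ZMod (2 ^ σ.n), m + m = half σ.n := by
    refine ⟨((2 ^ (σ.n - 2) : ℕ) : ZMod (2 ^ σ.n)), ?_⟩
    rw [half, ← Nat.cast_add, ← two_mul, ← pow_succ', show σ.n - 2 + 1 = σ.n - 1 by omega]
  set e : G := (k : G) * d with he
  refine ⟨e⁻¹ * σ.f (r m) * e, ?_, ?_⟩
  · have h2 : e * t * e⁻¹ = z := by
      rw [he, show (k : G) * d * t * ((k : G) * d)⁻¹ = k * (d * t * d⁻¹) * (k : G)⁻¹ by group, hd, hkz]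
    have h3 : σ.f (r m) * z * (σ.f (r m))⁻¹ = z := by
      refine conj_eq_of_commute ?_
      show σ.f (r m) * σ.f (r (half σ.n)) = σ.f (r (half σ.n)) * σ.f (r m)
      rw [← map_mul, ← map_mul, r_mul_r, r_mul_r, add_comm]
    calc e⁻¹ * σ.f (r m) * e * t * (e⁻¹ * σ.f (r m) * e)⁻¹
        = e⁻¹ * (σ.f (r m) * (e * t * e⁻¹) * (σ.f (r m))⁻¹) * e := by group
      _ = e⁻¹ * (e * t * e⁻¹) * e := by rw [h2, h3]
      _ = t := by group
  · have h2 : e * u * e⁻¹ = σ.f (sr j) := by rw [hb, he, hw]; group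
    have h2' : e * (t * u) * e⁻¹ = z * σ.f (sr j) := by
      rw [show e * (t * u) * e⁻¹ = (k : G) * (d * t * d⁻¹) * (k : G)⁻¹ * (e * u * e⁻¹) by
        rw [he]; group, hd, hkz, h2]
    have h3 : σ.f (r m) * σ.f (sr j) * (σ.f (r m))⁻¹ = z * σ.f (sr j) := by
      rw [hz, ← map_inv, ← map_mul, ← map_mul, ← map_mul]
      congr 1
      rw [inv_r, r_mul_sr, sr_mul_r, r_mul_sr]
      congr 1
      linear_combination -(hm)
    calc e⁻¹ * σ.f (r m) * e * u * (e⁻¹ * σ.f (r m) * e)⁻¹
        = e⁻¹ * (σ.f (r m) * (e * u * e⁻¹) * (σ.f (r m))⁻¹) * e := by group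
      _ = e⁻¹ * (e * (t * u) * e⁻¹) * e := by rw [h2, h3, h2']
      _ = t * u := by group

include σ in
/-- Every four-group is rotated. -/
theorem exists_rot_of_pair {t u : G} (ht : orderOf t = 2) (hu : orderOf u = 2) (hne : t ≠ u)
    (hc : Commute t u) : ∃ g, Rot t u g := by
  classical
  rcases Nat.lt_or_ge σ.n 2 with hn | hn
  · have hn1 : σ.n = 1 := by have := σ.pos; omega
    have : Fact (Nat.Prime 2) := ⟨Nat.prime_two⟩
    obtain ⟨P, hP⟩ := (isPGroup_four ht hu hc).exists_le_sylow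
    have htP : t ∈ (P : Subgroup G) := hP (subset_closure (by simp))
    have huP : u ∈ (P : Subgroup G) := hP (subset_closure (by simp))
    obtain ⟨c, hcP⟩ := MulAction.exists_smul_eq G P σ.S
    have hexp : ∀ p ∈ (P : Subgroup G), p * p = 1 := by
      intro p hp
      have h1 : c * p * c⁻¹ ∈ σ.f.range := by
        rw [σ.range, ← hcP]
        exact ⟨p, hp, rfl⟩
      obtain ⟨a, ha⟩ := h1
      have h2 : a * a = 1 := by
        haveI : NeZero (2 ^ σ.n) := ⟨pow_ne_zero _ two_ne_zero⟩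
        rcases a with i | i
        · rw [r_mul_r]
          have h0 : ∀ m : ℕ, m = 1 → ∀ j : ZMod (2 ^ m), j + j = 0 := by
            rintro m rfl; decide
          have : i + i = 0 := h0 σ.n hn1 i
          rw [this]; rfl
        · exact sr_mul_self i
      have h3 := congrArg σ.f h2
      rw [map_mul, map_one, ha, show c * p * c⁻¹ * (c * p * c⁻¹) = c * (p * p) * c⁻¹ by group] at h3
      exact conj_eq_one_iff.1 h3
    have hcomm : ∀ a ∈ (P : Subgroup G), ∀ b ∈ (P : Subgroup G), Commute a b := by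
      intro a ha b hb
      calc a * b = (a * b)⁻¹ := (inv_eq_of_mul_eq_one_right (hexp _ (mul_mem ha hb))).symm
        _ = b * a := by rw [mul_inv_rev, inv_eq_of_mul_eq_one_right (hexp a ha),
          inv_eq_of_mul_eq_one_right (hexp b hb)]
    have hcen : ∀ {x : G}, x ∈ (P : Subgroup G) → x ∈ centralizer ((P : Subgroup G) : Set G) :=
      fun hx => mem_centralizer_iff.2 fun y hy => (hcomm y hy _ hx).eq
    obtain ⟨a, ha⟩ := isConj_iff.1 (σ.one_class t u ht hu)
    obtain ⟨m, hm, hme⟩ := Sylow.conj_eq_normalizer_conj_of_mem_centralizer P t a⁻¹ (hcen htP)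
      (by rw [inv_inv, ha]; exact hcen huP)
    rw [inv_inv, ha] at hme
    set k : G := m⁻¹ with hk
    have hkN : k ∈ normalizer ((P : Subgroup G) : Set G) := inv_mem hm
    have hkt : k * t * k⁻¹ = u := by rw [hk, inv_inv]; exact hme.symm
    rcases three_involutions σ.inj σ.range σ.pos ht hu
      (hexp _ ((mem_normalizer_iff.1 hkN u).1 huP)) hne hc (hcomm _ htP _ ((mem_normalizer_iff.1 hkN u).1 huP))
      (hcomm _ huP _ ((mem_normalizer_iff.1 hkN u).1 huP)) with e | e | e | e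
    · exact absurd (conj_eq_one_iff.1 e) (involution_ne_one hu)
    · exfalso
      obtain ⟨a, l, hl, hko⟩ := Nat.exists_eq_two_pow_mul_odd (orderOf_pos k).ne'
      have h2 : IsPGroup 2 (zpowers (k ^ l)) := by
        refine IsPGroup.of_card (n := a) ?_
        rw [Nat.card_zpowers, orderOf_pow_of_dvd hl.pos.ne' (hko ▸ dvd_mul_left _ _), hko,
          Nat.mul_div_cancel _ hl.pos]
      have h3 : IsPGroup 2 ((P : Subgroup G) ⊔ zpowers (k ^ l) : Subgroup G) :=
        P.2.to_sup_of_normal_left' h2 (zpowers_le.2 (pow_mem hkN _))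
      have h4 : k ^ l ∈ (P : Subgroup G) := by
        rw [← P.3 h3 le_sup_left]
        exact mem_sup_right (mem_zpowers _)
      have h5 : k ^ l * t * (k ^ l)⁻¹ = t := conj_eq_of_commute (hcomm _ h4 _ htP)
      obtain ⟨q, rfl⟩ := hl
      have h6 : ∀ q : ℕ, k ^ (2 * q) * t * (k ^ (2 * q))⁻¹ = t := by
        intro q
        induction q with
        | zero => simp
        | succ q ih =>
          calc k ^ (2 * (q + 1)) * t * (k ^ (2 * (q + 1)))⁻¹
              = k * (k * (k ^ (2 * q) * t * (k ^ (2 * q))⁻¹) * k⁻¹) * k⁻¹ := by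
                rw [show 2 * (q + 1) = 1 + (1 + 2 * q) by ring, pow_add, pow_add, pow_one]; group
            _ = t := by rw [ih, hkt]; exact e
      refine hne (h5.symm.trans ?_)
      calc k ^ (2 * q + 1) * t * (k ^ (2 * q + 1))⁻¹
          = k * (k ^ (2 * q) * t * (k ^ (2 * q))⁻¹) * k⁻¹ := by
            rw [show 2 * q + 1 = 1 + 2 * q by ring, pow_add, pow_one]; group
        _ = u := by rw [h6, hkt]
    · exact absurd ((MulAut.conj k).injective (e.trans hkt.symm : k * u * k⁻¹ = k * t * k⁻¹)) hne.symm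
    · exact ⟨k, ⟨ht, hu, hne, hc, hkt, e⟩⟩
  · obtain ⟨c₁, h1t, h1u⟩ := σ.exists_swap hn ht hu hne hc
    obtain ⟨c₂, h2u, h2t⟩ := σ.exists_swap hn hu ht hne.symm hc.symm
    refine ⟨c₁ * c₂, ht, hu, hne, hc, ?_, ?_⟩
    · calc c₁ * c₂ * t * (c₁ * c₂)⁻¹ = c₁ * (c₂ * t * c₂⁻¹) * c₁⁻¹ := by group
        _ = c₁ * t * c₁⁻¹ * (c₁ * u * c₁⁻¹) := by rw [h2t, hc.symm.eq]; group
        _ = u := by rw [h1t, h1u, ← mul_assoc, involution_sq ht, one_mul]
    · calc c₁ * c₂ * u * (c₁ * c₂)⁻¹ = c₁ * (c₂ * u * c₂⁻¹) * c₁⁻¹ := by group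
        _ = t * u := by rw [h2u, h1u]

end Hyp

end CfsgLib.GW.Dne
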